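import Cfsg.Agent.H188.Split

/-!
# The difference of two extensions of `M23` by the same module (helper188)
-/

set_option autoImplicit false

namespace Cfsg.Agent.H188.Baer

open Cfsg Cfsg.Agent.H188.Coll Cfsg.Agent.H188.Lin Cfsg.Agent.H188.Tab Cfsg.Agent.H188.Setup
open Cfsg.Agent.H188.Split

/-- The fibre product. -/
def Fp {E E' : Type*} [Group E] [Group E'] (f1 : E →* Spor.M23) (f2 : E' →* Spor.M23) :
    Subgroup (E × E') :=
  (f1.comp (MonoidHom.fst E E')).eqLocus (f2.comp (MonoidHom.snd E E'))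

theorem mem_Fp {E E' : Type*} [Group E] [Group E'] {f1 : E →* Spor.M23} {f2 : E' →* Spor.M23}
    {p : E × E'} : p ∈ Fp f1 f2 ↔ f1 p.1 = f2 p.2 := Iff.rfl

/-- Two extensions by the same module. -/
structure Pair {E E' : Type*} [Group E] [Group E'] (f1 : E →* Spor.M23) (f2 : E' →* Spor.M23)
    (c1 : ℕ → E) (c2 : ℕ → E') (cols : ℕ → List ℕ) (A : Spor.M23 → ℕ → ℕ) : Prop where
  h1 : MExt f1 c1 cols
  h2 : MExt f2 c2 cols
  lt : ∀ g a, A g a < 2048
  a1 : ∀ n a, n * c1 a * n⁻¹ = c1 (A (f1 n) a)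
  a2 : ∀ n a, n * c2 a * n⁻¹ = c2 (A (f2 n) a)

section

variable {E E' : Type*} [Group E] [Group E'] {f1 : E →* Spor.M23} {f2 : E' →* Spor.M23}
    {c1 : ℕ → E} {c2 : ℕ → E'} {cols : ℕ → List ℕ} {A : Spor.M23 → ℕ → ℕ}
    (P : Pair f1 f2 c1 c2 cols A)

/-- The diagonal of the two modules. -/
def Dg : Subgroup ↥(Fp f1 f2) where
  carrier := {p | ∃ a, a < 2048 ∧ (p : E × E') = (c1 a, c2 a)}
  one_mem' := ⟨0, by norm_num, by rw [P.h1.c_zero, P.h2.c_zero]; rfl⟩
  mul_mem' := by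
    rintro p q ⟨a, ha, hp⟩ ⟨b, hb, hq⟩
    refine ⟨a ^^^ b, P.h1.xor_lt ha hb, ?_⟩
    rw [Subgroup.coe_mul, hp, hq, P.h1.xor a b ha hb, P.h2.xor a b ha hb]
    rfl
  inv_mem' := by
    rintro p ⟨a, ha, hp⟩
    refine ⟨a, ha, ?_⟩
    rw [Subgroup.coe_inv, hp]
    exact Prod.ext (inv_eq_of_mul_eq_one_right (P.h1.sq ha)) (inv_eq_of_mul_eq_one_right (P.h2.sq ha))

theorem mem_Dg {p : ↥(Fp f1 f2)} : p ∈ Dg P ↔ ∃ a, a < 2048 ∧ (p : E × E') = (c1 a, c2 a) := Iff.rfl

theorem normal_Dg : (Dg P).Normal := by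
  constructor
  rintro p ⟨a, ha, hp⟩ g
  have hg : f1 (g : E × E').1 = f2 (g : E × E').2 := g.2
  refine ⟨A (f1 (g : E × E').1) a, P.lt _ _, ?_⟩
  rw [Subgroup.coe_mul, Subgroup.coe_mul, Subgroup.coe_inv, hp]
  refine Prod.ext ?_ ?_
  · show (g : E × E').1 * c1 a * ((g : E × E').1)⁻¹ = _
    rw [P.a1]
  · show (g : E × E').2 * c2 a * ((g : E × E').2)⁻¹ = _
    rw [P.a2, hg]

/-- An element of the fibre product. -/
def mkF (x : E) (y : E') (h : f1 x = f2 y) : ↥(Fp f1 f2) := ⟨(x, y), h⟩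

/-- The projection of the fibre product. -/
def pF (f1 : E →* Spor.M23) (f2 : E' →* Spor.M23) : ↥(Fp f1 f2) →* Spor.M23 :=
  (f1.comp (MonoidHom.fst E E')).comp (Fp f1 f2).subtype

theorem pF_apply (p : ↥(Fp f1 f2)) : pF f1 f2 p = f1 (p : E × E').1 := rfl

theorem Dg_le : Dg P ≤ (pF f1 f2).ker := by
  rintro p ⟨a, ha, hp⟩
  rw [MonoidHom.mem_ker, pF_apply, hp]
  exact P.h1.map_c ha

/-- The quotient. -/
abbrev Q : Type _ := ↥(Fp f1 f2) ⧸ Dg P

instance instGroupQ : Group (Q P) := by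
  have := normal_Dg P
  exact QuotientGroup.Quotient.group (Dg P)

/-- The quotient map. -/
def qm : ↥(Fp f1 f2) →* Q P := by
  have := normal_Dg P
  exact QuotientGroup.mk' (Dg P)

theorem qm_surj : Function.Surjective (qm P) := by
  have := normal_Dg P
  exact QuotientGroup.mk'_surjective (Dg P)

theorem qm_eq_one {p : ↥(Fp f1 f2)} : qm P p = 1 ↔ p ∈ Dg P := by
  have := normal_Dg P
  exact QuotientGroup.eq_one_iff p

/-- The projection of the quotient. -/
def fQ : Q P →* Spor.M23 := by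
  have := normal_Dg P
  exact QuotientGroup.lift (Dg P) (pF f1 f2) (Dg_le P)

theorem fQ_qm (p : ↥(Fp f1 f2)) : fQ P (qm P p) = f1 (p : E × E').1 := rfl

include P in
theorem c1_mem {a : ℕ} (ha : a < 2048) : f1 (c1 a) = f2 1 := by rw [P.h1.map_c ha, map_one]

open Classical in
/-- The module in the quotient. -/
noncomputable def cQ (a : ℕ) : Q P :=
  if h : a < 2048 then qm P (mkF (c1 a) 1 (c1_mem P h)) else 1

theorem cQ_eq {a : ℕ} (h : a < 2048) : cQ P a = qm P (mkF (c1 a) 1 (c1_mem P h)) := dif_pos h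

theorem qm_eq_of {p q : ↥(Fp f1 f2)} {a : ℕ} (ha : a < 2048) (h1 : (p : E × E').1 = (q : E × E').1 * c1 a)
    (h2 : (p : E × E').2 = (q : E × E').2 * c2 a) : qm P p = qm P q := by
  have h3 : qm P (q⁻¹ * p) = 1 := by
    rw [qm_eq_one]
    refine ⟨a, ha, Prod.ext ?_ ?_⟩
    · show ((q : E × E').1)⁻¹ * (p : E × E').1 = c1 a
      rw [h1, inv_mul_cancel_left]
    · show ((q : E × E').2)⁻¹ * (p : E × E').2 = c2 a
      rw [h2, inv_mul_cancel_left]
  rw [map_mul, map_inv, inv_mul_eq_one] at h3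
  exact h3.symm

/-- A pair of elements of the two modules. -/
theorem qm_pair {x : E} {y : E'} (h : f1 x = f2 y) {a b : ℕ} (ha : a < 2048) (hb : b < 2048)
    (h' : f1 (x * c1 a) = f2 (y * c2 b)) :
    qm P (mkF (x * c1 a) (y * c2 b) h') = qm P (mkF x y h) * cQ P (a ^^^ b) := by
  rw [cQ_eq P (P.h1.xor_lt ha hb), ← map_mul]
  apply qm_eq_of P hb
  · show x * c1 a = x * c1 (a ^^^ b) * c1 b
    rw [P.h1.xor a b ha hb, mul_assoc, mul_assoc, P.h1.sq hb, mul_one]
  · show y * c2 b = y * 1 * c2 b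
    rw [mul_one]

theorem qm_pair_one {a b : ℕ} (ha : a < 2048) (hb : b < 2048) (h' : f1 (c1 a) = f2 (c2 b)) :
    qm P (mkF (c1 a) (c2 b) h') = cQ P (a ^^^ b) := by
  rw [cQ_eq P (P.h1.xor_lt ha hb)]
  apply qm_eq_of P hb
  · show c1 a = c1 (a ^^^ b) * c1 b
    rw [P.h1.xor a b ha hb, mul_assoc, P.h1.sq hb, mul_one]
  · show c2 b = 1 * c2 b
    rw [one_mul]

theorem mext : MExt (fQ P) (cQ P) cols := by
  refine ⟨fun g => ?_, fun n => ?_, fun a b ha hb => ?_, fun a ha h => ?_, fun k hk n hn a ha => ?_,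
    P.h1.len, P.h1.lt⟩
  · obtain ⟨x, hx⟩ := P.h1.surj g
    obtain ⟨y, hy⟩ := P.h2.surj g
    exact ⟨qm P (mkF x y (by rw [hx, hy])), hx⟩
  · obtain ⟨p, rfl⟩ := qm_surj P n
    obtain ⟨⟨x, y⟩, hp⟩ := p
    have hp' : f1 x = f2 y := hp
    constructor
    · intro h
      have hx : f1 x = 1 := h
      obtain ⟨a, ha, rfl⟩ := (P.h1.ker x).1 hx
      obtain ⟨b, hb, rfl⟩ := (P.h2.ker y).1 (by rw [← hp', hx])
      exact ⟨a ^^^ b, P.h1.xor_lt ha hb, qm_pair_one P ha hb hp'⟩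
    · rintro ⟨a, ha, h⟩
      rw [h, cQ_eq P ha, fQ_qm]
      exact P.h1.map_c ha
  · rw [cQ_eq P (P.h1.xor_lt ha hb), cQ_eq P ha, cQ_eq P hb, ← map_mul]
    congr 1
    exact Subtype.ext (Prod.ext (P.h1.xor a b ha hb) (one_mul 1).symm)
  · rw [cQ_eq P ha, qm_eq_one] at h
    obtain ⟨b, hb, h1⟩ := h
    have h2 : c1 a = c1 b := congrArg Prod.fst h1
    have h3 : 1 = c2 b := congrArg Prod.snd h1
    have h4 := P.h2.inj b hb h3.symm
    rw [h4, P.h1.c_zero] at h2
    exact P.h1.inj a ha h2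
  · obtain ⟨p, rfl⟩ := qm_surj P n
    obtain ⟨⟨x, y⟩, hp⟩ := p
    have hx : f1 x = el k := hn
    have hl : linc (cols k) a < 2048 := by
      refine linc_lt_of _ _ (P.h1.lt k hk)
    rw [cQ_eq P ha, cQ_eq P hl, ← map_inv, ← map_mul, ← map_mul]
    congr 1
    refine Subtype.ext (Prod.ext ?_ ?_)
    · exact P.h1.act k hk x hx a ha
    · show y * 1 * y⁻¹ = 1
      rw [mul_one, mul_inv_cancel]
where
  linc_lt_of : ∀ (l : List ℕ) (a : ℕ), (∀ m ∈ l, m < 2048) → linc l a < 2048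
    | [], _, _ => by unfold linc; norm_num
    | m :: ms, a, h => by
      unfold linc
      refine Nat.xor_lt_two_pow (n := 11) ?_ (linc_lt_of ms _ fun x hx => h x (List.mem_cons_of_mem _ hx))
      have := h m List.mem_cons_self
      rcases Nat.mod_two_eq_zero_or_one a with h1 | h1
      · rw [h1, zero_mul]; norm_num
      · rw [h1, one_mul]; exact this

variable {X1 : ℕ → E} {X2 : ℕ → E'} {t1 t2 : ℕ → ℕ}

open Classical in
/-- The lifts. -/
noncomputable def XQ (X1 : ℕ → E) (X2 : ℕ → E') (k : ℕ) : Q P :=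
  if h : f1 (X1 k) = f2 (X2 k) then qm P (mkF (X1 k) (X2 k) h) else 1

theorem lifts (L1 : Lifts f1 c1 X1 t1) (L2 : Lifts f2 c2 X2 t2) :
    Lifts (fQ P) (cQ P) (XQ P X1 X2) (fun r => t1 r ^^^ t2 r) := by
  have hX : ∀ k, k < 9 → f1 (X1 k) = f2 (X2 k) := fun k hk => by rw [L1.fX k hk, L2.fX k hk]
  have hXQ : ∀ k (hk : k < 9), XQ P X1 X2 k = qm P (mkF (X1 k) (X2 k) (hX k hk)) :=
    fun k hk => dif_pos (hX k hk)
  have hpw' : ∀ n k e, k + n ≤ 9 → f1 (pw X1 n k e) = f2 (pw X2 n k e) := by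
    intro n k e h
    rw [map_pw, map_pw]
    exact pw_congr_X _ _ _ fun i _ hi => hX i (by omega)
  have hpw : ∀ n k e (h : k + n ≤ 9),
      pw (XQ P X1 X2) n k e = qm P (mkF (pw X1 n k e) (pw X2 n k e) (hpw' n k e h)) := by
    intro n
    induction n with
    | zero =>
      intro k e _
      exact (map_one (qm P)).symm
    | succ n ih =>
      intro k e h
      show cond (tb e k) (XQ P X1 X2 k) 1 * pw (XQ P X1 X2) n (k + 1) e = _
      rw [ih (k + 1) e (by omega)]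
      cases hb : tb e k with
      | false =>
        rw [cond_false, one_mul]
        congr 1
        refine Subtype.ext (Prod.ext ?_ ?_)
        · show pw X1 n (k + 1) e = cond (tb e k) (X1 k) 1 * pw X1 n (k + 1) e
          rw [hb, cond_false, one_mul]
        · show pw X2 n (k + 1) e = cond (tb e k) (X2 k) 1 * pw X2 n (k + 1) e
          rw [hb, cond_false, one_mul]
      | true =>
        rw [cond_true, hXQ k (by omega), ← map_mul]
        congr 1
        refine Subtype.ext (Prod.ext ?_ ?_)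
        · show X1 k * pw X1 n (k + 1) e = cond (tb e k) (X1 k) 1 * pw X1 n (k + 1) e
          rw [hb, cond_true]
        · show X2 k * pw X2 n (k + 1) e = cond (tb e k) (X2 k) 1 * pw X2 n (k + 1) e
          rw [hb, cond_true]
  have ff : ∀ {x : E} {y : E'}, f1 x = f2 y → ∀ r, f1 (x * c1 (t1 r)) = f2 (y * c2 (t2 r)) := by
    intro x y h r
    rw [map_mul, map_mul, P.h1.map_c (L1.lt r), P.h2.map_c (L2.lt r), h]
  refine ⟨fun k hk => ?_, fun r => P.h1.xor_lt (L1.lt r) (L2.lt r), fun k hk => ?_,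
    fun j k hk hj => ?_, fun i hi => ?_, fun i hi => ?_⟩
  · rw [hXQ k hk]
    exact L1.fX k hk
  · rw [hXQ k (by omega), ← map_mul]
    have h0 : f1 (c1 (t1 (ridx k k))) = f2 (c2 (t2 (ridx k k))) := by
      rw [P.h1.map_c (L1.lt _), P.h2.map_c (L2.lt _)]
    rw [← qm_pair_one P (L1.lt (ridx k k)) (L2.lt (ridx k k)) h0]
    congr 1
    exact Subtype.ext (Prod.ext (L1.sq k hk) (L2.sq k hk))
  · rw [hXQ k (by omega), hXQ j (by omega), hpw 7 0 _ (by norm_num), ← map_mul]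
    rw [← qm_pair P (hpw' 7 0 _ (by norm_num)) (L1.lt (ridx j k)) (L2.lt (ridx j k))
      (ff (hpw' 7 0 _ (by norm_num)) _), ← map_mul]
    congr 1
    exact Subtype.ext (Prod.ext (L1.conj j k hk hj) (L2.conj j k hk hj))
  · rw [hXQ 7 (by omega), hpw 7 0 _ (by norm_num), hpw 7 0 _ (by norm_num), ← map_mul]
    rw [← qm_pair P (hpw' 7 0 _ (by norm_num)) (L1.lt (28 + i)) (L2.lt (28 + i))
      (ff (hpw' 7 0 _ (by norm_num)) _), ← map_mul]
    congr 1
    exact Subtype.ext (Prod.ext (L1.cA i hi) (L2.cA i hi))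
  · rw [hXQ 8 (by omega), hpw 7 0 _ (by norm_num), hpw 7 0 _ (by norm_num), ← map_mul]
    rw [← qm_pair P (hpw' 7 0 _ (by norm_num)) (L1.lt (33 + i)) (L2.lt (33 + i))
      (ff (hpw' 7 0 _ (by norm_num)) _), ← map_mul]
    congr 1
    exact Subtype.ext (Prod.ext (L1.cB i hi) (L2.cB i hi))

/-- If the difference splits then the extensions are isomorphic. -/
theorem equiv_of_complement {H : Subgroup (Q P)} (hH : Subgroup.IsComplement' (fQ P).ker H) :
    Nonempty (E ≃* E') := by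
  have hM := mext P
  have hdis : ∀ a, a < 2048 → cQ P a ∈ H → a = 0 := by
    intro a ha h
    have h1 : cQ P a ∈ (fQ P).ker := (hM.map_c ha)
    have h2 := Subgroup.disjoint_def.1 hH.disjoint h1 h
    exact hM.inj a ha h2
  let K : Subgroup ↥(Fp f1 f2) := H.comap (qm P)
  have hK : ∀ p, p ∈ K ↔ qm P p ∈ H := fun _ => Iff.rfl
  let p1 : ↥K →* E := (MonoidHom.fst E E').comp ((Fp f1 f2).subtype.comp K.subtype)
  let p2 : ↥K →* E' := (MonoidHom.snd E E').comp ((Fp f1 f2).subtype.comp K.subtype)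
  have key : ∀ x y (h : f1 x = f2 y), ∃ b, b < 2048 ∧ cQ P b * qm P (mkF x y h) ∈ H := by
    intro x y h
    obtain ⟨⟨k, z⟩, hkz⟩ := hH.2 (qm P (mkF x y h))
    have hkz' : (k : Q P) * (z : Q P) = qm P (mkF x y h) := hkz
    obtain ⟨b, hb, h2⟩ := (hM.ker k).1 k.2
    refine ⟨b, hb, ?_⟩
    rw [← hkz', h2, ← mul_assoc, hM.sq hb, one_mul]
    exact z.2
  have b1 : Function.Bijective p1 := by
    constructor
    · rw [injective_iff_map_eq_one]
      rintro ⟨⟨⟨x, y⟩, hp⟩, hk⟩ h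
      have hx : x = 1 := h
      subst hx
      have hy : f2 y = 1 := by
        have : f1 1 = f2 y := hp
        rw [← this, map_one]
      obtain ⟨b, hb, rfl⟩ := (P.h2.ker y).1 hy
      have h3 : qm P ⟨(1, c2 b), hp⟩ = cQ P b := by
        rw [cQ_eq P hb]
        apply qm_eq_of P hb
        · show 1 = c1 b * c1 b
          rw [P.h1.sq hb]
        · show c2 b = 1 * c2 b
          rw [one_mul]
      have h4 : cQ P b ∈ H := by
        rw [← h3]
        exact hk
      have h5 := hdis b hb h4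
      subst h5
      refine Subtype.ext (Subtype.ext (Prod.ext rfl ?_))
      exact P.h2.c_zero
    · intro x
      obtain ⟨y, hy⟩ := P.h2.surj (f1 x)
      obtain ⟨b, hb, h1⟩ := key x y hy.symm
      have h2 : f1 x = f2 (c2 b * y) := by rw [map_mul, P.h2.map_c hb, one_mul, hy]
      refine ⟨⟨mkF x (c2 b * y) h2, ?_⟩, rfl⟩
      rw [hK]
      have h3 : qm P (mkF x (c2 b * y) h2) = cQ P b * qm P (mkF x y hy.symm) := by
        rw [cQ_eq P hb, ← map_mul]
        have hlt := P.lt (f2 y)⁻¹ b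
        have e1 := P.a1 x⁻¹ b
        have e2 := P.a2 y⁻¹ b
        rw [inv_inv, map_inv] at e1 e2
        rw [← hy.symm.trans rfl] at e2
        apply qm_eq_of P (P.lt (f1 x)⁻¹ b)
        · show x = c1 b * x * c1 (A (f1 x)⁻¹ b)
          have e3 : c1 b * x = x * c1 (A (f1 x)⁻¹ b) := by
            rw [← e1]; group
          rw [e3, mul_assoc, P.h1.sq (P.lt _ _), mul_one]
        · show c2 b * y = 1 * y * c2 (A (f1 x)⁻¹ b)
          rw [← e2]; group
      rw [h3]
      exact h1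
  have b2 : Function.Bijective p2 := by
    constructor
    · rw [injective_iff_map_eq_one]
      rintro ⟨⟨⟨x, y⟩, hp⟩, hk⟩ h
      have hy : y = 1 := h
      subst hy
      have hx : f1 x = 1 := by
        have : f1 x = f2 1 := hp
        rw [this, map_one]
      obtain ⟨a, ha, rfl⟩ := (P.h1.ker x).1 hx
      have h4 : cQ P a ∈ H := by
        rw [cQ_eq P ha]
        exact hk
      have h5 := hdis a ha h4
      subst h5
      refine Subtype.ext (Subtype.ext (Prod.ext ?_ rfl))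
      exact P.h1.c_zero
    · intro y
      obtain ⟨x, hx⟩ := P.h1.surj (f2 y)
      obtain ⟨b, hb, h1⟩ := key x y hx
      have h2 : f1 (c1 b * x) = f2 y := by rw [map_mul, P.h1.map_c hb, one_mul, hx]
      refine ⟨⟨mkF (c1 b * x) y h2, ?_⟩, rfl⟩
      rw [hK]
      have h3 : mkF (c1 b * x) y h2 = mkF (c1 b) 1 (c1_mem P hb) * mkF x y hx :=
        Subtype.ext (Prod.ext rfl (one_mul y).symm)
      rw [h3, map_mul, ← cQ_eq P hb]
      exact h1
  exact ⟨(MulEquiv.ofBijective p1 b1).symm.trans (MulEquiv.ofBijective p2 b2)⟩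

end

end Cfsg.Agent.H188.Baer
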