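import Cfsg.Agent.H188.LFiveX

/-!
# Modules of `SL₅(3)` in characteristic 2: elements of order 11 have fixed points

`T_trivial` : if `SL₅(3)` acts on the finite abelian group `V` of exponent 2, and the element `x` of order 11 has no fixed
points on `V`, then the transvections `T φ` act trivially.
-/

set_option autoImplicit false

namespace Cfsg.Agent.H188.LFive

variable {V : Type*} [AddCommGroup V] (ρ : X →* AddMonoid.End V)

/-! ### sums of weight vectors -/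

/-- sums of weight vectors -/
def S : AddSubgroup V := AddSubgroup.closure {z | ∃ k < 3, ∃ i < 5, Wt ρ (O k i) z}

theorem mem_S {k i : ℕ} (hk : k < 3) (hi : i < 5) {z : V} (hz : Wt ρ (O k i) z) : z ∈ S ρ :=
  AddSubgroup.subset_closure ⟨k, hk, i, hi, hz⟩

theorem S_map {g : X} (hg : Nm g.1) (hp : ∀ k < 3, ∀ i < 5, ∃ k' < 3, ∃ i' < 5,
    Gv g.1 (O k i) = O k' i' ∨ Gv g.1 (O k i) = - O k' i') {z : V} (hz : z ∈ S ρ) : ρ g z ∈ S ρ := by
  induction hz using AddSubgroup.closure_induction with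
  | mem z hz =>
    obtain ⟨k, hk, i, hi, hz⟩ := hz
    obtain ⟨k', hk', i', hi', h | h⟩ := hp k hk i hi
    · have h1 := hz.conj hg
      rw [h] at h1
      exact mem_S ρ hk' hi' h1
    · have h1 := (hz.conj hg).neg
      rw [h, neg_neg] at h1
      exact mem_S ρ hk' hi' h1
  | zero => rw [map_zero]; exact zero_mem _
  | add x y _ _ hx hy => rw [map_add]; exact add_mem hx hy
  | neg x _ hx => rw [map_neg]; exact neg_mem hx

theorem S_zero {z : V} (hz : z ∈ S ρ) : P ρ 0 z = 0 := by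
  induction hz using AddSubgroup.closure_induction with
  | mem z hz =>
    obtain ⟨k, hk, i, hi, hz⟩ := hz
    exact hz.zero
  | zero => exact P_zero ρ 0
  | add x y _ _ hx hy => rw [P_add, hx, hy, add_zero]
  | neg x _ hx =>
    have h1 := P_add ρ 0 x (-x)
    rw [add_neg_cancel, P_zero, hx, zero_add] at h1
    exact h1.symm

theorem P_neg_right (u : U) (z : V) : P ρ u (-z) = - P ρ u z := by
  have h1 := P_add ρ u z (-z)
  rw [add_neg_cancel, P_zero] at h1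
  exact (neg_eq_of_add_eq_zero_right h1.symm).symm

theorem S_sum (h2 : ∀ v : V, v + v = 0) {z : V} (hz : z ∈ S ρ) :
    ∑ k ∈ Finset.range 3, ∑ i ∈ Finset.range 5, P ρ (O k i) z = z := by
  induction hz using AddSubgroup.closure_induction with
  | mem z hz =>
    obtain ⟨k, hk, i, hi, hz⟩ := hz
    rw [Finset.sum_eq_single k, Finset.sum_eq_single i, hz.P_eq h2]
    · intro j hj hji
      exact hz.P_ne h2 (sep_spec hk (Finset.mem_range.1 hj) hk hi fun h => hji h.2)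
    · intro h; exact absurd (Finset.mem_range.2 hi) h
    · intro j hj hjk
      refine Finset.sum_eq_zero fun m hm => ?_
      exact hz.P_ne h2 (sep_spec (Finset.mem_range.1 hj) (Finset.mem_range.1 hm) hk hi fun h => hjk h.1)
    · intro h; exact absurd (Finset.mem_range.2 hk) h
  | zero => exact Finset.sum_eq_zero fun _ _ => Finset.sum_eq_zero fun _ _ => P_zero ρ _
  | add x y _ _ hx hy =>
    simp only [P_add, Finset.sum_add_distrib, hx, hy]
  | neg x _ hx =>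
    simp only [P_neg_right, Finset.sum_neg_distrib, hx]

theorem perm_f : ∀ k < 3, ∀ i < 5, ∃ k' < 3, ∃ i' < 5, Gv fM (O k i) = O k' i' ∨ Gv fM (O k i) = - O k' i' :=
  fun k hk i hi => ⟨k, hk, (i + 1) % 5, by omega, Or.inl (O_f k hk i hi)⟩

theorem S_pow {g : X} (h : ∀ z ∈ S ρ, ρ g z ∈ S ρ) (n : ℕ) {z : V} (hz : z ∈ S ρ) : ρ (g ^ n) z ∈ S ρ := by
  induction n with
  | zero => rw [pow_zero, oneV]; exact hz
  | succ n ih => rw [pow_succ', mulV]; exact h _ ih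

theorem S_f {z : V} (hz : z ∈ S ρ) : ρ fX z ∈ S ρ := S_map ρ nm_f perm_f hz
theorem S_a {z : V} (hz : z ∈ S ρ) : ρ aX z ∈ S ρ := S_map ρ nm_a perm_a hz
theorem S_b {z : V} (hz : z ∈ S ρ) : ρ bX z ∈ S ρ := S_map ρ nm_b perm_b hz

theorem S_aF {z : V} (hz : z ∈ S ρ) : aF ρ z ∈ S ρ :=
  sum_mem fun i _ => S_pow ρ (fun _ h => S_f ρ h) i hz

theorem S_eA {z : V} (hz : z ∈ S ρ) : eA ρ z ∈ S ρ :=
  sum_mem fun i _ => sum_mem fun j _ => by
    rw [mulV]
    exact S_pow ρ (fun _ h => S_a ρ h) i (S_pow ρ (fun _ h => S_b ρ h) j hz)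

/-! ### `A`-invariance -/

theorem eA_eq (z : V) : eA ρ z = avg ρ aX 3 (avg ρ bX 3 z) := by
  unfold eA avg
  refine Finset.sum_congr rfl fun i _ => ?_
  rw [map_sum]
  exact Finset.sum_congr rfl fun j _ => mulV ρ _ _ _

theorem eA_eq' (z : V) : eA ρ z = avg ρ bX 3 (avg ρ aX 3 z) := by
  unfold eA avg
  rw [Finset.sum_comm]
  refine Finset.sum_congr rfl fun i _ => ?_
  rw [map_sum]
  refine Finset.sum_congr rfl fun j _ => ?_
  have hc : Commute aX bX := abX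
  rw [← mulV, (hc.pow_pow j i).eq]

theorem a_eA (z : V) : ρ aX (eA ρ z) = eA ρ z := by
  rw [eA_eq]; exact avg_left ρ aX_pow _

theorem b_eA (z : V) : ρ bX (eA ρ z) = eA ρ z := by
  rw [eA_eq']; exact avg_left ρ bX_pow _

theorem P_iter {g : X} (hg : Nm g.1) {y : V} (hy : ρ g y = y) {u : U} (h : P ρ u y = 0) (j : ℕ) :
    P ρ ((Gv g.1)^[j] u) y = 0 := by
  induction j with
  | zero => exact h
  | succ j ih =>
    rw [Function.iterate_succ_apply']
    have h1 := P_conj ρ hg ((Gv g.1)^[j] u) y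
    rw [ih, map_zero, hy] at h1
    exact h1.symm

/-- an `A`-invariant sum of weight vectors with three zero components is 0 -/
theorem zero_of_comp (h2 : ∀ v : V, v + v = 0) {y : V} (hy : y ∈ S ρ) (ha : ρ aX y = y) (hb : ρ bX y = y)
    (h : ∀ l < 3, P ρ (O 0 l) y = 0) : y = 0 := by
  rw [← S_sum ρ h2 hy]
  refine Finset.sum_eq_zero fun k hk => Finset.sum_eq_zero fun i hi => ?_
  obtain ⟨j, _, m, _, l, hl, hc⟩ := cover k (Finset.mem_range.1 hk) i (Finset.mem_range.1 hi)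
  have h1 := P_iter ρ (g := aX) nm_a ha (P_iter ρ (g := bX) nm_b hb (h l hl) m) j
  have h3 : (aX : X).1 = aM := rfl
  have h4 : (bX : X).1 = bM := rfl
  rw [h3, h4] at h1
  rcases hc with hc | hc
  · rwa [hc] at h1
  · rwa [hc, P_neg] at h1

/-! ### the map -/

theorem wt_f {k : ℕ} (hk : k < 3) {z : V} (hz : Wt ρ (O k 0) z) (i : ℕ) (hi : i < 5) : Wt ρ (O k i) (ρ (fX ^ i) z) := by
  induction i with
  | zero => rw [pow_zero, oneV]; exact hz
  | succ i ih =>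
    have h1 := (ih (by omega)).conj (g := fX) nm_f
    rw [← mulV, ← pow_succ'] at h1
    have h3 : (fX : X).1 = fM := rfl
    rw [h3, O_f k hk i (by omega), Nat.mod_eq_of_lt hi] at h1
    exact h1

theorem P_aF (h2 : ∀ v : V, v + v = 0) {k k' : ℕ} (hk : k < 3) (hk' : k' < 3) {z : V} (hz : Wt ρ (O k' 0) z) :
    P ρ (O k 0) (aF ρ z) = if k = k' then z else 0 := by
  unfold aF avg
  rw [P_sum]
  split_ifs with h
  · subst h
    rw [Finset.sum_eq_single 0]
    · rw [pow_zero, oneV, hz.P_eq h2]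
    · intro j hj hj0
      exact (wt_f ρ hk hz j (Finset.mem_range.1 hj)).P_ne h2
        (sep_spec hk (by norm_num) hk (Finset.mem_range.1 hj) fun h => hj0 h.2.symm)
    · intro h; exact absurd (Finset.mem_range.2 (by norm_num)) h
  · refine Finset.sum_eq_zero fun j hj => ?_
    exact (wt_f ρ hk' hz j (Finset.mem_range.1 hj)).P_ne h2
      (sep_spec hk (by norm_num) hk' (Finset.mem_range.1 hj) fun h1 => h h1.1)

/-- `f`-invariant sums -/
def Th (w : V × V × V) : V := aF ρ w.1 + aF ρ (ρ bX w.2.1) + aF ρ (ρ aX (ρ fX (ρ bX w.2.2)))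

/-- the components -/
def Ps (l : ℕ) (w : V × V × V) : V := P ρ (O 0 0) (ρ (fX ^ (5 - l)) (eA ρ (Th ρ w)))

theorem Th_add (w w' : V × V × V) : Th ρ (w + w') = Th ρ w + Th ρ w' := by
  unfold Th aF
  simp only [Prod.fst_add, Prod.snd_add, map_add, avg_add]
  abel

theorem Ps_add (l : ℕ) (w w' : V × V × V) : Ps ρ l (w + w') = Ps ρ l w + Ps ρ l w' := by
  unfold Ps
  rw [Th_add, eA_add, map_add, P_add]

/-- the triples of vectors of weight `O 0 0` -/
def W3 (w : V × V × V) : Prop := Wt ρ (O 0 0) w.1 ∧ Wt ρ (O 0 0) w.2.1 ∧ Wt ρ (O 0 0) w.2.2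

theorem wt_b {z : V} (hz : Wt ρ (O 0 0) z) : Wt ρ (O 1 0) (ρ bX z) := by
  have h1 := hz.conj (g := bX) nm_b
  have h3 : (bX : X).1 = bM := rfl
  rwa [h3, O_b] at h1

theorem wt_afb {z : V} (hz : Wt ρ (O 0 0) z) : Wt ρ (O 2 0) (ρ aX (ρ fX (ρ bX z))) := by
  have h1 := ((wt_b ρ hz).conj (g := fX) nm_f).conj (g := aX) nm_a
  have h3 : (fX : X).1 = fM := rfl
  have h4 : (aX : X).1 = aM := rfl
  rwa [h3, h4, O_fb, O_afb] at h1

theorem Th_mem {w : V × V × V} (hw : W3 ρ w) : Th ρ w ∈ S ρ :=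
  add_mem (add_mem (S_aF ρ (mem_S ρ (by norm_num) (by norm_num) hw.1))
    (S_aF ρ (mem_S ρ (by norm_num) (by norm_num) (wt_b ρ hw.2.1))))
    (S_aF ρ (mem_S ρ (by norm_num) (by norm_num) (wt_afb ρ hw.2.2)))

theorem Th_f (w : V × V × V) : ρ fX (Th ρ w) = Th ρ w := by
  unfold Th aF
  rw [map_add, map_add, avg_left ρ fX_pow, avg_left ρ fX_pow, avg_left ρ fX_pow]

theorem P_f_pow (l : ℕ) (hl : l < 5) (z : V) : ρ (fX ^ l) (P ρ (O 0 0) z) = P ρ (O 0 l) (ρ (fX ^ l) z) := by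
  induction l with
  | zero => rw [pow_zero, oneV, oneV]
  | succ l ih =>
    rw [pow_succ', mulV, mulV, ih (by omega), P_conj ρ (g := fX) nm_f]
    have h3 : (fX : X).1 = fM := rfl
    rw [h3, O_f 0 (by norm_num) l (by omega), Nat.mod_eq_of_lt hl]

theorem inj_of_zero {g : X} {z : V} (h : ρ g z = 0) : z = 0 := by
  have h1 : ρ g⁻¹ (ρ g z) = z := by rw [← mulV, inv_mul_cancel, oneV]
  rw [← h1, h, map_zero]

theorem Ps_inj (h2 : ∀ v : V, v + v = 0) (hx : ∀ v, ρ xX v = v → v = 0) {w : V × V × V} (hw : W3 ρ w)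
    (h : ∀ l < 3, Ps ρ l w = 0) : w = 0 := by
  have hS : eA ρ (Th ρ w) ∈ S ρ := S_eA ρ (Th_mem ρ hw)
  have h1 : eA ρ (Th ρ w) = 0 := by
    refine zero_of_comp ρ h2 hS (a_eA ρ _) (b_eA ρ _) fun l hl => ?_
    have h3 := P_f_pow ρ l (by omega) (ρ (fX ^ (5 - l)) (eA ρ (Th ρ w)))
    rw [← mulV, ← pow_add, show l + (5 - l) = 5 by omega, fX_pow, oneV] at h3
    rw [← h3]
    show ρ (fX ^ l) (Ps ρ l w) = 0
    rw [h l hl, map_zero]
  have h3 : Th ρ w = 0 := eA_inj ρ h2 hx (Th_f ρ w) h1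
  have hP : ∀ k < 3, P ρ (O k 0) (Th ρ w) = 0 := fun k _ => by rw [h3, P_zero]
  unfold Th at hP
  have p0 := hP 0 (by norm_num)
  have p1 := hP 1 (by norm_num)
  have p2 := hP 2 (by norm_num)
  rw [P_add, P_add, P_aF ρ h2 (by norm_num) (by norm_num) hw.1, P_aF ρ h2 (by norm_num) (by norm_num) (wt_b ρ hw.2.1),
    P_aF ρ h2 (by norm_num) (by norm_num) (wt_afb ρ hw.2.2)] at p0 p1 p2
  simp only [if_pos, zero_ne_one, one_ne_zero, OfNat.ofNat_ne_zero, OfNat.ofNat_ne_one, OfNat.zero_ne_ofNat,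
    OfNat.one_ne_ofNat, if_false, add_zero, zero_add] at p0 p1 p2
  have q1 := inj_of_zero ρ p1
  have q2 := inj_of_zero ρ (inj_of_zero ρ (inj_of_zero ρ p2))
  exact Prod.ext p0 (Prod.ext q1 q2)

theorem Ps_wt {w : V × V × V} (hw : W3 ρ w) (l : ℕ) : Wt ρ (O 0 0) (Ps ρ l w) :=
  wt_P ρ (S_zero ρ (S_pow ρ (fun _ h => S_f ρ h) _ (S_eA ρ (Th_mem ρ hw))))

/-- the three components of a triple are arbitrary -/
theorem exists_Ps [Finite V] (h2 : ∀ v : V, v + v = 0) (hx : ∀ v, ρ xX v = v → v = 0) {z : V}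
    (hz : Wt ρ (O 0 0) z) : ∃ w, W3 ρ w ∧ Ps ρ 0 w = z := by
  let F : {w // W3 ρ w} → {w // W3 ρ w} := fun w =>
    ⟨(Ps ρ 0 w.1, Ps ρ 1 w.1, Ps ρ 2 w.1), Ps_wt ρ w.2 0, Ps_wt ρ w.2 1, Ps_wt ρ w.2 2⟩
  have hF : Function.Injective F := by
    intro w w' h
    have e0 : Ps ρ 0 w.1 = Ps ρ 0 w'.1 := congrArg (fun t => t.1.1) h
    have e1 : Ps ρ 1 w.1 = Ps ρ 1 w'.1 := congrArg (fun t => t.1.2.1) h
    have e2 : Ps ρ 2 w.1 = Ps ρ 2 w'.1 := congrArg (fun t => t.1.2.2) h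
    have h3 : w.1 + w'.1 = 0 := by
      refine Ps_inj ρ h2 hx ⟨w.2.1.add w'.2.1, w.2.2.1.add w'.2.2.1, w.2.2.2.add w'.2.2.2⟩ fun l hl => ?_
      rw [Ps_add]
      interval_cases l
      · rw [e0, h2]
      · rw [e1, h2]
      · rw [e2, h2]
    have h4 : w'.1 + w'.1 = 0 := Prod.ext (h2 _) (Prod.ext (h2 _) (h2 _))
    exact Subtype.ext (add_right_cancel (h3.trans h4.symm))
  obtain ⟨w, hw⟩ := (Finite.injective_iff_surjective.1 hF) ⟨(z, 0, 0), hz, wt_zero ρ _, wt_zero ρ _⟩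
  exact ⟨w.1, w.2, congrArg (fun t => t.1.1) hw⟩

/-- `a` is trivial on the weight vectors -/
theorem a_wt [Finite V] (h2 : ∀ v : V, v + v = 0) (hx : ∀ v, ρ xX v = v → v = 0) {z : V}
    (hz : Wt ρ (O 0 0) z) : ρ aX z = z := by
  obtain ⟨w, _, rfl⟩ := exists_Ps ρ h2 hx hz
  unfold Ps
  rw [show 5 - 0 = 5 from rfl, fX_pow, oneV, P_conj ρ (g := aX) nm_a, a_eA]
  have h4 : (aX : X).1 = aM := rfl
  rw [h4, O_a]

theorem ttX : tX * tX = 1 := Subtype.ext tt
theorem atatX : aX * (tX * aX * tX) = T (Pi.single 3 1) := Subtype.ext atat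

/-- there are no weight vectors -/
theorem wt_eq_zero [Finite V] (h2 : ∀ v : V, v + v = 0) (hx : ∀ v, ρ xX v = v → v = 0) {z : V}
    (hz : Wt ρ (O 0 0) z) : z = 0 := by
  have h1 : Wt ρ (O 0 0) (ρ tX z) := by
    have h1 := (hz.conj (g := tX) nm_t).neg
    have h4 : (tX : X).1 = tM := rfl
    rwa [h4, O_t, neg_neg] at h1
  have h3 : ρ (T (Pi.single 3 1)) z = z := by
    have h6 : ρ tX (ρ tX z) = z := by rw [← mulV, ttX, oneV]
    rw [← atatX, mulV, mulV, mulV, a_wt ρ h2 hx h1, h6, a_wt ρ h2 hx hz]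
  have hδ : dot (Pi.single 3 1) (O 0 0) ≠ 0 := by decide +kernel
  refine eq_zero_of_T ρ h2 (T_all ρ hδ hz.fix fun c => ?_) hz.zero
  have h5 : ∀ n : ℕ, ρ (T ((n : ZMod 3) • (Pi.single 3 1 : U))) z = z := by
    intro n
    induction n with
    | zero => rw [Nat.cast_zero, zero_smul, T_zero, oneV]
    | succ n ih => rw [Nat.cast_succ, add_smul, one_smul, ← T_mul, mulV, h3, ih]
  have h6 := h5 c.val
  rwa [ZMod.natCast_val, ZMod.cast_id', id_eq] at h6

theorem sX_pow : sX ^ 80 = 1 := Subtype.ext s_pow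

theorem wt_s {u : U} {z : V} (hz : Wt ρ u z) (j : ℕ) : Wt ρ ((Gv sM)^[j] u) (ρ (sX ^ j) z) := by
  induction j with
  | zero => rw [pow_zero, oneV]; exact hz
  | succ j ih =>
    rw [Function.iterate_succ_apply', pow_succ', mulV]
    exact ih.conj (g := sX) nm_s

theorem wt_eq_zero' [Finite V] (h2 : ∀ v : V, v + v = 0) (hx : ∀ v, ρ xX v = v → v = 0) {j : ℕ} (hj : j ≤ 80)
    {z : V} (hz : Wt ρ ((Gv sM)^[j] (O 0 0)) z) : z = 0 := by
  have h1 := wt_s ρ hz (80 - j)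
  rw [s_orb j hj] at h1
  exact inj_of_zero ρ (wt_eq_zero ρ h2 hx h1)

theorem parity (h2 : ∀ v : V, v + v = 0) (z : V) :
    ∑ j ∈ Finset.range 40, P ρ ((Gv sM)^[j] (O 0 0)) z = P ρ 0 z + z := by
  have e0 : P ρ 0 z = ∑ φ : U, ρ (T φ) z := by
    simp [P, dot_zero]
  unfold P at *
  simp only [Finset.sum_filter] at *
  rw [Finset.sum_comm]
  have h1 : ∀ φ ∈ (Finset.univ : Finset U), (∑ j ∈ Finset.range 40, if dot φ ((Gv sM)^[j] (O 0 0)) = 0 then ρ (T φ) z else 0) =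
      if φ = 0 then 0 else ρ (T φ) z := by
    intro φ _
    rw [← Finset.sum_filter, Finset.sum_const]
    have h3 := s_par φ
    split_ifs with h
    · rw [if_pos h] at h3
      exact even_smul h2 h3 _
    · rw [if_neg h] at h3
      exact odd_smul h2 h3 _
  rw [Finset.sum_congr rfl h1, e0]
  rw [← Finset.add_sum_erase Finset.univ (fun φ : U => ρ (T φ) z) (Finset.mem_univ 0), T_zero, oneV]
  have h4 : (∑ φ : U, if φ = 0 then 0 else ρ (T φ) z) = ∑ φ ∈ Finset.univ.erase (0 : U), ρ (T φ) z := by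
    rw [← Finset.add_sum_erase Finset.univ _ (Finset.mem_univ 0), if_pos rfl, zero_add]
    exact Finset.sum_congr rfl fun φ hφ => if_neg (Finset.ne_of_mem_erase hφ)
  rw [h4]
  have h5 : z + (∑ φ ∈ Finset.univ.erase (0 : U), ρ (T φ) z) + z = (z + z) + ∑ φ ∈ Finset.univ.erase (0 : U), ρ (T φ) z := by
    abel
  rw [h5, h2, zero_add]

/-- **Modules of `SL₅(3)` in characteristic 2**: if the element `x` of order 11 has no fixed points then the transvections
act trivially. -/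
theorem T_trivial [Finite V] (h2 : ∀ v : V, v + v = 0) (hx : ∀ v, ρ xX v = v → v = 0) (φ : U) (z : V) :
    ρ (T φ) z = z := by
  have h1 : ∀ y : V, P ρ 0 y = 0 → y = 0 := by
    intro y hy
    have h3 := parity ρ h2 y
    rw [hy, zero_add] at h3
    rw [← h3]
    refine Finset.sum_eq_zero fun j hj => ?_
    exact wt_eq_zero' ρ h2 hx (j := j) (by have := Finset.mem_range.1 hj; omega) (wt_P ρ hy)
  have h3 : P ρ 0 (P ρ 0 z + z) = 0 := by
    rw [P_add, P_fix ρ h2 (u := 0) fun φ _ => T_P ρ (dot_zero φ) z, h2]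
  have h4 : P ρ 0 z = z := by
    have h5 := h1 _ h3
    exact (eq_neg_of_add_eq_zero_left h5).trans (neg_eq_of_add_eq_zero_left (h2 z))
  rw [← h4]
  exact T_P ρ (dot_zero φ) z

end Cfsg.Agent.H188.LFive
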