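import Cfsg.Agent.H421.Act
import Cfsg.Agent.Solvable.FixedPointFree
import Cfsg.Agent.H188.LFiveMain

/-!
# Modules of `SL₅(3)` (helper188)

`no_module` : there is no nonzero finite module of `SL₅(3)` of prime exponent `t` on which the elements of prime order
not adjacent to `t` have no fixed points.
-/

set_option autoImplicit false

namespace Cfsg.Agent.H188.FiveK

open Cfsg.Agent.H421.Act Cfsg.Agent.H188.LFive

/-- matrix of order 11 -/
def Y5 : Matrix (Fin 5) (Fin 5) (ZMod 3) :=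
  !![0, 0, 0, 0, 1; 1, 0, 0, 0, 1; 0, 1, 0, 0, 2; 0, 0, 1, 0, 1; 0, 0, 0, 1, 0]

/-- matrix of order 5 with `Z Y = Y³ Z` -/
def Z5 : Matrix (Fin 5) (Fin 5) (ZMod 3) :=
  !![1, 0, 0, 2, 0; 0, 0, 1, 1, 1; 0, 0, 1, 1, 0; 0, 1, 2, 1, 0; 0, 0, 1, 2, 0]

theorem Y5_pow : Y5 ^ 11 = 1 := by decide +kernel
theorem Z5_pow : Z5 ^ 5 = 1 := by decide +kernel
theorem ZY5 : Z5 * Y5 = Y5 ^ 3 * Z5 := by decide +kernel
theorem Y5_ne : Y5 ≠ 1 := by decide +kernel
theorem Z5_ne : Z5 ≠ 1 := by decide +kernel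
theorem x_ne : xM ≠ 1 := by decide +kernel

theorem det_of_pow {A : M} {k : ℕ} (hk : Odd k) (h : A ^ k = 1) : A.det = 1 := by
  have h1 : A.det ^ k = 1 := by rw [← Matrix.det_pow, h, Matrix.det_one]
  have h2 : ∀ x : ZMod 3, x = 0 ∨ x = 1 ∨ x = -1 := by decide
  rcases h2 A.det with h3 | h3 | h3
  · rw [h3, zero_pow hk.pos.ne'] at h1
    exact absurd h1 zero_ne_one
  · exact h3
  · rw [h3, hk.neg_one_pow] at h1
    exact absurd h1 (by decide)

/-- element of order 11 -/
def ys : X := ⟨Y5, det_of_pow (by decide : Odd 11) Y5_pow⟩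
/-- element of order 5 -/
def zs : X := ⟨Z5, det_of_pow (by decide : Odd 5) Z5_pow⟩

theorem ys_pow : ys ^ 11 = 1 := Subtype.ext (by
  rw [Matrix.SpecialLinearGroup.coe_pow]; exact Y5_pow)

theorem zs_pow : zs ^ 5 = 1 := Subtype.ext (by
  rw [Matrix.SpecialLinearGroup.coe_pow]; exact Z5_pow)

theorem zs_ys : zs * ys = ys ^ 3 * zs := Subtype.ext (by
  rw [Matrix.SpecialLinearGroup.coe_mul, Matrix.SpecialLinearGroup.coe_mul, Matrix.SpecialLinearGroup.coe_pow]
  exact ZY5)

theorem orderOf_ys : orderOf ys = 11 := by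
  have : Fact (Nat.Prime 11) := ⟨by norm_num⟩
  exact orderOf_eq_prime ys_pow fun h => Y5_ne (congrArg Subtype.val h)

theorem orderOf_zs : orderOf zs = 5 := by
  have : Fact (Nat.Prime 5) := ⟨by norm_num⟩
  exact orderOf_eq_prime zs_pow fun h => Z5_ne (congrArg Subtype.val h)

theorem orderOf_xX : orderOf xX = 11 := by
  have : Fact (Nat.Prime 11) := ⟨by norm_num⟩
  exact orderOf_eq_prime xX_pow fun h => x_ne (congrArg Subtype.val h)

theorem frob_dec : ∀ i < 5, 0 < i → ∀ k < 11, Z5 ^ i * Y5 ^ k = Y5 ^ k * Z5 ^ i → k = 0 := by decide +kernel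

theorem mem_C11 {a : X} (ha : a ∈ Subgroup.zpowers ys) : ∃ k < 11, a = ys ^ k := by
  obtain ⟨k, rfl⟩ := mem_powers_iff_mem_zpowers.2 ha
  refine ⟨k % 11, Nat.mod_lt _ (by norm_num), ?_⟩
  change ys ^ k = ys ^ (k % 11)
  rw [← orderOf_ys, pow_mod_orderOf]

/-- the transvections with a fixed axis -/
def TT : Multiplicative U →* X where
  toFun φ := T φ.toAdd
  map_one' := T_zero
  map_mul' φ ψ := (T_mul _ _).symm

theorem TT_inj : Function.Injective TT := fun _ _ h => T_inj h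

theorem U_three (φ : Multiplicative U) : φ ^ 3 = 1 := by
  change Multiplicative.ofAdd (3 • φ.toAdd) = 1
  have h : (3 : ℕ) • φ.toAdd = 0 := by
    funext i
    change (3 : ℕ) • (φ.toAdd i) = 0
    generalize φ.toAdd i = x
    revert x
    decide
  rw [h]
  rfl

theorem not_cyclic : ¬ IsCyclic (Multiplicative U) := by
  intro h
  obtain ⟨g, hg⟩ := h.exists_generator
  have h1 : orderOf g = Nat.card (Multiplicative U) := orderOf_eq_card_of_forall_mem_zpowers hg
  have h2 : orderOf g ∣ 3 := orderOf_dvd_of_pow_eq_one (U_three g)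
  have h3 : Nat.card (Multiplicative U) = 3 ^ 4 := by
    change Nat.card (Fin 4 → ZMod 3) = _
    rw [Nat.card_fun, Nat.card_zmod, Nat.card_fin]
  rw [h1, h3] at h2
  norm_num at h2

theorem no_module {V : Type*} [AddCommGroup V] [Finite V] [Nontrivial V] (hX : IsSimpleGroup X)
    (ρ : X →* AddMonoid.End V) {t : ℕ} (hexp : ∀ v : V, t • v = 0) (ht : t ∈ [2, 3, 5, 11, 13])
    (h11 : t ≠ 11 → ∀ x : X, orderOf x = 11 → ∀ v, ρ x v = v → v = 0)
    (h5 : t = 3 ∨ t = 13 → ∀ x : X, orderOf x = 5 → ∀ v, ρ x v = v → v = 0)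
    (h3 : t = 5 ∨ t = 11 → ∀ x : X, orderOf x = 3 → ∀ v, ρ x v = v → v = 0) : False := by
  have hker : ∀ a : X, a ≠ 1 → t ≠ 11 → ¬ ∀ v, ρ a v = v := by
    intro a ha ht11 hv
    have h1 : a ∈ ρ.ker := by
      rw [MonoidHom.mem_ker]
      exact AddMonoidHom.ext hv
    have h2 : ρ.ker = ⊤ := by
      rcases hX.eq_bot_or_eq_top_of_normal ρ.ker inferInstance with h2 | h2
      · rw [h2, Subgroup.mem_bot] at h1
        exact absurd h1 ha
      · exact h2
    obtain ⟨v, hv0⟩ := exists_ne (0 : V)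
    apply hv0
    apply h11 ht11 ys orderOf_ys
    have h3 : ys ∈ ρ.ker := by rw [h2]; exact Subgroup.mem_top _
    rw [MonoidHom.mem_ker] at h3
    rw [h3]; rfl
  simp only [List.mem_cons, List.not_mem_nil, or_false] at ht
  have hcase : t = 2 ∨ (t = 3 ∨ t = 13) ∨ (t = 5 ∨ t = 11) := by tauto
  rcases hcase with rfl | h | h
  · have h1 := T_trivial ρ (fun v => by rw [← two_nsmul]; exact hexp v) (h11 (by norm_num) xX orderOf_xX)
      (fun _ => 1)
    refine hker (T fun _ => 1) ?_ (by norm_num) h1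
    intro h2
    rw [← T_zero] at h2
    have h4 := congrFun (T_inj h2) 0
    exact absurd h4 (by decide)
  · have ht11 : t ≠ 11 := by rcases h with rfl | rfl <;> norm_num
    refine hker ys ?_ ht11 ?_
    · intro h1
      have h2 := orderOf_ys
      rw [h1, orderOf_one] at h2
      norm_num at h2
    · have htriv := frob_trivial ρ (Subgroup.zpowers ys) zs 5 (by norm_num) zs_pow ?_ ?_ (h5 h zs orderOf_zs) ?_
      · exact htriv ys (Subgroup.mem_zpowers ys)
      · intro a ha
        obtain ⟨k, -, rfl⟩ := mem_C11 ha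
        have h1 : zs * ys * zs⁻¹ = ys ^ 3 := by rw [mul_inv_eq_iff_eq_mul, zs_ys]
        rw [← conj_pow, h1]
        exact Subgroup.pow_mem _ (Subgroup.pow_mem _ (Subgroup.mem_zpowers ys) 3) k
      · intro i hi0 hi a ha hc
        obtain ⟨k, hk, rfl⟩ := mem_C11 ha
        have h1 := congrArg Subtype.val hc
        rw [Matrix.SpecialLinearGroup.coe_mul, Matrix.SpecialLinearGroup.coe_mul, Matrix.SpecialLinearGroup.coe_pow,
          Matrix.SpecialLinearGroup.coe_pow] at h1
        rw [frob_dec i hi hi0 k hk h1, pow_zero]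
      · intro v hv
        rw [Nat.card_zpowers, orderOf_ys] at hv
        have h1 : addOrderOf v ∣ 11 := addOrderOf_dvd_of_nsmul_eq_zero hv
        have h2 : addOrderOf v ∣ t := addOrderOf_dvd_of_nsmul_eq_zero (hexp v)
        have h4 : Nat.Coprime 11 t := by rcases h with rfl | rfl <;> norm_num
        exact AddMonoid.addOrderOf_eq_one_iff.1 (Nat.eq_one_of_dvd_coprimes h4 h1 h2)
  · apply not_cyclic
    refine Cfsg.Agent.Solvable.FixedPointFree.isCyclic_of_comm (M := V) (ρ.comp TT) ?_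
    intro a ha m hm
    refine h3 h (TT a) ?_ m hm
    have hf : Fact (Nat.Prime 3) := ⟨by norm_num⟩
    refine orderOf_eq_prime ?_ ?_
    · rw [← map_pow, U_three, map_one]
    · intro h1
      apply ha
      apply TT_inj
      rw [h1, map_one]

end Cfsg.Agent.H188.FiveK
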