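import Cfsg.Agent.H188.FiveGraph
import Cfsg.Agent.H188.FiveK

/-!
# Almost simple groups with socle `PSL₅(3)` (helper188)
-/

set_option autoImplicit false

namespace Cfsg.Agent.H188.FiveFin

open Cfsg.Agent.H188.FiveGraph Cfsg.Agent.H188.FiveK
open Cfsg.Agent.ClassicalGeometry.AutPSL.Root (pr pr_surjective)

/-- a group with a normal subgroup `PSL₅(3)` with trivial centralizer -/
theorem of_socle {Y : Type*} [Group Y] (S : Subgroup Y) [S.Normal] (hc : Subgroup.centralizer (S : Set Y) = ⊥)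
    (e : L ≃* S) : Nonempty (Y ≃* L) ∨ Nonempty (Y ≃* MulAut L) := by
  let f : Y →* MulAut S := MulAut.conjNormal
  have hf : Function.Injective f := by
    rw [injective_iff_map_eq_one]
    intro y hy
    rw [← Subgroup.mem_bot, ← hc, Subgroup.mem_centralizer_iff]
    intro s hs
    have h1 := congrArg (fun α : MulAut S => ((α ⟨s, hs⟩ : S) : Y)) hy
    have h2 : y * s * y⁻¹ = s := h1
    exact (mul_inv_eq_iff_eq_mul.1 h2).symm
  let ψ : Y →* MulAut L := (MulAut.congr e.symm).toMonoidHom.comp f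
  refine exists_equiv ψ ((MulAut.congr e.symm).injective.comp hf) fun l => ⟨e l, ?_⟩
  apply MulEquiv.ext
  intro x
  change e.symm (f (e l : Y) (e x)) = l * x * l⁻¹
  rw [MulEquiv.symm_apply_eq, map_mul, map_mul, map_inv]
  apply Subtype.ext
  rfl

/-- no module for the top chief factor -/
theorem no_top {Y V : Type*} [Group Y] [AddCommGroup V] [Finite V] [Nontrivial V] (S : Subgroup Y)
    (hS : IsSimpleGroup S) (e : L ≃* S) (ρ : Y →* AddMonoid.End V) {t : ℕ} (hexp : ∀ v : V, t • v = 0)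
    (ht : t ∈ [2, 3, 5, 11, 13])
    (h11 : t ≠ 11 → ∀ x : Y, orderOf x = 11 → ∀ v, ρ x v = v → v = 0)
    (h5 : t = 3 ∨ t = 13 → ∀ x : Y, orderOf x = 5 → ∀ v, ρ x v = v → v = 0)
    (h3 : t = 5 ∨ t = 11 → ∀ x : Y, orderOf x = 3 → ∀ v, ρ x v = v → v = 0) : False := by
  let e2 : LFive.X ≃* S := eL.trans e
  let κ : LFive.X →* Y := S.subtype.comp e2.toMonoidHom
  have hκ : ∀ x : LFive.X, orderOf (κ x) = orderOf x := by
    intro x
    change orderOf ((e2 x : S) : Y) = _
    rw [Subgroup.orderOf_coe, MulEquiv.orderOf_eq]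
  have hn : Nontrivial LFive.X := ⟨ys, 1, fun h => by
    have h2 := orderOf_ys
    rw [h, orderOf_one] at h2
    norm_num at h2⟩
  have hX : IsSimpleGroup LFive.X :=
    IsSimpleGroup.isSimpleGroup_of_surjective e2.symm.toMonoidHom e2.symm.surjective
  exact no_module hX (ρ.comp κ) hexp ht (fun h x hx => h11 h (κ x) (by rw [hκ, hx]))
    (fun h x hx => h5 h (κ x) (by rw [hκ, hx])) (fun h x hx => h3 h (κ x) (by rw [hκ, hx]))

end Cfsg.Agent.H188.FiveFin
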