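import Cfsg.Agent.H421.Eleven

/-!
# Commuting elements of `GL₅(3)` (helper188)

`commuting` : an element `Y ≠ 1` of prime order `p` with irreducible nontrivial part (`p = 5, 11`) commutes with no
`U ≠ 1` of prime order `q = 3, 5, 13`, `q ≠ p`.
-/

set_option autoImplicit false

namespace Cfsg.Agent.H188.FiveMat

open Matrix Cfsg.Agent.H421.Eleven

/-- the powers of 3 congruent to 1 -/
def Good (p k : ℕ) : Prop := ∀ d ≤ 5, 1 ≡ 3 ^ d [MOD p] → d = 0 ∨ d = k

theorem card_fix {p : ℕ} (hp : p.Prime) (W : AddSubgroup (Vn 5)) {Y : Mn 5} (hY : Y ^ p = 1)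
    (hW : ∀ v ∈ W, Y *ᵥ v ∈ W) : Nat.card W ≡ Nat.card (kr (Y - 1) ⊓ W : AddSubgroup (Vn 5)) [MOD p] := by
  classical
  have hfp : Fact p.Prime := ⟨hp⟩
  let f : Function.End W := fun v => ⟨Y *ᵥ v, hW v v.2⟩
  have hfk : ∀ (k : ℕ) (v : W), (((f ^ k : Function.End W) v : W) : Vn 5) = Y ^ k *ᵥ v := by
    intro k
    induction k with
    | zero => intro v; simp [Function.End.one_def]
    | succ k ih =>
      intro v
      rw [pow_succ']
      change Y *ᵥ (((f ^ k : Function.End W) v : W) : Vn 5) = _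
      rw [ih, Matrix.mulVec_mulVec, pow_succ']
  have hf11 : f ^ p ^ 1 = 1 := by
    funext v
    apply Subtype.ext
    rw [pow_one, hfk, hY, Matrix.one_mulVec]
    rfl
  have h1 := Equiv.Perm.card_fixedPoints_modEq hf11
  have h2 : Fintype.card (Function.fixedPoints f) = Nat.card (kr (Y - 1) ⊓ W : AddSubgroup (Vn 5)) := by
    rw [← Nat.card_eq_fintype_card]
    refine Nat.card_congr ⟨fun v => ⟨(v : W), ?_, (v : W).2⟩, fun v => ⟨⟨v, v.2.2⟩, ?_⟩, fun v => rfl, fun v => rfl⟩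
    · have h3 : Y *ᵥ ((v : W) : Vn 5) = ((v : W) : Vn 5) := congrArg Subtype.val v.2
      change (Y - 1) *ᵥ ((v : W) : Vn 5) = 0
      rw [Matrix.sub_mulVec, Matrix.one_mulVec, h3, sub_self]
    · have h3 : (Y - 1) *ᵥ (v : Vn 5) = 0 := v.2.1
      rw [Matrix.sub_mulVec, Matrix.one_mulVec, sub_eq_zero] at h3
      exact Subtype.ext h3
  rw [h2, ← Nat.card_eq_fintype_card] at h1
  exact h1

theorem card_pow (W : AddSubgroup (Vn 5)) : ∃ d ≤ 5, Nat.card W = 3 ^ d := by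
  have h3 : Nat.card W ∣ 3 ^ 5 := by
    rw [← card_V (n := 5)]
    exact AddSubgroup.card_addSubgroup_dvd_card W
  exact (Nat.dvd_prime_pow (by norm_num : Nat.Prime 3)).1 h3

theorem card_good {p k : ℕ} (hp : p.Prime) (hg : Good p k) (W : AddSubgroup (Vn 5)) {Y : Mn 5} (hY : Y ^ p = 1)
    (hW : ∀ v ∈ W, Y *ᵥ v ∈ W) (hf : ∀ v ∈ W, Y *ᵥ v = v → v = 0) : Nat.card W = 1 ∨ Nat.card W = 3 ^ k := by
  have h1 := card_fix hp W hY hW
  have h2 : Nat.card (kr (Y - 1) ⊓ W : AddSubgroup (Vn 5)) = 1 := by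
    rw [Nat.card_eq_one_iff_unique]
    refine ⟨⟨fun a b => Subtype.ext ?_⟩, ⟨0⟩⟩
    have h3 : ∀ a : (kr (Y - 1) ⊓ W : AddSubgroup (Vn 5)), (a : Vn 5) = 0 := by
      intro a
      have h4 : (Y - 1) *ᵥ (a : Vn 5) = 0 := a.2.1
      rw [Matrix.sub_mulVec, Matrix.one_mulVec, sub_eq_zero] at h4
      exact hf a a.2.2 h4
    rw [h3 a, h3 b]
  obtain ⟨d, hd, hd'⟩ := card_pow W
  rw [h2, hd'] at h1
  rw [hd']
  rcases hg d hd h1.symm with rfl | rfl
  · left; rfl
  · right; rfl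

/-- the sum of the powers -/
def nZ (p : ℕ) (Y : Mn 5) : Mn 5 := ∑ i ∈ Finset.range p, Y ^ i

theorem sub_mul_nZ {p : ℕ} {Y : Mn 5} (hY : Y ^ p = 1) : (Y - 1) * nZ p Y = 0 := by
  unfold nZ
  rw [mul_geom_sum, hY, sub_self]

theorem nZ_mul_sub {p : ℕ} {Y : Mn 5} (hY : Y ^ p = 1) : nZ p Y * (Y - 1) = 0 := by
  unfold nZ
  rw [geom_sum_mul, hY, sub_self]

theorem nZ_fix (p : ℕ) {Y : Mn 5} {v : Vn 5} (h : Y *ᵥ v = v) : nZ p Y *ᵥ v = (p : ZMod 3) • v := by
  unfold nZ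
  rw [Matrix.sum_mulVec, Finset.sum_congr rfl fun i _ => pow_fix h i, Finset.sum_const, Finset.card_range,
    ← Nat.cast_smul_eq_nsmul (ZMod 3)]

theorem comm_nZ (p : ℕ) {U Y : Mn 5} (h : U * Y = Y * U) : U * nZ p Y = nZ p Y * U := by
  unfold nZ
  rw [Finset.mul_sum, Finset.sum_mul]
  exact Finset.sum_congr rfl fun i _ => (Commute.pow_right h i).eq

theorem le_of_card {W W' : AddSubgroup (Vn 5)} (h : Nat.card (W ⊓ W' : AddSubgroup (Vn 5)) = Nat.card W') : W' ≤ W := by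
  have h1 : W ⊓ W' = W' := by
    apply SetLike.coe_injective
    apply Set.eq_of_subset_of_ncard_le
    · exact fun v hv => hv.2
    · exact h.ge
    · exact Set.toFinite _
  exact inf_eq_right.1 h1

theorem commuting {p q k : ℕ} (hp : p.Prime) (hq : q.Prime) (hq2 : q ≠ 2) (hg : Good p k) (hk : 4 ≤ k)
    (hp3 : ((p : ℕ) : ZMod 3) = 2) (hq3 : ¬ 3 ^ k ≡ 1 [MOD q]) {Y U : Mn 5} (hY : Y ^ p = 1)
    (hY1 : Y ≠ 1) (hU : U ^ q = 1) (hc : U * Y = Y * U) : U = 1 := by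
  set W := kr (nZ p Y) with hWdef
  have hWY : ∀ v ∈ W, Y *ᵥ v ∈ W := kr_inv (comm_nZ p rfl)
  have hWU : ∀ v ∈ W, U *ᵥ v ∈ W := kr_inv (comm_nZ p hc)
  have hWf : ∀ v ∈ W, Y *ᵥ v = v → v = 0 := by
    intro v hv h
    rw [hWdef, mem_kr, nZ_fix p h, hp3] at hv
    exact two_smul_eq_zero hv
  have hcW : Nat.card W = 3 ^ k := by
    refine (card_good hp hg W hY hWY hWf).resolve_left ?_
    intro h
    have h1 := (Nat.card_eq_one_iff_unique.1 h).1
    apply hY1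
    rw [← sub_eq_zero]
    apply Matrix.ext_of_mulVec_single
    intro i
    have h2 : (Y - 1) *ᵥ (Pi.single i 1 : Vn 5) ∈ W := by
      rw [hWdef, mem_kr, Matrix.mulVec_mulVec, nZ_mul_sub hY, Matrix.zero_mulVec]
    have h3 := congrArg Subtype.val (h1.elim (⟨_, h2⟩ : W) 0)
    rw [Matrix.zero_mulVec]
    exact h3
  -- `U` is trivial on `W`
  have hUW : W ≤ kr (U - 1) := by
    apply le_of_card
    have h1 := card_fix hq W hU hWU
    have h2 := card_good hp hg (kr (U - 1) ⊓ W) hY (by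
      rintro v ⟨h3, h4⟩
      refine ⟨kr_inv ?_ v h3, hWY v h4⟩
      rw [mul_sub, sub_mul, mul_one, one_mul, hc]) (fun v hv => hWf v hv.2)
    rcases h2 with h2 | h2
    · rw [h2, hcW] at h1
      exact absurd h1 hq3
    · rw [h2, hcW]
  -- the fixed points of `Y`
  set F := kr (Y - 1) with hFdef
  have hFW : ∀ v ∈ F, v ∈ W → v = 0 := by
    intro v h1 h2
    refine hWf v h2 ?_
    rw [hFdef, mem_kr, Matrix.sub_mulVec, Matrix.one_mulVec, sub_eq_zero] at h1
    exact h1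
  have hcF := card_mul_le hFW
  have hFU : ∀ v ∈ F, U *ᵥ v ∈ F := kr_inv (by rw [mul_sub, sub_mul, mul_one, one_mul, hc])
  have hF3 : Nat.card F ≤ 3 := by
    rw [hcW] at hcF
    have h1 : 3 ^ 4 ≤ 3 ^ k := Nat.pow_le_pow_right (by norm_num) hk
    have h2 : Nat.card F * 3 ^ 4 ≤ 3 ^ 5 := (Nat.mul_le_mul_left _ h1).trans hcF
    have h5 : (3 : ℕ) ^ 5 = 3 * 3 ^ 4 := by norm_num
    rw [h5] at h2
    exact Nat.le_of_mul_le_mul_right h2 (by norm_num)
  have hUF : F ≤ kr (U - 1) := by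
    apply le_of_card
    have h1 := card_fix hq F hU hFU
    obtain ⟨d, hd, hd'⟩ := card_pow F
    have h2 : Nat.card (kr (U - 1) ⊓ F : AddSubgroup (Vn 5)) ≤ Nat.card F :=
      Nat.card_le_card_of_injective _ (AddSubgroup.inclusion_injective (inf_le_right : kr (U - 1) ⊓ F ≤ F))
    obtain ⟨e, he, he'⟩ := card_pow (kr (U - 1) ⊓ F)
    have hd1 : d ≤ 1 := by
      by_contra hcon
      have : 3 ^ 2 ≤ 3 ^ d := Nat.pow_le_pow_right (by norm_num) (by omega)
      omega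
    have he1 : e ≤ d := by
      rw [hd', he'] at h2
      exact (Nat.pow_le_pow_iff_right (by norm_num)).1 h2
    have hcase : e = d ∨ (e = 0 ∧ d = 1) := by omega
    rcases hcase with rfl | ⟨rfl, rfl⟩
    · rw [hd', he']
    · exfalso
      rw [hd', he'] at h1
      have h3 : q ∣ 3 - 1 := (Nat.modEq_iff_dvd' (by norm_num)).1 h1.symm
      have h4 : q ≤ 2 := Nat.le_of_dvd (by norm_num) h3
      have := hq.two_le
      omega
  -- every vector is a sum
  apply eq_of_mulVec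
  intro v
  have hn1 : nZ p Y *ᵥ v ∈ F := by
    rw [hFdef, mem_kr, Matrix.mulVec_mulVec, sub_mul_nZ hY, Matrix.zero_mulVec]
  have hn2 : v + nZ p Y *ᵥ v ∈ W := by
    have h1 : Y *ᵥ (nZ p Y *ᵥ v) = nZ p Y *ᵥ v := by
      rw [hFdef, mem_kr, Matrix.sub_mulVec, Matrix.one_mulVec, sub_eq_zero] at hn1
      exact hn1
    rw [hWdef, mem_kr, Matrix.mulVec_add, nZ_fix p h1, hp3]
    have h2 : nZ p Y *ᵥ v + (2 : ZMod 3) • (nZ p Y *ᵥ v) = (3 : ZMod 3) • (nZ p Y *ᵥ v) := by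
      have h3 : (3 : ZMod 3) = 1 + 2 := by decide
      rw [h3, add_smul, one_smul]
    rw [h2]
    have h4 : (3 : ZMod 3) = 0 := by decide
    rw [h4, zero_smul]
  have e1 : U *ᵥ (nZ p Y *ᵥ v) = nZ p Y *ᵥ v := by
    have := hUF hn1
    rw [mem_kr, Matrix.sub_mulVec, Matrix.one_mulVec, sub_eq_zero] at this
    exact this
  have e2 : U *ᵥ (v + nZ p Y *ᵥ v) = v + nZ p Y *ᵥ v := by
    have := hUW hn2
    rw [mem_kr, Matrix.sub_mulVec, Matrix.one_mulVec, sub_eq_zero] at this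
    exact this
  rw [Matrix.mulVec_add, e1] at e2
  rw [Matrix.one_mulVec]
  exact add_right_cancel e2

theorem good_five : Good 5 4 := by unfold Good; decide
theorem good_eleven : Good 11 5 := by unfold Good; decide

/-- `SL₅(3)` -/
abbrev X := Matrix.SpecialLinearGroup (Fin 5) (ZMod 3)
/-- matrices -/
abbrev Mat5 := Matrix (Fin 5) (Fin 5) (ZMod 3)

theorem no_order {p q k : ℕ} (hp : p.Prime) (hq : q.Prime) (hq2 : q ≠ 2) (hpq : p ≠ q) (hg : Good p k) (hk : 4 ≤ k)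
    (hp3 : ((p : ℕ) : ZMod 3) = 2) (hq3 : ¬ 3 ^ k ≡ 1 [MOD q]) (g : X) : orderOf g ≠ p * q := by
  intro hgo
  have hpow : ∀ m : ℕ, g ^ m = 1 → p * q ∣ m := fun m hm => hgo ▸ orderOf_dvd_of_pow_eq_one hm
  have h1 : (g ^ q) ^ p = 1 := by rw [← pow_mul, mul_comm, ← hgo, pow_orderOf_eq_one]
  have h2 : (g ^ p) ^ q = 1 := by rw [← pow_mul, ← hgo, pow_orderOf_eq_one]
  have h3 : g ^ q ≠ 1 := by
    intro h
    have h4 : p ∣ q := (Dvd.intro _ rfl).trans (hpow q h)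
    exact hpq ((Nat.prime_dvd_prime_iff_eq hp hq).1 h4)
  have h5 : g ^ p ≠ 1 := by
    intro h
    have h4 : q ∣ p := (Dvd.intro_left _ rfl).trans (hpow p h)
    exact hpq ((Nat.prime_dvd_prime_iff_eq hq hp).1 h4).symm
  apply h5
  apply Subtype.ext
  refine commuting (Y := ((g ^ q : X) : Mn 5)) hp hq hq2 hg hk hp3 hq3 ?_ ?_ ?_ ?_
  · rw [← Matrix.SpecialLinearGroup.coe_pow, h1, Matrix.SpecialLinearGroup.coe_one]
  · exact fun h => h3 (Subtype.ext h)
  · rw [← Matrix.SpecialLinearGroup.coe_pow, h2, Matrix.SpecialLinearGroup.coe_one]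
  · rw [← Matrix.SpecialLinearGroup.coe_mul, ← Matrix.SpecialLinearGroup.coe_mul, ← pow_add, ← pow_add, add_comm]

theorem no15 (g : X) : orderOf g ≠ 3 * 5 := by
  rw [mul_comm]
  exact no_order (k := 4) (by norm_num) (by norm_num) (by norm_num) (by norm_num) good_five (by norm_num) (by decide)
    (by decide) g

theorem no65 (g : X) : orderOf g ≠ 5 * 13 :=
  no_order (k := 4) (by norm_num) (by norm_num) (by norm_num) (by norm_num) good_five (by norm_num) (by decide)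
    (by decide) g

theorem no33 (g : X) : orderOf g ≠ 11 * 3 :=
  no_order (k := 5) (by norm_num) (by norm_num) (by norm_num) (by norm_num) good_eleven (by norm_num) (by decide)
    (by decide) g

theorem no55 (g : X) : orderOf g ≠ 11 * 5 :=
  no_order (k := 5) (by norm_num) (by norm_num) (by norm_num) (by norm_num) good_eleven (by norm_num) (by decide)
    (by decide) g

theorem no143 (g : X) : orderOf g ≠ 11 * 13 :=
  no_order (k := 5) (by norm_num) (by norm_num) (by norm_num) (by norm_num) good_eleven (by norm_num) (by decide)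
    (by decide) g

/-! ### Elements -/

/-- an element of order 52 -/
def m52 : Mn 5 := !![1, 2, 0, 1, 0; 0, 2, 2, 0, 0; 0, 2, 1, 0, 0; 2, 0, 1, 1, 2; 2, 0, 0, 1, 1]
/-- an element of order 12 -/
def m12 : Mn 5 := !![2, 1, 2, 0, 2; 0, 0, 0, 1, 2; 0, 0, 1, 1, 0; 0, 0, 0, 0, 1; 0, 1, 0, 0, 1]
/-- an element of order 20 -/
def m20 : Mn 5 := !![1, 1, 1, 0, 1; 2, 0, 2, 1, 0; 2, 0, 1, 0, 1; 2, 2, 1, 2, 2; 0, 2, 1, 2, 2]
/-- an element of order 39 -/
def m39 : Mn 5 := !![0, 0, 1, 2, 2; 2, 0, 1, 2, 2; 2, 0, 1, 2, 1; 1, 2, 0, 2, 2; 1, 2, 1, 0, 1]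

theorem exists_order {m : Mn 5} {p q : ℕ} (hp : p.Prime) (hq : q.Prime) (hpq : p ≠ q)
    (h : (m ^ 2) ^ (p * q) = 1) (h1 : (m ^ 2) ^ p ≠ 1) (h2 : (m ^ 2) ^ q ≠ 1) : ∃ g : X, orderOf g = p * q := by
  have hdet : (m ^ 2).det = 1 := by
    have h3 := congrArg Matrix.det h
    rw [Matrix.det_pow, Matrix.det_one] at h3
    rw [Matrix.det_pow]
    have h4 : m.det ≠ 0 := by
      intro h0
      rw [Matrix.det_pow, h0, ← pow_mul, zero_pow (by
        have := hp.pos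
        have := hq.pos
        positivity)] at h3
      exact zero_ne_one h3
    have h5 : ∀ x : ZMod 3, x ≠ 0 → x ^ 2 = 1 := by decide
    exact h5 _ h4
  let g : X := ⟨m ^ 2, hdet⟩
  refine ⟨g, ?_⟩
  have hgp : ∀ k : ℕ, ((g ^ k : X) : Mn 5) = (m ^ 2) ^ k := fun k => Matrix.SpecialLinearGroup.coe_pow _ _
  have hg : g ^ (p * q) = 1 := Subtype.ext (by rw [hgp, h]; rfl)
  have hd := orderOf_dvd_of_pow_eq_one hg
  apply Nat.dvd_antisymm hd
  have hpos : orderOf g ≠ 0 := fun h0 => by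
    rw [h0, zero_dvd_iff] at hd
    exact (Nat.mul_ne_zero hp.ne_zero hq.ne_zero) hd
  apply Nat.Coprime.mul_dvd_of_dvd_of_dvd ((Nat.coprime_primes hp hq).2 hpq)
  · by_contra hn
    have h3 : orderOf g ∣ q := (Nat.Coprime.dvd_of_dvd_mul_left (Nat.Coprime.symm ((Nat.Prime.coprime_iff_not_dvd hp).2 hn)) hd)
    apply h2
    rw [← hgp, orderOf_dvd_iff_pow_eq_one.1 h3]
    rfl
  · by_contra hn
    have h3 : orderOf g ∣ p := (Nat.Coprime.dvd_of_dvd_mul_right (Nat.Coprime.symm ((Nat.Prime.coprime_iff_not_dvd hq).2 hn)) hd)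
    apply h1
    rw [← hgp, orderOf_dvd_iff_pow_eq_one.1 h3]
    rfl

theorem ex6 : ∃ g : X, orderOf g = 2 * 3 :=
  exists_order (m := m12) (by norm_num) (by norm_num) (by norm_num) (by decide +kernel) (by decide +kernel)
    (by decide +kernel)
theorem ex10 : ∃ g : X, orderOf g = 2 * 5 :=
  exists_order (m := m20) (by norm_num) (by norm_num) (by norm_num) (by decide +kernel) (by decide +kernel)
    (by decide +kernel)
theorem ex26 : ∃ g : X, orderOf g = 2 * 13 :=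
  exists_order (m := m52) (by norm_num) (by norm_num) (by norm_num) (by decide +kernel) (by decide +kernel)
    (by decide +kernel)
theorem ex39 : ∃ g : X, orderOf g = 3 * 13 :=
  exists_order (m := m39) (by norm_num) (by norm_num) (by norm_num) (by decide +kernel) (by decide +kernel)
    (by decide +kernel)

/-- an element of order 11 -/
def m11 : Mn 5 := !![0, 0, 0, 0, 1; 1, 0, 0, 0, 1; 0, 1, 0, 0, 2; 0, 0, 1, 0, 1; 0, 0, 0, 1, 0]

theorem m11_pow : m11 ^ 11 = 1 := by decide +kernel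
theorem m11_ne : m11 ≠ 1 := by decide +kernel

theorem ex11 : ∃ g : X, orderOf g = 11 := by
  have h0 : m11.det = 1 := by
    have h1 : m11.det ^ 11 = 1 := by rw [← Matrix.det_pow, m11_pow, Matrix.det_one]
    revert h1
    generalize m11.det = x
    revert x
    decide
  have hf : Fact (Nat.Prime 11) := ⟨by norm_num⟩
  let g : X := ⟨m11, h0⟩
  have h1 : g ^ 11 = 1 := Subtype.ext (by rw [Matrix.SpecialLinearGroup.coe_pow]; exact m11_pow)
  exact ⟨g, orderOf_eq_prime h1 fun h => m11_ne (congrArg Subtype.val h)⟩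

theorem prime_dvd {p : ℕ} (hp : p.Prime) (h : p ∣ Nat.card X) : p ∈ [2, 3, 5, 11, 13] := by
  have h1 : Nat.card X ∣ Nat.card (GL (Fin 5) (ZMod 3)) :=
    Subgroup.card_dvd_of_injective (Matrix.SpecialLinearGroup.toGL (n := Fin 5) (R := ZMod 3)) (by
      intro a b hab
      exact Subtype.ext (congrArg Units.val hab))
  rw [Matrix.card_GL_field] at h1
  have h2 : (∏ i : Fin 5, (Fintype.card (ZMod 3) ^ 5 - Fintype.card (ZMod 3) ^ (i : ℕ))) =
      2 ^ 10 * 3 ^ 10 * 5 * 11 ^ 2 * 13 := by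
    rw [ZMod.card]; decide +kernel
  have h3 := (h.trans h1)
  rw [h2] at h3
  have h4 : ∀ {a b : ℕ}, b.Prime → p ∣ b ^ a → p = b := fun hb hd =>
    (Nat.prime_dvd_prime_iff_eq hp hb).1 (hp.dvd_of_dvd_pow hd)
  rcases hp.dvd_mul.1 h3 with h3 | h3
  · rcases hp.dvd_mul.1 h3 with h3 | h3
    · rcases hp.dvd_mul.1 h3 with h3 | h3
      · rcases hp.dvd_mul.1 h3 with h3 | h3
        · rw [h4 (by norm_num) h3]; simp
        · rw [h4 (by norm_num) h3]; simp
      · rw [(Nat.prime_dvd_prime_iff_eq hp (by norm_num)).1 h3]; simp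
    · rw [h4 (by norm_num) h3]; simp
  · rw [(Nat.prime_dvd_prime_iff_eq hp (by norm_num)).1 h3]; simp

end Cfsg.Agent.H188.FiveMat
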