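import Cfsg.Agent.H421.AutL
import Cfsg.Agent.H188.FiveMat

/-!
# The prime graph of `PSL₅(3)` and of its automorphism group (helper188)

* `GF` : the prime divisors and the nonadjacent pairs;
* `SG` : the same prime graph;
* `gf_L`, `sg_aut` : `PSL₅(3)` has the property `GF`, and `Aut PSL₅(3)` has the same prime graph;
* `exists_equiv` : a group between `Inn` and `Aut` is one of the two.
-/

set_option autoImplicit false

namespace Cfsg.Agent.H188.FiveGraph

open Matrix Cfsg.Agent.H421.AutL Cfsg.Agent.H188.FiveMat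
open Cfsg.Agent.ClassicalGeometry.AutPSL
open Cfsg.Agent.ClassicalGeometry.AutPSL.Root (pr pr_surjective)

universe u

/-- the prime divisors and nonadjacent pairs of `PSL₅(3)` -/
structure GF (G : Type u) [Group G] : Prop where
  primes : ∀ p : ℕ, p.Prime → (p ∣ Nat.card G ↔ p ∈ [2, 3, 5, 11, 13])
  n11 : ∀ r : ℕ, r.Prime → r ≠ 11 → ∀ g : G, orderOf g ≠ 11 * r
  n35 : ∀ g : G, orderOf g ≠ 3 * 5
  n513 : ∀ g : G, orderOf g ≠ 5 * 13

/-- the same prime graph -/
structure SG (G H : Type*) [Group G] [Group H] : Prop where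
  primes : ∀ p : ℕ, p.Prime → (p ∣ Nat.card G ↔ p ∣ Nat.card H)
  edges : ∀ p q : ℕ, p.Prime → q.Prime → p ≠ q → ((∃ g : G, orderOf g = p * q) ↔ (∃ g : H, orderOf g = p * q))

theorem SG.of_equiv {G H : Type*} [Group G] [Group H] (e : G ≃* H) : SG G H where
  primes p _ := by rw [Nat.card_congr e.toEquiv]
  edges p q _ _ _ := ⟨fun ⟨g, hg⟩ => ⟨e g, by rw [MulEquiv.orderOf_eq, hg]⟩,
    fun ⟨g, hg⟩ => ⟨e.symm g, by rw [MulEquiv.orderOf_eq, hg]⟩⟩

theorem SG.trans {G H K : Type*} [Group G] [Group H] [Group K] (h1 : SG G H) (h2 : SG H K) : SG G K where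
  primes p hp := (h1.primes p hp).trans (h2.primes p hp)
  edges p q hp hq hpq := (h1.edges p q hp hq hpq).trans (h2.edges p q hp hq hpq)

theorem SG.symm {G H : Type*} [Group G] [Group H] (h1 : SG G H) : SG H G where
  primes p hp := (h1.primes p hp).symm
  edges p q hp hq hpq := (h1.edges p q hp hq hpq).symm

theorem GF.of_sg {G : Type*} {H : Type*} [Group G] [Group H] (h : GF G) (s : SG G H) : GF H where
  primes p hp := (s.primes p hp).symm.trans (h.primes p hp)
  n11 r hr hne g hg := by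
    obtain ⟨g', hg'⟩ := (s.edges 11 r (by norm_num) hr (Ne.symm hne)).2 ⟨g, hg⟩
    exact h.n11 r hr hne g' hg'
  n35 g hg := by
    obtain ⟨g', hg'⟩ := (s.edges 3 5 (by norm_num) (by norm_num) (by norm_num)).2 ⟨g, hg⟩
    exact h.n35 g' hg'
  n513 g hg := by
    obtain ⟨g', hg'⟩ := (s.edges 5 13 (by norm_num) (by norm_num) (by norm_num)).2 ⟨g, hg⟩
    exact h.n513 g' hg'

/-- `PSL₅(3)` -/
abbrev L := Ln 5

theorem neg_one_det : (-1 : Mat5).det = -1 := by
  rw [Matrix.det_neg, Fintype.card_fin, Matrix.det_one]; decide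

theorem pr_inj : Function.Injective (pr : Sn 5 →* L) := by
  rw [injective_iff_map_eq_one]
  intro x hx
  rcases pr_one hx with h | h
  · exact Subtype.ext h
  · exfalso
    have h1 : (x : Mat5).det = 1 := x.2
    rw [h, neg_one_det] at h1
    exact absurd h1 (by decide)

/-- `SL₅(3) ≃ PSL₅(3)` -/
noncomputable def eL : Sn 5 ≃* L := MulEquiv.ofBijective pr ⟨pr_inj, pr_surjective⟩

theorem order_L {m : ℕ} : (∃ l : L, orderOf l = m) ↔ ∃ x : X, orderOf x = m :=
  ⟨fun ⟨g, hg⟩ => ⟨eL.symm g, by rw [MulEquiv.orderOf_eq, hg]⟩, fun ⟨g, hg⟩ => ⟨eL g, by rw [MulEquiv.orderOf_eq, hg]⟩⟩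

theorem no_L {m : ℕ} (h : ∀ x : X, orderOf x ≠ m) (l : L) : orderOf l ≠ m := by
  intro hl
  obtain ⟨x, hx⟩ := order_L.1 ⟨l, hl⟩
  exact h x hx

theorem card_L : Nat.card L = Nat.card X := Nat.card_congr eL.symm.toEquiv

theorem dvd_L {p : ℕ} {G : Type*} [Group G] (h : ∃ g : G, p ∣ orderOf g) : p ∣ Nat.card G := by
  obtain ⟨g, hg⟩ := h
  exact hg.trans (orderOf_dvd_natCard g)

theorem dvd_card : ∀ p ∈ [2, 3, 5, 11, 13], p ∣ Nat.card L := by
  intro p hp
  simp only [List.mem_cons, List.not_mem_nil, or_false] at hp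
  rw [card_L]
  rcases hp with rfl | rfl | rfl | rfl | rfl
  · obtain ⟨g, hg⟩ := ex6
    exact dvd_L ⟨g, by rw [hg]; exact Dvd.intro _ rfl⟩
  · obtain ⟨g, hg⟩ := ex6
    exact dvd_L ⟨g, by rw [hg]; exact Dvd.intro_left _ rfl⟩
  · obtain ⟨g, hg⟩ := ex10
    exact dvd_L ⟨g, by rw [hg]; exact Dvd.intro_left _ rfl⟩
  · obtain ⟨g, hg⟩ := ex11
    exact dvd_L ⟨g, by rw [hg]⟩
  · obtain ⟨g, hg⟩ := ex26
    exact dvd_L ⟨g, by rw [hg]; exact Dvd.intro_left _ rfl⟩

theorem gf_L : GF L where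
  primes p hp := ⟨fun h => prime_dvd hp (by rw [← card_L]; exact h), dvd_card p⟩
  n11 r hr hne g hg := by
    have h1 : r ∣ Nat.card X := by
      rw [← card_L]
      exact dvd_L ⟨g, by rw [hg]; exact Dvd.intro_left _ rfl⟩
    have h2 := prime_dvd hr h1
    simp only [List.mem_cons, List.not_mem_nil, or_false] at h2
    rcases h2 with rfl | rfl | rfl | rfl | rfl
    · exact no22_five g hg
    · exact no_L no33 g hg
    · exact no_L no55 g hg
    · exact hne rfl
    · exact no_L no143 g hg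
  n35 := no_L no15
  n513 := no_L no65

/-! ### Automorphisms -/

theorem conj_inj : Function.Injective (MulAut.conj : L →* MulAut L) := by
  rw [injective_iff_map_eq_one]
  intro l hl
  obtain ⟨x, rfl⟩ := pr_surjective l
  rw [conj_pr] at hl
  obtain ⟨r, hr⟩ := c_eq_one (by norm_num) hl
  have h1 : (x : Mat5) = scalar (Fin 5) r := hr.symm
  have h2 : (x : Mat5).det = 1 := x.2
  rw [h1, scalar_apply, det_diagonal, Finset.prod_const, Finset.card_univ, Fintype.card_fin] at h2
  have h3 : ∀ r : ZMod 3, r ^ 5 = 1 → r = 1 := by decide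
  have h4 := h3 r h2
  rw [h4, map_one] at h1
  rw [show x = 1 from Subtype.ext h1, map_one]

theorem neg_inv_coe (A : Gn 5) : (((-A)⁻¹ : Gn 5) : Mat5) = -((A⁻¹ : Gn 5) : Mat5) := by
  have h : (-A)⁻¹ = -A⁻¹ := by
    rw [inv_eq_iff_mul_eq_one]
    apply Units.ext
    rw [Units.val_mul, Units.val_neg, Units.val_neg, neg_mul_neg, ← Units.val_mul, mul_inv_cancel, Units.val_one]
  rw [h, Units.val_neg]

theorem c_neg (A : Gn 5) : c (-A) = c A := by
  have h : Auto.cj (-A) = Auto.cj A := by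
    apply MulEquiv.ext
    intro g
    apply Subtype.ext
    rw [Auto.coe_cj, Auto.coe_cj, neg_inv_coe, Units.val_neg, neg_mul, neg_mul, mul_neg, neg_neg]
  rw [c, MonoidHom.comp_apply, MonoidHom.comp_apply, h]

theorem c_inner (A : Gn 5) : ∃ l : L, MulAut.conj l = c A := by
  rcases dt_cases A with h | h
  · obtain ⟨x, hx⟩ := c_of_det h
    exact ⟨_, hx.symm⟩
  · obtain ⟨x, hx⟩ := c_of_det (A := -A) (by
      have h1 : dt (-A) = (-1) ^ 5 * dt A := by
        rw [dt, Units.val_neg, Matrix.det_neg, Fintype.card_fin]; rfl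
      rw [h1, h]; decide)
    exact ⟨_, by rw [← hx, c_neg]⟩

theorem form' (α : MulAut L) : (∃ l : L, MulAut.conj l = α) ∨ ∃ A, α = c A * io := by
  rcases form (by norm_num) α with ⟨A, rfl⟩ | h
  · exact Or.inl (c_inner A)
  · exact Or.inr h

theorem inner_of_odd {α : MulAut L} {m : ℕ} (hm : Odd m) (h : α ^ m = 1) : ∃ l : L, MulAut.conj l = α := by
  obtain ⟨A, rfl⟩ := form_of_odd (by norm_num) hm h
  exact c_inner A

theorem not_inner {A : Gn 5} : ¬ ∃ l : L, MulAut.conj l = c A * io := by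
  rintro ⟨l, hl⟩
  obtain ⟨x, rfl⟩ := pr_surjective l
  rw [conj_pr] at hl
  exact c_mul_io_ne (by norm_num) hl.symm

theorem conj_map {G : Type*} [Group G] (α : MulAut G) (k : G) : α * MulAut.conj k * α⁻¹ = MulAut.conj (α k) := by
  apply MulEquiv.ext
  intro x
  change α (k * α⁻¹ x * k⁻¹) = α k * x * (α k)⁻¹
  rw [map_mul, map_mul, map_inv, MulAut.apply_inv_self]

theorem no22_aut (α : MulAut L) : orderOf α ≠ 22 := by
  intro hα
  rcases form' α with ⟨l, rfl⟩ | ⟨A, rfl⟩
  · rw [orderOf_injective _ conj_inj] at hα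
    exact no22_five l hα
  · set β := c A * io with hβ
    have h11 : (β ^ 2) ^ 11 = 1 := by
      have h22 := pow_orderOf_eq_one β
      rw [hα] at h22
      rw [← pow_mul]
      exact h22
    obtain ⟨k, hk⟩ := inner_of_odd (m := 11) (by decide) h11
    have h1 : k ^ 11 = 1 := by
      apply conj_inj
      rw [map_pow, hk, h11, map_one]
    have h2 : k ≠ 1 := by
      rintro rfl
      rw [map_one] at hk
      have := orderOf_dvd_of_pow_eq_one hk.symm
      rw [hα] at this
      norm_num at this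
    refine not_fixed (by norm_num) h1 h2 (A := A) ?_
    apply conj_inj
    rw [← hβ, ← conj_map, hk, ← pow_succ', pow_succ, mul_inv_cancel_right]

instance : Finite (MulAut L) := by
  refine Finite.of_injective (fun α : MulAut L => (α : L → L)) ?_
  intro a b h
  exact MulEquiv.ext (congrFun h)

theorem sg_aut : SG L (MulAut L) where
  primes p hp := by
    refine ⟨fun h => h.trans (Subgroup.card_dvd_of_injective _ conj_inj), fun h => ?_⟩
    rcases hp.eq_two_or_odd' with rfl | hodd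
    · exact dvd_card 2 (by simp)
    · have hf : Fact p.Prime := ⟨hp⟩
      obtain ⟨α, hα⟩ := exists_prime_orderOf_dvd_card' (G := MulAut L) p h
      obtain ⟨l, rfl⟩ := inner_of_odd hodd (by rw [← hα, pow_orderOf_eq_one])
      rw [orderOf_injective _ conj_inj] at hα
      exact dvd_L ⟨l, by rw [hα]⟩
  edges := by
    have hdown : ∀ q : ℕ, q.Prime → q ≠ 2 → q ∣ Nat.card (MulAut L) → q ∣ Nat.card L := by
      intro q hq h2 h
      have hf : Fact q.Prime := ⟨hq⟩
      obtain ⟨α, hα⟩ := exists_prime_orderOf_dvd_card' (G := MulAut L) q h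
      obtain ⟨l, rfl⟩ := inner_of_odd (hq.odd_of_ne_two h2) (by rw [← hα, pow_orderOf_eq_one])
      rw [orderOf_injective _ conj_inj] at hα
      exact dvd_L ⟨l, by rw [hα]⟩
    have htwo : ∀ q : ℕ, q.Prime → q ≠ 2 → (∃ α : MulAut L, orderOf α = 2 * q) → ∃ l : L, orderOf l = 2 * q := by
      rintro q hq h2 ⟨α, hα⟩
      have h3 := hdown q hq h2 (dvd_L ⟨α, by rw [hα]; exact Dvd.intro_left _ rfl⟩)
      have h4 := prime_dvd hq (by rw [← card_L]; exact h3)
      simp only [List.mem_cons, List.not_mem_nil, or_false] at h4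
      rcases h4 with rfl | rfl | rfl | rfl | rfl
      · exact absurd rfl h2
      · exact order_L.2 ex6
      · exact order_L.2 ex10
      · exact absurd hα (no22_aut α)
      · exact order_L.2 ex26
    intro p q hp hq hpq
    refine ⟨fun ⟨l, hl⟩ => ⟨MulAut.conj l, by rw [orderOf_injective _ conj_inj, hl]⟩, fun h => ?_⟩
    rcases eq_or_ne p 2 with rfl | hp2
    · exact htwo q hq hpq.symm h
    rcases eq_or_ne q 2 with rfl | hq2
    · rw [mul_comm] at h ⊢
      exact htwo p hp hpq h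
    · obtain ⟨α, hα⟩ := h
      obtain ⟨l, rfl⟩ := inner_of_odd ((hp.odd_of_ne_two hp2).mul (hq.odd_of_ne_two hq2))
        (by rw [← hα, pow_orderOf_eq_one])
      exact ⟨l, by rw [orderOf_injective _ conj_inj] at hα; exact hα⟩

theorem not_equiv : ¬ Nonempty (MulAut L ≃* L) := by
  rintro ⟨e⟩
  have hs : Function.Surjective (MulAut.conj : L →* MulAut L) :=
    ((Nat.bijective_iff_injective_and_card _).2 ⟨conj_inj, (Nat.card_congr e.toEquiv).symm⟩).2
  exact not_inner (A := 1) (hs _)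

/-- **Groups between `L` and `Aut L`.** -/
theorem exists_equiv {Y : Type*} [Group Y] (ψ : Y →* MulAut L) (hψ : Function.Injective ψ)
    (hi : ∀ l : L, ∃ y, ψ y = MulAut.conj l) : Nonempty (Y ≃* L) ∨ Nonempty (Y ≃* MulAut L) := by
  by_cases h : ∀ y, ∃ l : L, MulAut.conj l = ψ y
  · left
    have h1 : ψ.range = (MulAut.conj : L →* MulAut L).range := by
      apply le_antisymm
      · rintro _ ⟨y, rfl⟩
        obtain ⟨l, hl⟩ := h y
        exact ⟨l, hl⟩
      · rintro _ ⟨l, rfl⟩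
        exact hi l
    exact ⟨(MonoidHom.ofInjective hψ).trans ((MulEquiv.subgroupCongr h1).trans (MonoidHom.ofInjective conj_inj).symm)⟩
  · right
    push Not at h
    obtain ⟨y0, hy0⟩ := h
    obtain ⟨A, hA⟩ := (form' (ψ y0)).resolve_left (fun ⟨l, hl⟩ => hy0 l hl)
    refine ⟨MulEquiv.ofBijective ψ ⟨hψ, fun α => ?_⟩⟩
    rcases form' α with ⟨l, hl⟩ | ⟨B, hB⟩
    · obtain ⟨y, hy⟩ := hi l
      exact ⟨y, hy.trans hl⟩
    · obtain ⟨l, hl⟩ := c_inner (A * tinv B)
      obtain ⟨y, hy⟩ := hi l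
      refine ⟨y0⁻¹ * y, ?_⟩
      rw [map_mul, map_inv, hy, hl, inv_mul_eq_iff_eq_mul, hA, hB, mul_mix]

end Cfsg.Agent.H188.FiveGraph
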