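import Cfsg.Agent.H188.LFiveData

/-!
# Modules of `SL₅(3)` in characteristic 2 with fixed-point-free elements of order 11: the group `M₁₁`

`eA_inj` : if `x` has no fixed points on `V`, `f v = v` and the sum of `v` over `A` is 0, then `v = 0`.
-/

set_option autoImplicit false

namespace Cfsg.Agent.H188.LFive

variable {V : Type*} [AddCommGroup V] (ρ : X →* AddMonoid.End V)

theorem mulV (g h : X) (z : V) : ρ (g * h) z = ρ g (ρ h z) := by rw [map_mul]; rfl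

theorem oneV (z : V) : ρ 1 z = z := by rw [map_one]; rfl

/-- sum over the powers of an element -/
def avg (g : X) (m : ℕ) (z : V) : V := ∑ i ∈ Finset.range m, ρ (g ^ i) z

theorem avg_left {g : X} {m : ℕ} (hg : g ^ m = 1) (z : V) : ρ g (avg ρ g m z) = avg ρ g m z := by
  unfold avg
  rw [map_sum]
  have h1 : ∀ i ∈ Finset.range m, ρ g (ρ (g ^ i) z) = ρ (g ^ (i + 1)) z := by
    intro i _
    rw [pow_succ', mulV]
  rw [Finset.sum_congr rfl h1]
  have h2 := Finset.sum_range_succ (fun i => ρ (g ^ i) z) m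
  have h3 := Finset.sum_range_succ' (fun i => ρ (g ^ i) z) m
  rw [h2, hg, pow_zero] at h3
  exact (add_right_cancel h3).symm

theorem avg_right {g : X} {m : ℕ} (hg : g ^ m = 1) (z : V) : avg ρ g m (ρ g z) = avg ρ g m z := by
  rw [← avg_left ρ hg z]
  unfold avg
  rw [map_sum]
  refine Finset.sum_congr rfl fun i _ => ?_
  rw [← mulV, ← mulV, ← pow_succ', pow_succ]

theorem avg_add (g : X) (m : ℕ) (y z : V) : avg ρ g m (y + z) = avg ρ g m y + avg ρ g m z := by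
  unfold avg
  rw [← Finset.sum_add_distrib]
  exact Finset.sum_congr rfl fun i _ => map_add _ _ _

theorem avg_zero (g : X) (m : ℕ) : avg ρ g m (0 : V) = 0 := by
  unfold avg
  exact Finset.sum_eq_zero fun i _ => map_zero _

theorem avg_sum (g : X) (m : ℕ) {ι : Type*} (s : Finset ι) (F : ι → V) :
    avg ρ g m (∑ i ∈ s, F i) = ∑ i ∈ s, avg ρ g m (F i) := by
  classical
  induction s using Finset.induction_on with
  | empty => simp [avg_zero]
  | insert a s ha ih => rw [Finset.sum_insert ha, Finset.sum_insert ha, avg_add, ih]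

theorem avg_pow_right {g : X} {m : ℕ} (hg : g ^ m = 1) (k : ℕ) (z : V) : avg ρ g m (ρ (g ^ k) z) = avg ρ g m z := by
  induction k with
  | zero => rw [pow_zero, oneV]
  | succ k ih => rw [pow_succ', mulV, avg_right ρ hg, ih]

/-- sum over `⟨f⟩` -/
abbrev aF (z : V) : V := avg ρ fX 5 z
/-- sum over `⟨n⟩` -/
abbrev aN (z : V) : V := avg ρ nX 4 z

theorem nf_pow (j : ℕ) : nX * fX ^ j = fX ^ (2 * j) * nX := by
  induction j with
  | zero => simp
  | succ j ih =>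
    rw [pow_succ, ← mul_assoc, ih, mul_assoc, nfX, ← mul_assoc, ← pow_add]
    congr 2

theorem aF_n (z : V) : aF ρ (ρ nX z) = ρ nX (aF ρ z) := by
  unfold aF avg
  rw [map_sum]
  have h1 : ∀ i ∈ Finset.range 5, ρ nX (ρ (fX ^ i) z) = ρ (fX ^ (2 * i)) (ρ nX z) := by
    intro i _
    rw [← mulV, ← mulV, nf_pow]
  rw [Finset.sum_congr rfl h1]
  have h6 : fX ^ 6 = fX ^ 1 := by rw [show 6 = 5 + 1 from rfl, pow_add, fX_pow, one_mul]
  have h8 : fX ^ 8 = fX ^ 3 := by rw [show 8 = 5 + 3 from rfl, pow_add, fX_pow, one_mul]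
  simp only [Finset.sum_range_succ, Finset.sum_range_zero, Nat.reduceMul, h6, h8]
  abel

theorem aF_n_pow (k : ℕ) (z : V) : aF ρ (ρ (nX ^ k) z) = ρ (nX ^ k) (aF ρ z) := by
  induction k with
  | zero => rw [pow_zero, oneV, oneV]
  | succ k ih => rw [pow_succ', mulV, aF_n, ih, mulV]

theorem aF_aN (z : V) : aF ρ (aN ρ z) = aN ρ (aF ρ z) := by
  have h1 : aN ρ z = ∑ i ∈ Finset.range 4, ρ (nX ^ i) z := rfl
  rw [h1]
  unfold aF
  rw [avg_sum]
  exact Finset.sum_congr rfl fun i _ => aF_n_pow ρ i z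

theorem aF_pow_right (k : ℕ) (z : V) : aF ρ (ρ (fX ^ k) z) = aF ρ z := avg_pow_right ρ fX_pow k z

theorem aN_pow_right (k : ℕ) (z : V) : aN ρ (ρ (nX ^ k) z) = aN ρ z := avg_pow_right ρ nX_pow k z

/-- sum over the double coset of `g` -/
def s (g : X) (v : V) : V := aN ρ (aF ρ (ρ g v))

theorem s_left_f (k : ℕ) (g : X) (v : V) : s ρ (fX ^ k * g) v = s ρ g v := by
  unfold s
  rw [mulV, aF_pow_right]

theorem s_left_n (k : ℕ) (g : X) (v : V) : s ρ (nX ^ k * g) v = s ρ g v := by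
  unfold s
  rw [mulV, aF_n_pow, aN_pow_right]

theorem pow_fix {g : X} {v : V} (h : ρ g v = v) (k : ℕ) : ρ (g ^ k) v = v := by
  induction k with
  | zero => rw [pow_zero, oneV]
  | succ k ih => rw [pow_succ', mulV, ih, h]

section
variable {v : V} (hf : ρ fX v = v) (hn : ρ nX v = v)
include hf hn

theorem s_right (g : X) (c d : ℕ) : s ρ (g * nX ^ c * fX ^ d) v = s ρ g v := by
  unfold s
  rw [mulV, mulV, pow_fix ρ hf, pow_fix ρ hn]

theorem s_eq (g : X) (a b c d : ℕ) : s ρ (fX ^ a * nX ^ b * g * nX ^ c * fX ^ d) v = s ρ g v := by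
  rw [s_right ρ hf hn, mul_assoc, s_left_f, s_left_n]

theorem s_zero (h2 : ∀ v : V, v + v = 0) (g : X) (j c d : ℕ)
    (h : nX ^ 2 * (fX ^ j * g) = fX ^ j * g * nX ^ c * fX ^ d) : s ρ g v = 0 := by
  have h1 : ρ (nX ^ 2) (aF ρ (ρ g v)) = aF ρ (ρ g v) := by
    have h3 : aF ρ (ρ g v) = aF ρ (ρ (fX ^ j * g) v) := by rw [mulV, aF_pow_right]
    rw [h3, ← aF_n_pow, ← mulV, h, mulV, mulV, pow_fix ρ hf, pow_fix ρ hn]
  unfold s aN avg
  have h4 : nX ^ 3 = nX * nX ^ 2 := by rw [← pow_succ']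
  have h5 : ρ (nX ^ 3) (aF ρ (ρ g v)) = ρ (nX ^ 1) (aF ρ (ρ g v)) := by
    rw [h4, mulV, h1, pow_one]
  simp only [Finset.sum_range_succ, Finset.sum_range_zero, h1, h5]
  rw [pow_zero, oneV]
  have h6 := h2 (aF ρ (ρ g v))
  have h7 := h2 (ρ (nX ^ 1) (aF ρ (ρ g v)))
  calc _ = (aF ρ (ρ g v) + aF ρ (ρ g v)) + (ρ (nX ^ 1) (aF ρ (ρ g v)) + ρ (nX ^ 1) (aF ρ (ρ g v))) := by abel
    _ = 0 := by rw [h6, h7, add_zero]

/-- the value of a label -/
def SL (v : V) (l : ℕ) : V := if l = 0 then 0 else s ρ (rX l) v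

omit hf hn in
theorem SL_zero (v : V) : SL ρ v 0 = 0 := if_pos rfl

theorem s_gX (h2 : ∀ v : V, v + v = 0) {k i : ℕ} (hk : k < 3) (hi : i < 11) :
    s ρ (gX k i) v = SL ρ v (tl k i).1 := by
  by_cases h : (tl k i).1 = 0
  · rw [h, SL_zero]
    exact s_zero ρ hf hn h2 _ _ _ _ (chk_zero hk hi h)
  · rw [SL, if_neg h, chk_pos hk hi h]
    exact s_eq ρ hf hn _ _ _ _ _

theorem sum_gX (h2 : ∀ v : V, v + v = 0) (hx : ∀ v, ρ xX v = v → v = 0) {k : ℕ} (hk : k < 3) :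
    ∑ i ∈ Finset.range 11, SL ρ v (tl k i).1 = 0 := by
  have h1 : avg ρ xX 11 (ρ (uX k) v) = 0 := hx _ (avg_left ρ xX_pow _)
  have h3 : aN ρ (aF ρ (ρ (wX k) (avg ρ xX 11 (ρ (uX k) v)))) = 0 := by
    rw [h1, map_zero]
    show avg ρ nX 4 (avg ρ fX 5 0) = 0
    rw [avg_zero, avg_zero]
  rw [← h3]
  have h4 : ρ (wX k) (avg ρ xX 11 (ρ (uX k) v)) = ∑ i ∈ Finset.range 11, ρ (gX k i) v := by
    unfold avg
    rw [map_sum]
    exact Finset.sum_congr rfl fun i _ => by rw [gX, mulV, mulV]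
  rw [h4]
  show _ = avg ρ nX 4 (avg ρ fX 5 _)
  rw [avg_sum, avg_sum]
  refine Finset.sum_congr rfl fun i hi => ?_
  rw [← s_gX ρ hf hn h2 hk (Finset.mem_range.1 hi)]
  rfl

theorem s_aX (h2 : ∀ v : V, v + v = 0) (hx : ∀ v, ρ xX v = v → v = 0) : s ρ aX v = 0 := by
  have h0 := sum_gX ρ hf hn h2 hx (k := 0) (by norm_num)
  have h1 := sum_gX ρ hf hn h2 hx (k := 1) (by norm_num)
  have h3 := sum_gX ρ hf hn h2 hx (k := 2) (by norm_num)
  have e : ∀ k i : ℕ, tl k i = TL.getD (11 * k + i) (0, 0, 0, 0, 0) := fun _ _ => rfl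
  simp only [Finset.sum_range_succ, Finset.sum_range_zero, e, TL, Nat.reduceMul, Nat.reduceAdd, List.getD_cons_zero,
    List.getD_cons_succ, SL_zero, add_zero, zero_add] at h0 h1 h3
  have h4 : s ρ aX v = SL ρ v 1 := by
    rw [SL, if_neg (by norm_num)]
    rfl
  rw [h4]
  have h5 := h2 (SL ρ v 6 + SL ρ v 8 + SL ρ v 3 + SL ρ v 5 + SL ρ v 5 + SL ρ v 11 + SL ρ v 11 + SL ρ v 2 + SL ρ v 4 +
    SL ρ v 4 + SL ρ v 7 + SL ρ v 10 + SL ρ v 9 + SL ρ v 1)
  calc SL ρ v 1 = SL ρ v 1 + 0 + 0 + 0 := by simp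
    _ = _ := by
      nth_rewrite 1 [← h0]
      nth_rewrite 1 [← h1]
      nth_rewrite 1 [← h3]
      rw [← h5]
      abel

end

/-! ### the subgroup `A` -/

theorem n_c : ∀ i < 3, ∀ j < 3, nM * (aM ^ i * bM ^ j) = aM ^ (2 * j % 3) * bM ^ i * nM := by decide +kernel

theorem nX_c {i j : ℕ} (hi : i < 3) (hj : j < 3) : nX * (aX ^ i * bX ^ j) = aX ^ (2 * j % 3) * bX ^ i * nX :=
  Subtype.ext (n_c i hi j hj)

/-- sum over `A` -/
def eA (z : V) : V := ∑ i ∈ Finset.range 3, ∑ j ∈ Finset.range 3, ρ (aX ^ i * bX ^ j) z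

theorem eA_add (y z : V) : eA ρ (y + z) = eA ρ y + eA ρ z := by
  unfold eA
  simp only [map_add, Finset.sum_add_distrib]

theorem eA_n (z : V) : eA ρ (ρ nX z) = ρ nX (eA ρ z) := by
  unfold eA
  simp only [map_sum, ← mulV]
  have h1 : ∀ i ∈ Finset.range 3, ∀ j ∈ Finset.range 3,
      ρ (nX * (aX ^ i * bX ^ j)) z = ρ (aX ^ (2 * j % 3) * bX ^ i * nX) z := by
    intro i hi j hj
    rw [nX_c (Finset.mem_range.1 hi) (Finset.mem_range.1 hj)]
  rw [Finset.sum_congr rfl fun i hi => Finset.sum_congr rfl fun j hj => h1 i hi j hj]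
  simp only [Finset.sum_range_succ, Finset.sum_range_zero, Nat.reduceMul, Nat.reduceMod]
  abel

theorem eA_fix {v : V} (hn : ρ nX v = v) : eA ρ v = v + aN ρ (ρ aX v) + aN ρ (ρ (aX * bX) v) := by
  have h1 : ∀ {i j : ℕ}, i < 3 → j < 3 → ρ nX (ρ (aX ^ i * bX ^ j) v) = ρ (aX ^ (2 * j % 3) * bX ^ i) v := by
    intro i j hi hj
    rw [← mulV, nX_c hi hj, mulV, hn]
  have e1 : ρ aX v = ρ (aX ^ 1 * bX ^ 0) v := by rw [pow_one, pow_zero, mul_one]
  have e2 : ρ (aX * bX) v = ρ (aX ^ 1 * bX ^ 1) v := by rw [pow_one, pow_one]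
  rw [e1, e2]
  unfold eA aN avg
  have s1 : ∀ z : V, ρ (nX ^ 3) z = ρ nX (ρ nX (ρ nX z)) := fun z => by
    rw [show nX ^ 3 = nX * (nX * nX) by simp only [pow_succ, pow_zero, one_mul, mul_assoc], mulV, mulV]
  have s2 : ∀ z : V, ρ (nX ^ 2) z = ρ nX (ρ nX z) := fun z => by rw [pow_two, mulV]
  simp only [Finset.sum_range_succ, Finset.sum_range_zero, s1, s2]
  rw [pow_one nX]
  simp only [h1 (i := 1) (j := 0) (by norm_num) (by norm_num), h1 (i := 1) (j := 1) (by norm_num) (by norm_num),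
    h1 (i := 0) (j := 1) (by norm_num) (by norm_num), h1 (i := 2) (j := 0) (by norm_num) (by norm_num),
    h1 (i := 2) (j := 1) (by norm_num) (by norm_num), h1 (i := 2) (j := 2) (by norm_num) (by norm_num),
    Nat.reduceMul, Nat.reduceMod, pow_zero nX, oneV]
  rw [pow_zero aX, pow_zero bX, mul_one (1 : X), oneV]
  abel

theorem eq_zero (h2 : ∀ v : V, v + v = 0) (hx : ∀ v, ρ xX v = v → v = 0) {v : V} (hf : ρ fX v = v)
    (hn : ρ nX v = v) (hA : eA ρ v = 0) : v = 0 := by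
  have h1 : aF ρ (eA ρ v) = v := by
    rw [eA_fix ρ hn]
    unfold aF
    rw [avg_add, avg_add]
    have e1 : avg ρ fX 5 (aN ρ (ρ aX v)) = 0 := (aF_aN ρ _).trans (s_aX ρ hf hn h2 hx)
    have e2 : avg ρ fX 5 (aN ρ (ρ (aX * bX) v)) = 0 := by
      refine (aF_aN ρ _).trans ?_
      exact s_zero ρ hf hn h2 (aX * bX) 1 2 3 chk_ab
    have e3 : avg ρ fX 5 v = v := by
      unfold avg
      simp only [pow_fix ρ hf, Finset.sum_range_succ, Finset.sum_range_zero, zero_add]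
      rw [h2, zero_add, h2, zero_add]
    rw [e1, e2, e3, add_zero, add_zero]
  rw [← h1, hA]
  exact avg_zero ρ fX 5

theorem f_n : fX * nX = nX * fX ^ 3 := by
  rw [nf_pow, show 2 * 3 = 5 + 1 from rfl, pow_add, fX_pow, one_mul, pow_one]

theorem eA_inj (h2 : ∀ v : V, v + v = 0) (hx : ∀ v, ρ xX v = v → v = 0) {v : V} (hf : ρ fX v = v)
    (hA : eA ρ v = 0) : v = 0 := by
  have key : ∀ z : V, z + z = 0 := h2
  have hfn : ∀ z : V, ρ fX z = z → ρ fX (ρ nX z) = ρ nX z := by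
    intro z hz
    rw [← mulV, f_n, mulV, pow_fix ρ hz]
  have step : ∀ z : V, ρ fX z = z → eA ρ z = 0 → ρ nX (z + ρ nX z) = z + ρ nX z → ρ nX z = z := by
    intro z hz1 hz2 hz3
    have h1 : z + ρ nX z = 0 := by
      refine eq_zero ρ h2 hx ?_ hz3 ?_
      · rw [map_add, hz1, hfn z hz1]
      · rw [eA_add, eA_n, hz2, map_zero, add_zero]
    exact (eq_neg_of_add_eq_zero_right h1).trans (neg_eq_of_add_eq_zero_left (h2 z))
  have hn4 : ρ nX (ρ nX (ρ nX (ρ nX v))) = v := by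
    rw [← mulV, ← mulV, ← mulV]
    have : nX * nX * nX * nX = 1 := by
      rw [← nX_pow]
      simp only [pow_succ, pow_zero, one_mul, mul_assoc]
    rw [this, oneV]
  -- `z = v + n² v` is fixed by `n²`
  have hz : ρ nX (v + ρ nX (ρ nX v)) = v + ρ nX (ρ nX v) := by
    refine step _ ?_ ?_ ?_
    · rw [map_add, hf, hfn _ (hfn _ hf)]
    · rw [eA_add, eA_n, eA_n, hA, map_zero, map_zero, add_zero]
    · simp only [map_add, hn4]
      abel
  have hz0 : v + ρ nX (ρ nX v) = 0 := by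
    refine eq_zero ρ h2 hx ?_ hz ?_
    · rw [map_add, hf, hfn _ (hfn _ hf)]
    · rw [eA_add, eA_n, eA_n, hA, map_zero, map_zero, add_zero]
  have hn2 : ρ nX (ρ nX v) = v := (eq_neg_of_add_eq_zero_right hz0).trans (neg_eq_of_add_eq_zero_left (h2 v))
  have hn1 : ρ nX v = v := by
    refine step _ hf hA ?_
    rw [map_add, hn2, add_comm]
  exact eq_zero ρ h2 hx hf hn1 hA

end Cfsg.Agent.H188.LFive
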