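import Mathlib

/-!
# `M₁₁ < SL₅(3)` and its modules in characteristic 2

`eq_zero` : let `SL₅(3)` act on an abelian group `V` of exponent 2, so that the element `x` of order 11 has no fixed
points.  Let `v` be a vector fixed by the element `f` of order 5 and by the element `n` of order 4 normalizing it; if the
sum of `v` over the subgroup `A = ⟨a, b⟩` of order 9 is 0, then `v = 0`.
`eA_inj` : the same for every vector fixed by `f`.
The certificate: three sums over cosets of `⟨x⟩`.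
-/

set_option autoImplicit false

namespace Cfsg.Agent.H188.LFive

/-- matrices -/
abbrev M := Matrix (Fin 5) (Fin 5) (ZMod 3)
/-- the group -/
abbrev X := Matrix.SpecialLinearGroup (Fin 5) (ZMod 3)

/-- a matrix from its code in base 4 -/
def ofN (n : ℕ) : M := fun i j => (((n >>> (2 * (5 * i.val + j.val))) % 4 : ℕ) : ZMod 3)

/-- order 11 -/
def xM : M := ofN 633611296441600
/-- order 5 -/
def fM : M := ofN 35476736639249
/-- order 4, normalizes `f` and `A` -/
def nM : M := ofN 669139027497106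
/-- order 3, generator of `A` -/
def aM : M := ofN 282042189349377
/-- order 3, generator of `A` -/
def bM : M := ofN 743828512866345
/-- the element inverting `a` -/
def tM : M := ofN 562954282008578
/-- the Singer element of `GL₄(3)` -/
def sM : M := ofN 352411197898754

theorem x_pow : xM ^ 11 = 1 := by decide +kernel
theorem f_pow : fM ^ 5 = 1 := by decide +kernel
theorem n_pow : nM ^ 4 = 1 := by decide +kernel
theorem a_pow : aM ^ 3 = 1 := by decide +kernel
theorem b_pow : bM ^ 3 = 1 := by decide +kernel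
theorem nf : nM * fM = fM ^ 2 * nM := by decide +kernel
theorem na : nM * aM = bM * nM := by decide +kernel
theorem nb : nM * bM = aM ^ 2 * nM := by decide +kernel
theorem ab : aM * bM = bM * aM := by decide +kernel

theorem det_x : xM.det = 1 := by decide +kernel
theorem det_f : fM.det = 1 := by decide +kernel
theorem det_n : nM.det = 1 := by decide +kernel
theorem det_a : aM.det = 1 := by decide +kernel
theorem det_b : bM.det = 1 := by decide +kernel
theorem det_t : tM.det = 1 := by decide +kernel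
theorem det_s : sM.det = 1 := by decide +kernel

/-- order 11 -/
def xX : X := ⟨xM, det_x⟩
/-- order 5 -/
def fX : X := ⟨fM, det_f⟩
/-- order 4 -/
def nX : X := ⟨nM, det_n⟩
/-- order 3 -/
def aX : X := ⟨aM, det_a⟩
/-- order 3 -/
def bX : X := ⟨bM, det_b⟩
/-- inverts `a` -/
def tX : X := ⟨tM, det_t⟩
/-- Singer element -/
def sX : X := ⟨sM, det_s⟩

theorem xX_pow : xX ^ 11 = 1 := Subtype.ext x_pow
theorem fX_pow : fX ^ 5 = 1 := Subtype.ext f_pow
theorem nX_pow : nX ^ 4 = 1 := Subtype.ext n_pow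
theorem aX_pow : aX ^ 3 = 1 := Subtype.ext a_pow
theorem bX_pow : bX ^ 3 = 1 := Subtype.ext b_pow
theorem nfX : nX * fX = fX ^ 2 * nX := Subtype.ext nf
theorem naX : nX * aX = bX * nX := Subtype.ext na
theorem nbX : nX * bX = aX ^ 2 * nX := Subtype.ext nb
theorem abX : aX * bX = bX * aX := Subtype.ext ab

/-! ### the certificate -/

/-- the left factors -/
def wX (k : ℕ) : X := if k = 0 then xX ^ 2 * fX ^ 4 * nX else if k = 1 then 1 else xX ^ 2 * nX ^ 3
/-- the right factors -/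
def uX (k : ℕ) : X := if k = 0 then fX * nX * xX ^ 2 else if k = 1 then fX ^ 4 * nX ^ 3 * xX ^ 3 else 1
/-- the left factors -/
def wM (k : ℕ) : M := if k = 0 then xM ^ 2 * fM ^ 4 * nM else if k = 1 then 1 else xM ^ 2 * nM ^ 3
/-- the right factors -/
def uM (k : ℕ) : M := if k = 0 then fM * nM * xM ^ 2 else if k = 1 then fM ^ 4 * nM ^ 3 * xM ^ 3 else 1

theorem wX_coe (k : ℕ) : (wX k).1 = wM k := by
  unfold wX wM
  split_ifs <;> rfl

theorem uX_coe (k : ℕ) : (uX k).1 = uM k := by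
  unfold uX uM
  split_ifs <;> rfl

/-- the elements of the three cosets -/
def gX (k i : ℕ) : X := wX k * xX ^ i * uX k
/-- the elements of the three cosets -/
def gM (k i : ℕ) : M := wM k * xM ^ i * uM k

theorem gX_coe (k i : ℕ) : (gX k i).1 = gM k i := by
  show (wX k).1 * xM ^ i * (uX k).1 = _
  rw [wX_coe, uX_coe]
  rfl

/-- the representatives of the labels 1, 2, …: `(3, 0)` is `a`, `(k, i)` is `g k i` -/
def RL : List (ℕ × ℕ) := [(3, 0), (0, 9), (0, 3), (1, 3), (0, 4), (0, 0), (1, 5), (0, 1), (1, 8), (1, 7), (0, 5)]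
/-- the representative of a label -/
def rX (l : ℕ) : X := if (RL.getD (l - 1) (0, 0)).1 = 3 then aX else gX (RL.getD (l - 1) (0, 0)).1 (RL.getD (l - 1) (0, 0)).2
/-- the representative of a label -/
def rM (l : ℕ) : M := if (RL.getD (l - 1) (0, 0)).1 = 3 then aM else gM (RL.getD (l - 1) (0, 0)).1 (RL.getD (l - 1) (0, 0)).2

theorem rX_coe (l : ℕ) : (rX l).1 = rM l := by
  unfold rX rM
  split_ifs
  · rfl
  · exact gX_coe _ _

/-- label and exponents -/
def TL : List (ℕ × ℕ × ℕ × ℕ × ℕ) := [(6, 0, 0, 0, 0), (8, 0, 0, 0, 0), (0, 3, 2, 2, 0), (3, 0, 0, 0, 0), (5, 0, 0, 0, 0), (11, 0, 0, 0, 0),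
  (8, 1, 0, 1, 0), (0, 0, 2, 0, 0), (11, 4, 0, 0, 3), (2, 0, 0, 0, 0), (5, 1, 1, 1, 1), (2, 3, 0, 1, 4),
  (5, 3, 3, 2, 1), (11, 2, 3, 1, 4), (4, 0, 0, 0, 0), (0, 4, 2, 2, 0), (7, 0, 0, 0, 0), (5, 0, 2, 2, 0),
  (10, 0, 0, 0, 0), (9, 0, 0, 0, 0), (0, 3, 2, 2, 0), (4, 3, 0, 2, 2), (6, 2, 0, 3, 3), (4, 3, 3, 2, 0),
  (0, 2, 2, 1, 0), (11, 3, 0, 2, 3), (7, 3, 0, 1, 3), (10, 4, 0, 2, 0), (3, 2, 3, 2, 3), (0, 2, 2, 3, 0),
  (4, 3, 1, 2, 3), (1, 0, 0, 1, 4), (9, 0, 1, 2, 2)]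
/-- the entry -/
def tl (k i : ℕ) : ℕ × ℕ × ℕ × ℕ × ℕ := TL.getD (11 * k + i) (0, 0, 0, 0, 0)

/-- the check of one entry -/
def chk (k i : ℕ) : Bool :=
  if (tl k i).1 = 0 then
    decide (nM ^ 2 * (fM ^ (tl k i).2.1 * gM k i) =
      fM ^ (tl k i).2.1 * gM k i * nM ^ (tl k i).2.2.1 * fM ^ (tl k i).2.2.2.1)
  else
    decide (gM k i = fM ^ (tl k i).2.1 * nM ^ (tl k i).2.2.1 * rM (tl k i).1 * nM ^ (tl k i).2.2.2.1 *
      fM ^ (tl k i).2.2.2.2)

theorem chk_ok : ∀ k < 3, ∀ i < 11, chk k i = true := by decide +kernel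

theorem chk_zero {k i : ℕ} (hk : k < 3) (hi : i < 11) (h : (tl k i).1 = 0) :
    nX ^ 2 * (fX ^ (tl k i).2.1 * gX k i) =
      fX ^ (tl k i).2.1 * gX k i * nX ^ (tl k i).2.2.1 * fX ^ (tl k i).2.2.2.1 := by
  have h1 := chk_ok k hk i hi
  rw [chk, if_pos h, decide_eq_true_iff, ← gX_coe] at h1
  exact Subtype.ext h1

theorem chk_pos {k i : ℕ} (hk : k < 3) (hi : i < 11) (h : (tl k i).1 ≠ 0) :
    gX k i = fX ^ (tl k i).2.1 * nX ^ (tl k i).2.2.1 * rX (tl k i).1 * nX ^ (tl k i).2.2.2.1 *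
      fX ^ (tl k i).2.2.2.2 := by
  have h1 := chk_ok k hk i hi
  rw [chk, if_neg h, decide_eq_true_iff, ← gX_coe, ← rX_coe] at h1
  exact Subtype.ext h1

theorem chk_ab : nX ^ 2 * (fX ^ 1 * (aX * bX)) = fX ^ 1 * (aX * bX) * nX ^ 2 * fX ^ 3 := by
  refine Subtype.ext (?_ : nM ^ 2 * (fM ^ 1 * (aM * bM)) = fM ^ 1 * (aM * bM) * nM ^ 2 * fM ^ 3)
  decide +kernel

end Cfsg.Agent.H188.LFive
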