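import Cfsg.Agent.H188.LFiveT

/-!
# Weights of `E` in characteristic 2

`P u` the sum over the `T φ` with `φ · u = 0`, `Wt u z`: `z` is fixed by these and the sum of `z` over `E` is 0.
-/

set_option autoImplicit false

namespace Cfsg.Agent.H188.LFive

variable {V : Type*} [AddCommGroup V] (ρ : X →* AddMonoid.End V)

/-- sum over a hyperplane of `E` -/
def P (u : U) (z : V) : V := ∑ φ ∈ Finset.univ.filter (fun φ : U => dot φ u = 0), ρ (T φ) z

theorem P_add (u : U) (y z : V) : P ρ u (y + z) = P ρ u y + P ρ u z := by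
  unfold P
  rw [← Finset.sum_add_distrib]
  exact Finset.sum_congr rfl fun i _ => map_add _ _ _

theorem P_zero (u : U) : P ρ u (0 : V) = 0 := Finset.sum_eq_zero fun _ _ => map_zero _

theorem P_sum (u : U) {ι : Type*} (s : Finset ι) (F : ι → V) : P ρ u (∑ i ∈ s, F i) = ∑ i ∈ s, P ρ u (F i) := by
  classical
  induction s using Finset.induction_on with
  | empty => simp [P_zero]
  | insert a s ha ih => rw [Finset.sum_insert ha, Finset.sum_insert ha, P_add, ih]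

theorem P_neg (u : U) (z : V) : P ρ (-u) z = P ρ u z := by
  unfold P
  congr 1
  ext φ
  simp [dot_neg]

theorem TT (φ ψ : U) (z : V) : ρ (T φ) (ρ (T ψ) z) = ρ (T (φ + ψ)) z := by rw [← mulV, T_mul]

theorem T_P {u φ : U} (h : dot φ u = 0) (z : V) : ρ (T φ) (P ρ u z) = P ρ u z := by
  unfold P
  rw [map_sum]
  refine Finset.sum_equiv (Equiv.addLeft φ) (fun ψ => ?_) fun ψ _ => ?_
  · simp [dot_add, h]
  · rw [TT]
    rfl

theorem P_T (u φ : U) (z : V) : P ρ u (ρ (T φ) z) = ρ (T φ) (P ρ u z) := by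
  unfold P
  rw [map_sum]
  refine Finset.sum_congr rfl fun ψ _ => ?_
  rw [TT, TT, add_comm]

theorem odd_P : ∀ u : U, (Finset.univ.filter (fun φ : U => dot φ u = 0)).card % 2 = 1 := by decide +kernel

theorem odd_smul (h2 : ∀ v : V, v + v = 0) {n : ℕ} (h : n % 2 = 1) (z : V) : n • z = z := by
  obtain ⟨m, rfl⟩ : ∃ m, n = m * 2 + 1 := ⟨n / 2, by omega⟩
  rw [add_smul, mul_smul, two_smul, h2, smul_zero, one_smul, zero_add]

theorem even_smul (h2 : ∀ v : V, v + v = 0) {n : ℕ} (h : n % 2 = 0) (z : V) : n • z = 0 := by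
  obtain ⟨m, rfl⟩ : ∃ m, n = m * 2 := ⟨n / 2, by omega⟩
  rw [mul_smul, two_smul, h2, smul_zero]

theorem P_fix (h2 : ∀ v : V, v + v = 0) {u : U} {z : V} (h : ∀ φ, dot φ u = 0 → ρ (T φ) z = z) : P ρ u z = z := by
  unfold P
  rw [Finset.sum_congr rfl fun φ hφ => h φ (Finset.mem_filter.1 hφ).2, Finset.sum_const]
  exact odd_smul h2 (odd_P u) z

/-- weights -/
structure Wt (u : U) (z : V) : Prop where
  fix : ∀ φ, dot φ u = 0 → ρ (T φ) z = z
  zero : P ρ 0 z = 0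

theorem dot_zero (φ : U) : dot φ 0 = 0 := by simp [dot]

/-- everything is fixed by `E` and has sum 0 -/
theorem eq_zero_of_T (h2 : ∀ v : V, v + v = 0) {z : V} (h : ∀ φ, ρ (T φ) z = z) (h0 : P ρ 0 z = 0) : z = 0 :=
  (P_fix ρ h2 (u := 0) fun φ _ => h φ).symm.trans h0

theorem T_all {u δ : U} (hδ : dot δ u ≠ 0) {z : V} (h : ∀ φ, dot φ u = 0 → ρ (T φ) z = z)
    (h1 : ∀ c : ZMod 3, ρ (T (c • δ)) z = z) (χ : U) : ρ (T χ) z = z := by
  set c : ZMod 3 := dot χ u * (dot δ u)⁻¹ with hc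
  have h3 : dot (χ - c • δ) u = 0 := by
    rw [dot_sub, dot_smul, hc, mul_assoc, inv_mul_cancel₀ hδ, mul_one, sub_self]
  have h4 : T χ = T (c • δ) * T (χ - c • δ) := by rw [T_mul, add_sub_cancel]
  rw [h4, mulV, h _ h3, h1]

theorem Wt.add {ρ : X →* AddMonoid.End V} {u : U} {y z : V} (hy : Wt ρ u y) (hz : Wt ρ u z) : Wt ρ u (y + z) :=
  ⟨fun φ hφ => by rw [map_add, hy.fix φ hφ, hz.fix φ hφ], by rw [P_add, hy.zero, hz.zero, add_zero]⟩

theorem Wt.neg {ρ : X →* AddMonoid.End V} {u : U} {z : V} (hz : Wt ρ u z) : Wt ρ (-u) z :=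
  ⟨fun φ hφ => hz.fix φ (by rwa [dot_neg, neg_eq_zero] at hφ), hz.zero⟩

theorem wt_zero (u : U) : Wt ρ u 0 := ⟨fun _ _ => map_zero _, P_zero ρ 0⟩

theorem Wt.P_eq {ρ : X →* AddMonoid.End V} (h2 : ∀ v : V, v + v = 0) {u : U} {z : V} (hz : Wt ρ u z) : P ρ u z = z :=
  P_fix ρ h2 hz.fix

theorem P_P_zero {u : U} {z : V} (h : P ρ 0 z = 0) : P ρ 0 (P ρ u z) = 0 := by
  have h1 : P ρ u z = ∑ φ ∈ Finset.univ.filter (fun φ : U => dot φ u = 0), ρ (T φ) z := rfl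
  rw [h1, P_sum]
  exact Finset.sum_eq_zero fun φ _ => by rw [P_T, h, map_zero]

theorem wt_P {u : U} {z : V} (h : P ρ 0 z = 0) : Wt ρ u (P ρ u z) :=
  ⟨fun _ hφ => T_P ρ hφ z, P_P_zero ρ h⟩

/-- different weights are orthogonal -/
theorem Wt.P_ne {ρ : X →* AddMonoid.End V} (h2 : ∀ v : V, v + v = 0) {u u' : U} {z : V} (hz : Wt ρ u' z)
    (h : ∃ δ, dot δ u = 0 ∧ dot δ u' ≠ 0) : P ρ u z = 0 := by
  obtain ⟨δ, hδ, hδ'⟩ := h
  refine eq_zero_of_T ρ h2 (T_all ρ hδ' ?_ ?_) (P_P_zero ρ hz.zero)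
  · intro φ hφ
    rw [← P_T, hz.fix φ hφ]
  · intro c
    exact T_P ρ (by rw [dot_smul, hδ, mul_zero]) z

/-! ### conjugation -/

theorem Gf_inj {g : X} (hg : Nm g.1) : Function.Injective (Gf g.1) := by
  intro φ ψ h
  have h1 : T φ * g = T ψ * g := by rw [T_conj hg, T_conj hg, h]
  exact T_inj (mul_right_cancel h1)

theorem P_conj {g : X} (hg : Nm g.1) (u : U) (z : V) : ρ g (P ρ u z) = P ρ (Gv g.1 u) (ρ g z) := by
  unfold P
  rw [map_sum]
  symm
  refine Finset.sum_bijective (Gf g.1) (Finite.injective_iff_bijective.1 (Gf_inj hg)) (fun φ => ?_) fun φ _ => ?_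
  · simp only [Finset.mem_filter, Finset.mem_univ, true_and]
    rw [dot_Gf]
    have h0 : g.1 0 0 ≠ 0 := by
      intro h
      have := hg.eps
      rw [h, mul_zero] at this
      exact absurd this (by decide)
    rw [mul_eq_zero, or_iff_right h0]
  · rw [← mulV, ← mulV, T_conj hg]

theorem Gv_zero (g : M) : Gv g 0 = 0 := by
  funext i
  simp [Gv]

theorem Wt.conj {ρ : X →* AddMonoid.End V} {g : X} (hg : Nm g.1) {u : U} {z : V} (hz : Wt ρ u z) :
    Wt ρ (Gv g.1 u) (ρ g z) := by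
  refine ⟨fun φ hφ => ?_, ?_⟩
  · rw [← mulV, T_conj hg, mulV, hz.fix]
    rw [dot_Gf, hφ, mul_zero]
  · have h1 := P_conj ρ hg 0 z
    rw [Gv_zero, hz.zero, map_zero] at h1
    exact h1.symm

end Cfsg.Agent.H188.LFive
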