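import Cfsg.Agent.H188.LFiveW

/-!
# Modules of `SL₅(3)` in characteristic 2: elements of order 11 have fixed points

`T_trivial` : if `SL₅(3)` acts on the finite abelian group `V` of exponent 2, and the element `x` of order 11 has no fixed
points on `V`, then the transvections `T φ` act trivially.
-/

set_option autoImplicit false

namespace Cfsg.Agent.H188.LFive

/-- a vector from its code in base 4 -/
def uN (n : ℕ) : U := fun i => (((n >>> (2 * i.val)) % 4 : ℕ) : ZMod 3)

/-- the codes of the fifteen points -/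
def OL : List ℕ := [68, 162, 36, 154, 90, 97, 25, 105, 65, 26, 42, 98, 17, 5, 144]

/-- the fifteen points -/
def O (k i : ℕ) : U := uN (OL.getD (5 * k + i) 0)

theorem nm_f : Nm fM := ⟨by decide +kernel, by decide +kernel⟩
theorem nm_a : Nm aM := ⟨by decide +kernel, by decide +kernel⟩
theorem nm_b : Nm bM := ⟨by decide +kernel, by decide +kernel⟩
theorem nm_t : Nm tM := ⟨by decide +kernel, by decide +kernel⟩
theorem nm_s : Nm sM := ⟨by decide +kernel, by decide +kernel⟩

theorem O_f : ∀ k < 3, ∀ i < 5, Gv fM (O k i) = O k ((i + 1) % 5) := by decide +kernel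
theorem O_b : Gv bM (O 0 0) = O 1 0 := by decide +kernel
theorem O_fb : Gv fM (O 1 0) = O 1 1 := by decide +kernel
theorem O_afb : Gv aM (O 1 1) = O 2 0 := by decide +kernel
theorem O_a : Gv aM (O 0 0) = O 0 0 := by decide +kernel
theorem O_t : Gv tM (O 0 0) = - O 0 0 := by decide +kernel

theorem perm_a : ∀ k < 3, ∀ i < 5, ∃ k' < 3, ∃ i' < 5, Gv aM (O k i) = O k' i' ∨ Gv aM (O k i) = - O k' i' := by
  decide +kernel
theorem perm_b : ∀ k < 3, ∀ i < 5, ∃ k' < 3, ∃ i' < 5, Gv bM (O k i) = O k' i' ∨ Gv bM (O k i) = - O k' i' := by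
  decide +kernel
/-- different points -/
def sep (u v : U) : Bool := decide (∃ δ : U, dot δ u = 0 ∧ dot δ v ≠ 0)

theorem sep_ok : ∀ k < 3, ∀ i < 5, ∀ k' < 3, ∀ i' < 5, (k = k' ∧ i = i') ∨ sep (O k i) (O k' i') = true := by
  decide +kernel

theorem sep_spec {k i k' i' : ℕ} (hk : k < 3) (hi : i < 5) (hk' : k' < 3) (hi' : i' < 5) (h : ¬ (k = k' ∧ i = i')) :
    ∃ δ, dot δ (O k i) = 0 ∧ dot δ (O k' i') ≠ 0 := by
  rcases sep_ok k hk i hi k' hk' i' hi' with h1 | h1
  · exact absurd h1 h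
  · exact of_decide_eq_true h1

theorem cover : ∀ k < 3, ∀ i < 5, ∃ j < 3, ∃ m < 3, ∃ l < 3,
    (Gv aM)^[j] ((Gv bM)^[m] (O 0 l)) = O k i ∨ (Gv aM)^[j] ((Gv bM)^[m] (O 0 l)) = - O k i := by
  decide +kernel
theorem tt : tM * tM = 1 := by decide +kernel
theorem atat : aM * (tM * aM * tM) = Tm (Pi.single 3 1) := by decide +kernel
theorem s_pow : sM ^ 80 = 1 := by decide +kernel
theorem s_orb : ∀ j ≤ 80, (Gv sM)^[80 - j] ((Gv sM)^[j] (O 0 0)) = O 0 0 := by decide +kernel
theorem s_par : ∀ φ : U, ((Finset.range 40).filter fun j => dot φ ((Gv sM)^[j] (O 0 0)) = 0).card % 2 =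
    if φ = 0 then 0 else 1 := by decide +kernel

end Cfsg.Agent.H188.LFive
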