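import Cfsg.Agent.H188.Coll

/-!
# Linear forms in unknown bits, packed in numbers (helper188)

A packed symbolic mask is a number with digits in base `2 ^ B`; a digit is a linear form in `B` unknown
bits, whose value is computed by `beta`. `evP` is the value of a packed symbolic mask, `actS` applies
a matrix over the field with two elements.
-/

set_option autoImplicit false

namespace Cfsg.Agent.H188.Lin

/-- the number of unknown bits -/
def B : ℕ := 407

theorem xor_mod_two (a b : ℕ) : (a ^^^ b) % 2 = (a % 2) ^^^ (b % 2) := by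
  have := Nat.xor_mod_two_pow (a := a) (b := b) (n := 1)
  simpa using this

theorem xor_div_two (a b : ℕ) : (a ^^^ b) / 2 = (a / 2) ^^^ (b / 2) := by
  have := Nat.shiftRight_xor_distrib (a := a) (b := b) (i := 1)
  simpa [Nat.shiftRight_eq_div_pow] using this

theorem bit_mul_xor (i j c : ℕ) : (i ^^^ j) % 2 * c = (i % 2 * c) ^^^ (j % 2 * c) := by
  rw [xor_mod_two]
  have hi : i % 2 < 2 := Nat.mod_lt _ (by norm_num)
  have hj : j % 2 < 2 := Nat.mod_lt _ (by norm_num)
  interval_cases i % 2 <;> interval_cases j % 2 <;> simp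

theorem ext_two {a b : ℕ} (h1 : a % 2 = b % 2) (h2 : a / 2 = b / 2) : a = b := by omega

theorem xor_lt_two {x y : ℕ} (hx : x < 2) (hy : y < 2) : x ^^^ y < 2 := by
  have := Nat.xor_lt_two_pow (n := 1) (x := x) (y := y) (by omega) (by omega)
  omega

theorem bit_xor_bit {x y : ℕ} (u v : ℕ) (hx : x < 2) (hy : y < 2) :
    (x + 2 * u) ^^^ (y + 2 * v) = (x ^^^ y) + 2 * (u ^^^ v) := by
  have h := xor_lt_two hx hy
  apply ext_two
  · rw [xor_mod_two]
    rw [show (x + 2 * u) % 2 = x by omega, show (y + 2 * v) % 2 = y by omega]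
    omega
  · rw [xor_div_two]
    rw [show (x + 2 * u) / 2 = u by omega, show (y + 2 * v) / 2 = v by omega]
    omega

/-! ### Values of linear forms -/

/-- The value of the linear form `x` (`n` bits, the first one with the value `b i`). -/
def beta (b : ℕ → ℕ) : ℕ → ℕ → ℕ → ℕ
  | 0, _, _ => 0
  | n + 1, i, x => (x % 2 * b i) ^^^ beta b n (i + 1) (x / 2)

theorem beta_xor (b : ℕ → ℕ) : ∀ (n i x y : ℕ), beta b n i (x ^^^ y) = beta b n i x ^^^ beta b n i y
  | 0, _, _, _ => (Nat.xor_self 0).symm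
  | n + 1, i, x, y => by
    unfold beta
    rw [bit_mul_xor, xor_div_two, beta_xor b n (i + 1)]
    ac_rfl

theorem beta_zero (b : ℕ → ℕ) (n i : ℕ) : beta b n i 0 = 0 := by
  have := beta_xor b n i 0 0
  rw [Nat.xor_self] at this
  rw [this, Nat.xor_self]

theorem mod_two_mul_lt {x y : ℕ} (hy : y < 2) : x % 2 * y < 2 := by
  have hx : x % 2 < 2 := Nat.mod_lt _ (by norm_num)
  interval_cases x % 2 <;> omega

theorem beta_lt {b : ℕ → ℕ} (hb : ∀ i, b i < 2) : ∀ (n i x : ℕ), beta b n i x < 2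
  | 0, _, _ => by unfold beta; norm_num
  | n + 1, i, x => xor_lt_two (mod_two_mul_lt (hb i)) (beta_lt hb n (i + 1) (x / 2))

theorem beta_two_pow (b : ℕ → ℕ) : ∀ (n i m : ℕ), m < n → beta b n i (2 ^ m) = b (i + m)
  | 0, _, _, h => absurd h (Nat.not_lt_zero _)
  | n + 1, i, 0, _ => by
    unfold beta
    rw [pow_zero, show (1 : ℕ) % 2 = 1 by norm_num, show (1 : ℕ) / 2 = 0 by norm_num, beta_zero, one_mul,
      Nat.xor_zero, Nat.add_zero]
  | n + 1, i, m + 1, h => by
    unfold beta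
    rw [show (2 : ℕ) ^ (m + 1) % 2 = 0 by rw [pow_succ]; omega,
      show (2 : ℕ) ^ (m + 1) / 2 = 2 ^ m by rw [pow_succ]; omega, zero_mul, Nat.zero_xor,
      beta_two_pow b n (i + 1) m (by omega), show i + 1 + m = i + (m + 1) by omega]

theorem beta_congr {b b' : ℕ → ℕ} : ∀ (n i x : ℕ), (∀ j, i ≤ j → j < i + n → (x >>> (j - i)) % 2 = 1 →
    b j = b' j) → beta b n i x = beta b' n i x
  | 0, _, _, _ => rfl
  | n + 1, i, x, h => by
    unfold beta
    rw [beta_congr n (i + 1) (x / 2)]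
    · congr 1
      rcases Nat.mod_two_eq_zero_or_one x with h1 | h1
      · rw [h1, zero_mul, zero_mul]
      · rw [h i le_rfl (by omega) (by rw [Nat.sub_self, Nat.shiftRight_zero]; exact h1)]
    · intro j h1 h2 h3
      apply h j (by omega) (by omega)
      rw [show j - i = 1 + (j - (i + 1)) by omega, Nat.shiftRight_add]
      rw [Nat.shiftRight_eq_div_pow x 1, pow_one]
      exact h3

theorem beta_add {b b' b'' : ℕ → ℕ} (h : ∀ i, b'' i = b i ^^^ b' i) (hb : ∀ i, b i < 2)
    (hb' : ∀ i, b' i < 2) : ∀ (n i x : ℕ), beta b'' n i x = beta b n i x ^^^ beta b' n i x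
  | 0, _, _ => (Nat.xor_self 0).symm
  | n + 1, i, x => by
    unfold beta
    rw [beta_add h hb hb' n (i + 1), h i]
    have h1 : x % 2 * (b i ^^^ b' i) = (x % 2 * b i) ^^^ (x % 2 * b' i) := by
      have hx : x % 2 < 2 := Nat.mod_lt _ (by norm_num)
      interval_cases x % 2 <;> simp
    rw [h1]
    ac_rfl

/-! ### Packed symbolic masks -/

section ev

variable (β : ℕ → ℕ)

/-- The value of a packed symbolic mask with `n` digits. -/
def evP : ℕ → ℕ → ℕ
  | 0, _ => 0
  | n + 1, s => β (s % 2 ^ B) + 2 * evP n (s >>> B)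

variable {β}

theorem evP_lt (hβ : ∀ x, β x < 2) : ∀ (n s : ℕ), evP β n s < 2 ^ n
  | 0, _ => by unfold evP; norm_num
  | n + 1, s => by
    unfold evP
    have h1 := hβ (s % 2 ^ B)
    have h2 := evP_lt hβ n (s >>> B)
    rw [pow_succ]
    omega

theorem evP_xor (hβ : ∀ x, β x < 2) (hx : ∀ x y, β (x ^^^ y) = β x ^^^ β y) :
    ∀ (n s u : ℕ), evP β n (s ^^^ u) = evP β n s ^^^ evP β n u
  | 0, _, _ => (Nat.xor_self 0).symm
  | n + 1, s, u => by
    unfold evP
    rw [Nat.xor_mod_two_pow, Nat.shiftRight_xor_distrib, hx, evP_xor hβ hx n,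
      bit_xor_bit _ _ (hβ _) (hβ _)]

theorem evP_zero (h0 : β 0 = 0) : ∀ n : ℕ, evP β n 0 = 0
  | 0 => rfl
  | n + 1 => by
    unfold evP
    rw [Nat.zero_mod, Nat.zero_shiftRight, h0, evP_zero h0 n]

/-- The number with digits the bits of `m`. -/
def spread : ℕ → ℕ → ℕ
  | 0, _ => 0
  | n + 1, m => m % 2 + 2 ^ B * spread n (m / 2)

theorem evP_mul_spread (h0 : β 0 = 0) {x : ℕ} (hx : x < 2 ^ B) :
    ∀ (n m : ℕ), m < 2 ^ n → evP β n (x * spread n m) = β x * m
  | 0, m, hm => by
    have : m = 0 := by omega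
    subst this
    rfl
  | n + 1, m, hm => by
    unfold evP spread
    have h1 : x * (m % 2 + 2 ^ B * spread n (m / 2)) = x * (m % 2) + 2 ^ B * (x * spread n (m / 2)) := by
      ring
    have h2 : x * (m % 2) < 2 ^ B := by
      have : m % 2 < 2 := Nat.mod_lt _ (by norm_num)
      interval_cases m % 2
      · rw [mul_zero]; exact Nat.two_pow_pos _
      · rw [mul_one]; exact hx
    rw [h1, Nat.shiftRight_eq_div_pow, Nat.add_mul_mod_self_left, Nat.mod_eq_of_lt h2,
      Nat.add_mul_div_left _ _ (Nat.two_pow_pos _), Nat.div_eq_of_lt h2, Nat.zero_add,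
      evP_mul_spread h0 hx n (m / 2) (by rw [pow_succ] at hm; omega)]
    have h3 : m = m % 2 + 2 * (m / 2) := by omega
    have h4 : β (x * (m % 2)) = β x * (m % 2) := by
      have : m % 2 < 2 := Nat.mod_lt _ (by norm_num)
      interval_cases m % 2
      · rw [mul_zero, mul_zero, h0]
      · rw [mul_one, mul_one]
    rw [h4]
    conv_rhs => rw [h3]
    ring

/-- The matrix with the given packed columns applied to a packed symbolic mask. -/
def actS : List ℕ → ℕ → ℕ
  | [], _ => 0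
  | c :: cs, s => ((s % 2 ^ B) * c) ^^^ actS cs (s >>> B)

/-- The matrix with the given columns applied to a mask. -/
def linc : List ℕ → ℕ → ℕ
  | [], _ => 0
  | m :: ms, a => (a % 2 * m) ^^^ linc ms (a / 2)

theorem evP_actS (hβ : ∀ x, β x < 2) (hx : ∀ x y, β (x ^^^ y) = β x ^^^ β y) (h0 : β 0 = 0)
    (n : ℕ) : ∀ (cols : List ℕ) (s : ℕ), (∀ m ∈ cols, m < 2 ^ n) →
      evP β n (actS (cols.map (spread n)) s) = linc cols (evP β cols.length s)
  | [], s, _ => by
    show evP β n 0 = 0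
    exact evP_zero h0 n
  | m :: ms, s, h => by
    rw [List.map_cons, List.length_cons]
    unfold actS linc
    rw [evP_xor hβ hx, evP_mul_spread h0 (Nat.mod_lt _ (Nat.two_pow_pos _)) n m (h m List.mem_cons_self),
      evP_actS hβ hx h0 n ms _ (fun m' hm' => h m' (List.mem_cons_of_mem _ hm'))]
    have h1 := hβ (s % 2 ^ B)
    conv_rhs => unfold evP
    rw [show (β (s % 2 ^ B) + 2 * evP β ms.length (s >>> B)) % 2 = β (s % 2 ^ B) by omega,
      show (β (s % 2 ^ B) + 2 * evP β ms.length (s >>> B)) / 2 = evP β ms.length (s >>> B) by omega]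

theorem linc_xor : ∀ (cols : List ℕ) (a b : ℕ), linc cols (a ^^^ b) = linc cols a ^^^ linc cols b
  | [], _, _ => (Nat.xor_self 0).symm
  | m :: ms, a, b => by
    unfold linc
    rw [bit_mul_xor, xor_div_two, linc_xor ms]
    ac_rfl

/-- The packed symbolic mask with digits `2 ^ i`, `2 ^ (i + 1)`, … -/
def dg : ℕ → ℕ → ℕ
  | 0, _ => 0
  | n + 1, i => 2 ^ i + 2 ^ B * dg n (i + 1)

theorem evP_dg : ∀ (n i : ℕ), i + n ≤ B → ∀ m j : ℕ, (∀ k, k < n → β (2 ^ (i + k)) = (m >>> (j + k)) % 2) →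
    evP β n (dg n i) = (m >>> j) % 2 ^ n
  | 0, i, _, m, j, _ => by
    unfold evP
    rw [pow_zero, Nat.mod_one]
  | n + 1, i, hi, m, j, h => by
    unfold evP dg
    have h2 : (2 : ℕ) ^ i < 2 ^ B := Nat.pow_lt_pow_right (by norm_num) (by omega)
    rw [Nat.shiftRight_eq_div_pow, Nat.add_mul_mod_self_left, Nat.mod_eq_of_lt h2,
      Nat.add_mul_div_left _ _ (Nat.two_pow_pos _), Nat.div_eq_of_lt h2, Nat.zero_add]
    have h3 := evP_dg n (i + 1) (by omega) m (j + 1) (fun k hk => by
      have := h (k + 1) (by omega)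
      rwa [show i + (k + 1) = i + 1 + k by omega, show j + (k + 1) = j + 1 + k by omega] at this)
    have h4 := h 0 (by omega)
    rw [Nat.add_zero, Nat.add_zero] at h4
    rw [h3, h4]
    have h5 : m >>> (j + 1) = (m >>> j) / 2 := by
      rw [Nat.shiftRight_add, Nat.shiftRight_eq_div_pow _ 1, pow_one]
    rw [h5, pow_succ, mul_comm (2 ^ n) 2, Nat.mod_mul]

/-- Digit `j` of `s`. -/
def digit (s j : ℕ) : ℕ := (s >>> (B * j)) % 2 ^ B

theorem digit_of_evP_eq_zero (hβ : ∀ x, β x < 2) : ∀ (n s : ℕ), evP β n s = 0 → ∀ j, j < n →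
    β (digit s j) = 0
  | 0, _, _, j, hj => absurd hj (Nat.not_lt_zero _)
  | n + 1, s, h, 0, _ => by
    unfold evP at h
    unfold digit
    rw [Nat.mul_zero, Nat.shiftRight_zero]
    omega
  | n + 1, s, h, j + 1, hj => by
    unfold evP at h
    have := digit_of_evP_eq_zero hβ n (s >>> B) (by omega) j (by omega)
    unfold digit at *
    rwa [← Nat.shiftRight_add, show B + B * j = B * (j + 1) by ring] at this

theorem evP_eq_zero_of_digit : ∀ (n s : ℕ), (∀ j, j < n → β (digit s j) = 0) → evP β n s = 0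
  | 0, _, _ => rfl
  | n + 1, s, h => by
    unfold evP
    have h1 := h 0 (by omega)
    unfold digit at h1
    rw [Nat.mul_zero, Nat.shiftRight_zero] at h1
    rw [h1, evP_eq_zero_of_digit n (s >>> B) (fun j hj => by
      have := h (j + 1) (by omega)
      unfold digit at *
      rwa [show B * (j + 1) = B + B * j by ring, Nat.shiftRight_add] at this)]

/-- The exclusive or of the elements of a list selected by the bits of `m`. -/
def xsel : List ℕ → ℕ → ℕ
  | [], _ => 0
  | x :: xs, m => (m % 2 * x) ^^^ xsel xs (m / 2)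

theorem xsel_zero (hx : ∀ x y, β (x ^^^ y) = β x ^^^ β y) (h0 : β 0 = 0) : ∀ (l : List ℕ) (m : ℕ),
    (∀ x ∈ l, β x = 0) → β (xsel l m) = 0
  | [], _, _ => h0
  | x :: xs, m, h => by
    unfold xsel
    rw [hx, xsel_zero hx h0 xs _ (fun y hy => h y (List.mem_cons_of_mem _ hy))]
    rcases Nat.mod_two_eq_zero_or_one m with h1 | h1
    · rw [h1, zero_mul, h0]; rfl
    · rw [h1, one_mul, h x List.mem_cons_self]; rfl

end ev

end Cfsg.Agent.H188.Lin
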