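import Cfsg.Agent.H188.Words
import Cfsg.Agent.H188.DataV

/-!
# Extensions by the code module (helper188)
-/

set_option autoImplicit false

namespace Cfsg.Agent.H188.ModV

open Cfsg Cfsg.Agent.SporadicA.GolayBase Cfsg.Agent.SporadicA.GolayPerm
open Cfsg.Agent.H188.Lin Cfsg.Agent.H188.Tab Cfsg.Agent.H188.Setup Cfsg.Agent.H188.Words
open Cfsg.Agent.H188.Split

/-- A basis of the code words vanishing at `none`. -/
def Vb : List ℕ := [262637, 525274, 1050548, 2101096, 4196943, 36294, 69395, 133817, 5279, 10558, 18147]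

/-- The mask of the word with given coordinates. -/
def encV (a : ℕ) : ℕ := linc Vb a

theorem encV_xor (a b : ℕ) : encV (a ^^^ b) = encV a ^^^ encV b := linc_xor _ _ _

/-- The coordinates of a mask. -/
def crdV (m : ℕ) : ℕ :=
  (m >>> 18) % 2 + 2 * ((m >>> 19) % 2) + 4 * ((m >>> 20) % 2) + 8 * ((m >>> 21) % 2) +
  16 * ((m >>> 22) % 2) + 32 * ((m >>> 15) % 2) + 64 * ((m >>> 16) % 2) + 128 * ((m >>> 17) % 2) +
  256 * ((m >>> 12) % 2) + 512 * ((m >>> 13) % 2) + 1024 * ((m >>> 14) % 2)

theorem crdV_lt (m : ℕ) : crdV m < 2048 := by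
  unfold crdV
  omega

theorem encV_prop (a : ℕ) : isCode (encV a) = true ∧ encV a < 2 ^ 23 := by
  refine linc_mem (p := fun m => isCode m = true ∧ m < 2 ^ 23) ⟨isCode_zero, by norm_num⟩
    (fun a b ha hb => ⟨isCode_xor ha.1 hb.1, Nat.xor_lt_two_pow ha.2 hb.2⟩) Vb a ?_
  have h : (Vb.all fun m => isCode m && Nat.blt m (2 ^ 23)) = true := by decide +kernel
  rw [List.all_eq_true] at h
  intro m hm
  have h1 := h m hm
  rw [Bool.and_eq_true] at h1
  exact ⟨h1.1, Nat.blt_eq.mp h1.2⟩

theorem encV_inj_aux : ∀ a, a < 2 ^ 11 → Nat.beq (crdV (encV a)) a = true := by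
  apply allR_zero_spec
  decide +kernel

theorem encV_surj_aux : ∀ i, i < 2 ^ 12 →
    (Nat.beq ((enc i >>> 23) % 2) 1 || Nat.beq (encV (crdV (enc i))) (enc i)) = true := by
  apply allR_zero_spec
  decide +kernel

theorem act_check : ((List.range 9).all fun k =>
    leq (Vb.map (pimg (tab k))) ((DataV.cols k).map encV)) = true := by decide +kernel

theorem pimg_encV {k : ℕ} (hk : k < 9) (a : ℕ) :
    pimg (tab k) (encV a) = encV (linc (DataV.cols k) a) := by
  unfold encV
  rw [map_linc (pimg_xor' (isPerm_tab hk)), leq_eq (all_spec act_check hk)]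
  exact (map_linc encV_xor (DataV.cols k) a).symm

theorem word_none {m : ℕ} (hm : m < 2 ^ 23) : word m none = 0 := by
  rw [word_apply]
  have : m.testBit (idx none) = false := Nat.testBit_lt_two_pow hm
  rw [this]
  rfl

section

variable {E : Type*} [Group E] (N : Subgroup E) [hN : N.Normal]
    (φ : E ⧸ N ≃* ↥Cfsg.Spor.M23)

/-- The projection. -/
def prj : E →* Cfsg.Spor.M23 := φ.toMonoidHom.comp (QuotientGroup.mk' N)

theorem prj_apply (g : E) : prj N φ g = φ (QuotientGroup.mk g) := rfl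

theorem prj_surj : Function.Surjective (prj N φ) :=
  φ.surjective.comp (QuotientGroup.mk'_surjective N)

theorem prj_eq_one {g : E} : prj N φ g = 1 ↔ g ∈ N := by
  rw [prj_apply, map_eq_one_iff φ φ.injective, QuotientGroup.eq_one_iff]

theorem prj_ker : (prj N φ).ker = N := by
  ext g
  rw [MonoidHom.mem_ker, prj_eq_one]

theorem mext_code (ψ : Additive ↥N →+ (Cfsg.GolayPt → ZMod 2)) (hinj : Function.Injective ψ)
    (hrange : ∀ w : Cfsg.GolayPt → ZMod 2, w ∈ Set.range ψ ↔ (w ∈ Cfsg.golayCode ∧ w none = 0))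
    (hψ : ∀ (g : E) (n : ↥N),
      ψ (Additive.ofMul ⟨g * n * g⁻¹, hN.conj_mem n n.2 g⟩)
        = ψ (Additive.ofMul n) ∘ ⇑(((φ (QuotientGroup.mk g) : ↥Cfsg.Spor.M23) : Equiv.Perm Cfsg.GolayPt)⁻¹)) :
    ∃ c : ℕ → E, MExt (prj N φ) c DataV.cols := by
  have h1 : ∀ a : ℕ, ∃ n : Additive N, ψ n = word (encV a) := by
    intro a
    obtain ⟨h2, h3⟩ := encV_prop a
    apply (hrange _).2
    refine ⟨?_, word_none h3⟩
    rw [mem_golayCode_iff, maskW_word (by omega)]
    exact h2
  choose d hd using h1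
  refine ⟨fun a => ((d a).toMul : E), prj_surj N φ, fun n => ?_, fun a b _ _ => ?_, fun a ha h => ?_,
    fun k hk n hn a _ => ?_, DataV.cols_len, DataV.cols_lt⟩
  · rw [prj_eq_one]
    constructor
    · intro hn
      obtain ⟨h2, h3⟩ := (hrange (ψ (Additive.ofMul ⟨n, hn⟩))).1 ⟨_, rfl⟩
      rw [mem_golayCode_iff] at h2
      obtain ⟨i, hi, h4⟩ := isCode_iff_exists.1 h2
      have h5 := encV_surj_aux i hi
      rw [Bool.or_eq_true] at h5
      rcases h5 with h5 | h5
      · exfalso
        have h6 : (maskW (ψ (Additive.ofMul ⟨n, hn⟩))).testBit (idx none) = true := by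
          rw [h4]
          show (enc i).testBit 23 = true
          rw [Nat.testBit_eq_decide_div_mod_eq, ← Nat.shiftRight_eq_div_pow, Nat.eq_of_beq_eq_true h5]
          rfl
        rw [testBit_maskW, h3] at h6
        simp at h6
      · refine ⟨crdV (enc i), crdV_lt _, ?_⟩
        have h6 : d (crdV (enc i)) = Additive.ofMul ⟨n, hn⟩ := by
          apply hinj
          rw [hd, Nat.eq_of_beq_eq_true h5, ← h4, word_maskW]
        rw [h6]
        rfl
    · rintro ⟨a, -, rfl⟩
      exact ((d a).toMul).2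
  · have h2 : d (a ^^^ b) = d a + d b := by
      apply hinj
      rw [map_add, hd, hd, hd, encV_xor, word_xor]
    rw [h2]
    rfl
  · have h2 : d a = 0 := by
      apply Additive.toMul.injective
      exact Subtype.ext h
    have h3 := hd a
    rw [h2, map_zero] at h3
    have h4 : encV a = 0 := by
      have h5 := maskW_word (m := encV a) (by have := (encV_prop a).2; omega)
      rw [← h3, ← word_zero, maskW_word (by norm_num)] at h5
      exact h5.symm
    have h5 := Nat.eq_of_beq_eq_true (encV_inj_aux a ha)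
    rw [← h5, h4]
    decide +kernel
  · have h2 := hψ n (d a).toMul
    have h3 : ((φ (QuotientGroup.mk n) : ↥Cfsg.Spor.M23)) = el k := hn
    rw [h3] at h2
    have h4 : ψ (Additive.ofMul (d a).toMul) = word (encV a) := hd a
    rw [h4, ← word_pimg' (isPerm_tab hk) (isT_el hk), pimg_encV hk, ← hd] at h2
    have h5 := hinj h2
    have h6 := congrArg (fun x : Additive N => (x.toMul : E)) h5
    exact h6

end

end Cfsg.Agent.H188.ModV
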