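import Cfsg.Agent.H188.Words
import Cfsg.Agent.H188.DataW
import Cfsg.Agent.H188.ModV

/-!
# Extensions by the cocode module (helper188)
-/

set_option autoImplicit false

namespace Cfsg.Agent.H188.ModW

open Cfsg Cfsg.Agent.SporadicA.GolayBase Cfsg.Agent.SporadicA.GolayPerm
open Cfsg.Agent.H188.Lin Cfsg.Agent.H188.Tab Cfsg.Agent.H188.Setup Cfsg.Agent.H188.Words
open Cfsg.Agent.H188.Split Cfsg.Agent.H188.ModV

/-- The masks of the points of index `0, …, 10`. -/
def Wb : List ℕ := [1, 2, 4, 8, 16, 32, 64, 128, 256, 512, 1024]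

/-- The mask of a representative of the class with given coordinates. -/
def encW (a : ℕ) : ℕ := linc Wb a

theorem encW_xor (a b : ℕ) : encW (a ^^^ b) = encW a ^^^ encW b := linc_xor _ _ _

/-- Coordinates of the classes of the points. -/
def RW : List ℕ := [1, 2, 4, 8, 16, 32, 64, 128, 256, 512, 1024, 1141, 1183, 1355, 1763, 435, 870, 1740,
  493, 986, 1972, 797, 1594, 0]

/-- The coordinates of the class of a mask. -/
def redW (m : ℕ) : ℕ := linc RW m

theorem redW_xor (a b : ℕ) : redW (a ^^^ b) = redW a ^^^ redW b := linc_xor _ _ _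

/-- Whether a mask is a code word up to the point `none`. -/
def inD (m : ℕ) : Bool := isCode m || isCode (m ^^^ 8388608)

theorem inD_zero : inD 0 = true := by decide +kernel

theorem inD_xor (a b : ℕ) (ha : inD a = true) (hb : inD b = true) : inD (a ^^^ b) = true := by
  unfold inD at *
  rw [Bool.or_eq_true] at *
  rcases ha with ha | ha <;> rcases hb with hb | hb
  · exact Or.inl (isCode_xor ha hb)
  · right
    have := isCode_xor ha hb
    rwa [← Nat.xor_assoc] at this
  · right
    have := isCode_xor ha hb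
    rwa [show a ^^^ 8388608 ^^^ b = a ^^^ b ^^^ 8388608 by ac_rfl] at this
  · left
    have := isCode_xor ha hb
    rwa [show a ^^^ 8388608 ^^^ (b ^^^ 8388608) = a ^^^ b ^^^ (8388608 ^^^ 8388608) by ac_rfl,
      Nat.xor_self, Nat.xor_zero] at this

/-- Powers of two. -/
def pows : ℕ → List ℕ
  | 0 => []
  | n + 1 => 1 :: (pows n).map (2 * ·)

theorem two_mul_xor (a b : ℕ) : 2 * (a ^^^ b) = (2 * a) ^^^ (2 * b) := by
  have := bit_xor_bit (x := 0) (y := 0) a b (by norm_num) (by norm_num)
  simpa using this.symm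

theorem linc_pows : ∀ (n m : ℕ), m < 2 ^ n → linc (pows n) m = m
  | 0, m, h => by
    have : m = 0 := by omega
    subst this
    rfl
  | n + 1, m, h => by
    unfold pows linc
    rw [← map_linc (F := (2 * ·)) two_mul_xor, linc_pows n (m / 2) (by rw [pow_succ] at h; omega)]
    have h1 : m % 2 < 2 := Nat.mod_lt _ (by norm_num)
    have := bit_xor_bit (x := m % 2) (y := 0) 0 (m / 2) h1 (by norm_num)
    rw [Nat.xor_zero, Nat.zero_xor, Nat.mul_zero, Nat.add_zero, Nat.zero_add] at this
    show (m % 2 * 1) ^^^ (2 * (m / 2)) = m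
    rw [mul_one, this]
    omega

theorem red_check : (((pows 24).map fun m => m ^^^ encW (redW m)).all inD) = true := by decide +kernel

theorem inD_red {m : ℕ} (hm : m < 2 ^ 24) : inD (m ^^^ encW (redW m)) = true := by
  have h1 : ∀ a b : ℕ, (a ^^^ b) ^^^ encW (redW (a ^^^ b)) =
      (a ^^^ encW (redW a)) ^^^ (b ^^^ encW (redW b)) := by
    intro a b
    rw [redW_xor, encW_xor]
    ac_rfl
  have h2 := map_linc (F := fun m => m ^^^ encW (redW m)) h1 (pows 24) m
  rw [linc_pows 24 m hm] at h2
  have h3 : m ^^^ encW (redW m) = linc ((pows 24).map fun m => m ^^^ encW (redW m)) m := h2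
  rw [h3]
  apply linc_mem (p := fun m => inD m = true) inD_zero inD_xor
  exact List.all_eq_true.1 red_check

theorem encW_lt (a : ℕ) : encW a < 2 ^ 24 := by
  refine linc_mem (p := fun m => m < 2 ^ 24) (by norm_num) (fun a b ha hb => Nat.xor_lt_two_pow ha hb) Wb a ?_
  have h : (Wb.all fun m => Nat.blt m (2 ^ 24)) = true := by decide +kernel
  rw [List.all_eq_true] at h
  exact fun m hm => Nat.blt_eq.mp (h m hm)

theorem redW_lt (a : ℕ) : redW a < 2048 := by
  refine linc_mem (p := fun m => m < 2048) (by norm_num)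
    (fun a b ha hb => Nat.xor_lt_two_pow (n := 11) ha hb) RW a ?_
  have h : (RW.all fun m => Nat.blt m 2048) = true := by decide +kernel
  rw [List.all_eq_true] at h
  exact fun m hm => Nat.blt_eq.mp (h m hm)

theorem encW_inj_aux : ∀ a, a < 2 ^ 11 → (Nat.beq a 0 || !(inD (encW a))) = true := by
  apply allR_zero_spec
  decide +kernel

theorem act_check : ((List.range 9).all fun k =>
    all2 inD (Wb.map (pimg (tab k))) ((DataW.cols k).map encW)) = true := by decide +kernel

theorem inD_act {k : ℕ} (hk : k < 9) (a : ℕ) :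
    inD (pimg (tab k) (encW a) ^^^ encW (linc (DataW.cols k) a)) = true := by
  have h1 : pimg (tab k) (encW a) = linc (Wb.map (pimg (tab k))) a :=
    map_linc (pimg_xor' (isPerm_tab hk)) Wb a
  have h2 : encW (linc (DataW.cols k) a) = linc ((DataW.cols k).map encW) a :=
    map_linc encW_xor (DataW.cols k) a
  rw [h1, h2]
  exact linc_rel inD_zero inD_xor _ _ _ (all_spec act_check hk)

theorem single_none : (Pi.single none 1 : GolayPt → ZMod 2) = word 8388608 := by
  have h : ∀ p : GolayPt, (Pi.single none 1 : GolayPt → ZMod 2) p = word 8388608 p := by decide +kernel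
  exact funext h

theorem inD_iff {m : ℕ} (hm : m < 2 ^ 24) : inD m = true ↔
    (word m ∈ Cfsg.golayCode ∨ word m + Pi.single none 1 ∈ Cfsg.golayCode) := by
  unfold inD
  rw [Bool.or_eq_true, mem_golayCode_iff, maskW_word hm, single_none, ← word_xor, mem_golayCode_iff,
    maskW_word (Nat.xor_lt_two_pow hm (by norm_num))]

/-- The action of a permutation on coordinates. -/
noncomputable def Ag (g : Spor.M23) (a : ℕ) : ℕ :=
  redW (maskW (word (encW a) ∘ ⇑((g : Equiv.Perm GolayPt)⁻¹)))

theorem Ag_lt (g : Spor.M23) (a : ℕ) : Ag g a < 2048 := redW_lt _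

section

variable {E : Type*} [Group E] (N : Subgroup E) [hN : N.Normal]
    (φ : E ⧸ N ≃* ↥Cfsg.Spor.M23) (θ : (Cfsg.GolayPt → ZMod 2) →+ Additive ↥N)

/-- The elements of `N` by coordinates. -/
def cc (a : ℕ) : E := ((θ (word (encW a))).toMul : E)

variable (hsurj : Function.Surjective θ)
    (hker : ∀ w : Cfsg.GolayPt → ZMod 2, θ w = 0 ↔ (w ∈ Cfsg.golayCode ∨ w + Pi.single none 1 ∈ Cfsg.golayCode))
    (hθ : ∀ (g : E) (w : Cfsg.GolayPt → ZMod 2),
      ((θ (w ∘ ⇑(((φ (QuotientGroup.mk g) : ↥Cfsg.Spor.M23) : Equiv.Perm Cfsg.GolayPt)⁻¹))).toMul : E)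
        = g * ((θ w).toMul : E) * g⁻¹)

include hker in
theorem theta_eq {m n : ℕ} (hm : m < 2 ^ 24) (hn : n < 2 ^ 24) (h : inD (m ^^^ n) = true) :
    θ (word m) = θ (word n) := by
  have h1 := (hker _).2 ((inD_iff (Nat.xor_lt_two_pow hm hn)).1 h)
  rw [word_xor, map_add] at h1
  have h2 : θ (word n) + θ (word n) = 0 := by
    rw [← map_add, ← word_xor, Nat.xor_self, word_zero, map_zero]
  rw [← sub_eq_zero, sub_eq_add_neg, ← eq_neg_of_add_eq_zero_left h2]
  exact h1

include hker in
theorem theta_red (w : GolayPt → ZMod 2) : θ w = θ (word (encW (redW (maskW w)))) := by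
  have h := theta_eq N θ hker (maskW_lt w) (encW_lt (redW (maskW w))) (inD_red (maskW_lt w))
  rwa [word_maskW] at h

include hker hθ in
theorem cc_conj (g : E) (a : ℕ) : g * cc N θ a * g⁻¹ = cc N θ (Ag (prj N φ g) a) := by
  unfold cc Ag
  rw [← hθ g, theta_red N θ hker]
  rfl

include hsurj hker hθ in
theorem mext_cocode : MExt (prj N φ) (cc N θ) DataW.cols := by
  refine ⟨prj_surj N φ, fun n => ?_, fun a b _ _ => ?_, fun a ha h => ?_,
    fun k hk n hn a _ => ?_, DataW.cols_len, DataW.cols_lt⟩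
  · rw [prj_eq_one]
    constructor
    · intro hn
      obtain ⟨w, hw⟩ := hsurj (Additive.ofMul ⟨n, hn⟩)
      refine ⟨redW (maskW w), redW_lt _, ?_⟩
      unfold cc
      rw [← theta_red N θ hker w, hw]
      rfl
    · rintro ⟨a, -, rfl⟩
      exact ((θ (word (encW a))).toMul).2
  · unfold cc
    rw [encW_xor, word_xor, map_add]
    rfl
  · have h2 : θ (word (encW a)) = 0 := by
      apply Additive.toMul.injective
      exact Subtype.ext h
    have h3 := (inD_iff (encW_lt a)).2 ((hker _).1 h2)
    have h4 := encW_inj_aux a ha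
    rw [h3, Bool.not_true, Bool.or_false] at h4
    exact Nat.eq_of_beq_eq_true h4
  · unfold cc
    rw [← hθ n]
    have h3 : ((φ (QuotientGroup.mk n) : ↥Cfsg.Spor.M23)) = el k := hn
    rw [h3, ← word_pimg' (isPerm_tab hk) (isT_el hk),
      theta_eq N θ hker (pimg_lt (isPerm_tab hk) _) (encW_lt _) (inD_act hk a)]

end

end Cfsg.Agent.H188.ModW
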