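import Cfsg.Agent.H188.ModW

/-!
# A Parker cocycle on the code words vanishing at `none` (helper188)

`th a b` is linear in `b`, `th (a + b) c = th a c + th b c + |a ∩ b ∩ c|` and `th a a = |a| / 4`.
-/

set_option autoImplicit false

namespace Cfsg.Agent.H188.Park

open Cfsg Cfsg.Agent.SporadicA.GolayBase Cfsg.Agent.SporadicA.GolayPerm
open Cfsg.Agent.H188.Lin Cfsg.Agent.H188.Tab Cfsg.Agent.H188.Setup Cfsg.Agent.H188.Words
open Cfsg.Agent.H188.ModV Cfsg.Agent.H188.ModW

/-- Words of length 24. -/
abbrev WW : Type := GolayPt → ZMod 2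

/-- The scalar product. -/
def dt (u v : WW) : ZMod 2 := ∑ p, u p * v p

theorem dt_add_left (u v w : WW) : dt (u + v) w = dt u w + dt v w := by
  unfold dt
  rw [← Finset.sum_add_distrib]
  exact Finset.sum_congr rfl fun p _ => by rw [Pi.add_apply, add_mul]

theorem dt_comm (u v : WW) : dt u v = dt v u := by
  unfold dt
  exact Finset.sum_congr rfl fun p _ => mul_comm _ _

theorem dt_add_right (u v w : WW) : dt u (v + w) = dt u v + dt u w := by
  rw [dt_comm, dt_add_left, dt_comm v, dt_comm w]

theorem dt_zero_right (u : WW) : dt u 0 = 0 := by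
  unfold dt
  exact Finset.sum_eq_zero fun p _ => by rw [Pi.zero_apply, mul_zero]

theorem dt_perm (σ : Equiv.Perm GolayPt) (u v : WW) : dt (u ∘ ⇑σ⁻¹) (v ∘ ⇑σ⁻¹) = dt u v := by
  unfold dt
  exact Equiv.sum_comp σ⁻¹ fun p => u p * v p

theorem word_and (m n : ℕ) : word (m &&& n) = word m * word n := by
  funext p
  rw [Pi.mul_apply, word_apply, word_apply, word_apply, Nat.testBit_and]
  cases m.testBit (idx p) <;> cases n.testBit (idx p) <;> decide

theorem dt_word (m n : ℕ) : dt (word m) (word n) = ((popcount (m &&& n) : ℕ) : ZMod 2) := by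
  have h : ∀ p, word m p * word n p = if p ∈ fin (m &&& n) then 1 else 0 := by
    intro p
    rw [← Pi.mul_apply, ← word_and, word_apply]
    simp only [mem_fin]
  unfold dt
  rw [Finset.sum_congr rfl fun p _ => h p, Finset.sum_boole, ← card_fin]
  congr 2
  ext p
  simp

theorem two_eq {x y : ZMod 2} (h : x + y = 0) : x = y := by
  revert x y; decide

theorem add_self (x : ZMod 2) : x + x = 0 := by
  revert x; decide

theorem mul_self' (x : ZMod 2) : x * x = x := by
  revert x; decide

theorem dt_code {u v : WW} (hu : u ∈ golayCode) (hv : v ∈ golayCode) : dt u v = 0 := by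
  rw [← word_maskW u, ← word_maskW v, dt_word]
  have hu' : fin (maskW u) ∈ supports (golayCode : Set WW) := by
    rw [fin_mem_supports_iff (maskW_lt _)]
    exact (mem_golayCode_iff u).1 hu
  have hv' : fin (maskW v) ∈ supports (golayCode : Set WW) := by
    rw [fin_mem_supports_iff (maskW_lt _)]
    exact (mem_golayCode_iff v).1 hv
  have h1 := card_symmDiff_add (fin (maskW u)) (fin (maskW v))
  have h2 := card_of_mem_supports hu'
  have h3 := card_of_mem_supports hv'
  have h4 := card_of_mem_supports (symmDiff_mem_supports hu' hv')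
  rw [← fin_and, card_fin (maskW u &&& maskW v)] at h1
  have h5 : popcount (maskW u &&& maskW v) % 2 = 0 := by omega
  rw [ZMod.natCast_eq_zero_iff]
  exact Nat.dvd_of_mod_eq_zero h5

/-- The code words vanishing at `none`. -/
def VS : Submodule (ZMod 2) WW := golayCode ⊓ LinearMap.ker (LinearMap.proj (R := ZMod 2) (φ := fun _ : GolayPt => ZMod 2) none)

theorem mem_VS {w : WW} : w ∈ VS ↔ w ∈ golayCode ∧ w none = 0 := Iff.rfl

/-! ### The cocycle -/

/-- The functionals. -/
def fl : List ℕ := [0, 0, 0, 0, 1972, 0, 493, 435, 797, 0, 1355]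

/-- The quadratic map. -/
def thr : List ℕ → List ℕ → ℕ → ℕ
  | f :: fs, b :: bs, a => (a % 2 * (f ^^^ (b &&& linc bs (a / 2)))) ^^^ thr fs bs (a / 2)
  | _, _, _ => 0

/-- The diagonal part of the product. -/
def diagR : List ℕ → ℕ → ℕ → ℕ
  | [], _, _ => 0
  | b :: bs, a, a' => (a % 2 * (a' % 2) * b) ^^^ diagR bs (a / 2) (a' / 2)

theorem and_xor (x y z : ℕ) : x &&& (y ^^^ z) = (x &&& y) ^^^ (x &&& z) := by
  apply Nat.eq_of_testBit_eq
  intro i
  simp only [Nat.testBit_and, Nat.testBit_xor]
  cases x.testBit i <;> cases y.testBit i <;> cases z.testBit i <;> rfl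

theorem xor_and (x y z : ℕ) : (x ^^^ y) &&& z = (x &&& z) ^^^ (y &&& z) := by
  rw [Nat.and_comm, and_xor, Nat.and_comm z x, Nat.and_comm z y]

theorem thr_xor : ∀ (fs bs : List ℕ) (a a' : ℕ), fs.length = bs.length →
    thr fs bs (a ^^^ a') ^^^ thr fs bs a ^^^ thr fs bs a' ^^^ (linc bs a &&& linc bs a') = diagR bs a a'
  | [], [], _, _, _ => by
    show 0 ^^^ 0 ^^^ 0 ^^^ (0 &&& 0) = 0
    decide
  | f :: fs, b :: bs, a, a', h => by
    have ih := thr_xor fs bs (a / 2) (a' / 2) (by simpa using h)
    show ((a ^^^ a') % 2 * (f ^^^ (b &&& linc bs ((a ^^^ a') / 2)))) ^^^ thr fs bs ((a ^^^ a') / 2) ^^^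
      ((a % 2 * (f ^^^ (b &&& linc bs (a / 2)))) ^^^ thr fs bs (a / 2)) ^^^
      ((a' % 2 * (f ^^^ (b &&& linc bs (a' / 2)))) ^^^ thr fs bs (a' / 2)) ^^^
      (((a % 2 * b) ^^^ linc bs (a / 2)) &&& ((a' % 2 * b) ^^^ linc bs (a' / 2))) =
      (a % 2 * (a' % 2) * b) ^^^ diagR bs (a / 2) (a' / 2)
    rw [xor_div_two, xor_mod_two, linc_xor, ← ih]
    have hx : a % 2 < 2 := Nat.mod_lt _ (by norm_num)
    have hy : a' % 2 < 2 := Nat.mod_lt _ (by norm_num)
    generalize linc bs (a / 2) = L
    generalize linc bs (a' / 2) = L'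
    generalize thr fs bs (a / 2 ^^^ a' / 2) = t0
    generalize thr fs bs (a / 2) = t1
    generalize thr fs bs (a' / 2) = t2
    interval_cases a % 2 <;> interval_cases a' % 2
    · simp
    · simp only [Nat.zero_xor, one_mul, zero_mul, and_xor, xor_and]
      apply Nat.eq_of_testBit_eq
      intro i
      simp only [Nat.testBit_and, Nat.testBit_xor]
      cases f.testBit i <;> cases b.testBit i <;> cases L.testBit i <;> cases L'.testBit i <;>
        cases t0.testBit i <;> cases t1.testBit i <;> cases t2.testBit i <;> rfl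
    · simp only [Nat.xor_zero, Nat.zero_xor, one_mul, zero_mul, mul_zero, and_xor, xor_and]
      apply Nat.eq_of_testBit_eq
      intro i
      simp only [Nat.testBit_and, Nat.testBit_xor]
      cases f.testBit i <;> cases b.testBit i <;> cases L.testBit i <;> cases L'.testBit i <;>
        cases t0.testBit i <;> cases t1.testBit i <;> cases t2.testBit i <;> rfl
    · simp only [Nat.xor_self, one_mul, zero_mul, and_xor, xor_and, Nat.zero_xor]
      apply Nat.eq_of_testBit_eq
      intro i
      simp only [Nat.testBit_and, Nat.testBit_xor]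
      cases f.testBit i <;> cases b.testBit i <;> cases L.testBit i <;> cases L'.testBit i <;>
        cases t0.testBit i <;> cases t1.testBit i <;> cases t2.testBit i <;> rfl
  | [], _ :: _, _, _, h => by simp at h
  | _ :: _, [], _, _, h => by simp at h

theorem diagR_code : ∀ (bs : List ℕ) (a a' : ℕ), (∀ b ∈ bs, isCode b = true) →
    isCode (diagR bs a a') = true
  | [], _, _, _ => isCode_zero
  | b :: bs, a, a', h => by
    unfold diagR
    refine isCode_xor ?_ (diagR_code bs _ _ fun x hx => h x (List.mem_cons_of_mem _ hx))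
    have hx : a % 2 < 2 := Nat.mod_lt _ (by norm_num)
    have hy : a' % 2 < 2 := Nat.mod_lt _ (by norm_num)
    have hb := h b List.mem_cons_self
    interval_cases a % 2 <;> interval_cases a' % 2
    · rw [zero_mul, zero_mul]; exact isCode_zero
    · rw [zero_mul, zero_mul]; exact isCode_zero
    · rw [mul_zero, zero_mul]; exact isCode_zero
    · rw [one_mul, one_mul]; exact hb

/-- The coordinates of a word. -/
def crd (v : WW) : ℕ := crdV (maskW v)

theorem enc_crd {v : WW} (hv : v ∈ VS) : encV (crd v) = maskW v := by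
  obtain ⟨h1, h2⟩ := mem_VS.1 hv
  rw [mem_golayCode_iff] at h1
  obtain ⟨i, hi, h4⟩ := isCode_iff_exists.1 h1
  have h5 := encV_surj_aux i hi
  rw [Bool.or_eq_true] at h5
  unfold crd
  rcases h5 with h5 | h5
  · exfalso
    have h6 : (maskW v).testBit (idx none) = true := by
      rw [h4]
      show (enc i).testBit 23 = true
      rw [Nat.testBit_eq_decide_div_mod_eq, ← Nat.shiftRight_eq_div_pow, Nat.eq_of_beq_eq_true h5]
      rfl
    rw [testBit_maskW, h2] at h6
    simp at h6
  · rw [h4]
    exact Nat.eq_of_beq_eq_true h5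

theorem crd_lt (v : WW) : crd v < 2048 := crdV_lt _

theorem crd_add {u v : WW} (hu : u ∈ VS) (hv : v ∈ VS) : crd (u + v) = crd u ^^^ crd v := by
  have h1 : encV (crd (u + v)) = encV (crd u ^^^ crd v) := by
    rw [enc_crd (VS.add_mem hu hv), encV_xor, enc_crd hu, enc_crd hv, maskW_add]
  have h2 := Nat.eq_of_beq_eq_true (encV_inj_aux _ (crd_lt (u + v)))
  have h3 := Nat.eq_of_beq_eq_true (encV_inj_aux (crd u ^^^ crd v)
    (Nat.xor_lt_two_pow (n := 11) (crd_lt u) (crd_lt v)))
  rw [← h2, h1, h3]

/-- The quadratic map on words. -/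
def Th (v : WW) : WW := word (thr fl Vb (crd v))

theorem Vb_code : ∀ b ∈ Vb, isCode b = true := by
  have h : (Vb.all isCode) = true := by decide +kernel
  exact List.all_eq_true.1 h

theorem Th_add {u v : WW} (hu : u ∈ VS) (hv : v ∈ VS) :
    ∃ r ∈ golayCode, Th (u + v) + Th u + Th v + u * v = r := by
  refine ⟨word (diagR Vb (crd u) (crd v)), ?_, ?_⟩
  · have h := diagR_code Vb (crd u) (crd v) Vb_code
    rw [mem_golayCode_iff, maskW_word (isCode_lt h)]
    exact h
  · have h1 : u * v = word (linc Vb (crd u) &&& linc Vb (crd v)) := by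
      rw [word_and]
      have h2 : linc Vb (crd u) = maskW u := enc_crd hu
      have h3 : linc Vb (crd v) = maskW v := enc_crd hv
      rw [h2, h3, word_maskW, word_maskW]
    rw [← thr_xor fl Vb (crd u) (crd v) rfl, word_xor, word_xor, word_xor, h1, ← crd_add hu hv]
    rfl

/-- The cocycle. -/
def th (u v : WW) : ZMod 2 := dt (Th u) v

theorem th_add_right (u v w : WW) : th u (v + w) = th u v + th u w := dt_add_right _ _ _

theorem th_add_left {u v w : WW} (hu : u ∈ VS) (hv : v ∈ VS) (hw : w ∈ VS) :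
    th (u + v) w = th u w + th v w + dt (u * v) w := by
  obtain ⟨r, hr, h⟩ := Th_add hu hv
  have h1 : dt (Th (u + v) + Th u + Th v + u * v) w = 0 := by
    rw [h]
    exact dt_code hr (mem_VS.1 hw).1
  rw [dt_add_left, dt_add_left, dt_add_left] at h1
  unfold th
  have : ∀ a b c d : ZMod 2, a + b + c + d = 0 → a = b + c + d := by decide
  exact this _ _ _ _ h1

/-- A quarter of the weight. -/
def om (v : WW) : ZMod 2 := (((support₂ v).card / 4 : ℕ) : ZMod 2)

theorem diag_check : ∀ a, a < 2 ^ 11 →
    Nat.beq (popcount (thr fl Vb a &&& encV a) % 2) ((popcount (encV a) / 4) % 2) = true := by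
  apply allR_zero_spec
  decide +kernel

theorem th_diag {v : WW} (hv : v ∈ VS) : th v v = om v := by
  have h1 : v = word (encV (crd v)) := by rw [enc_crd hv, word_maskW]
  have h2 := Nat.eq_of_beq_eq_true (diag_check (crd v) (crd_lt v))
  have h3 : th v v = dt (word (thr fl Vb (crd v))) (word (encV (crd v))) := by
    rw [← h1]; rfl
  rw [h3, dt_word]
  unfold om
  rw [card_eq_popcount, maskOf_support₂, ← enc_crd hv]
  exact (ZMod.natCast_eq_natCast_iff' _ _ 2).2 h2

theorem dt_mul_self (u v : WW) : dt (u * v) u = dt u v := by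
  unfold dt
  refine Finset.sum_congr rfl fun p _ => ?_
  rw [Pi.mul_apply, mul_assoc, mul_comm (v p), ← mul_assoc, mul_self']

theorem dt_mul_self' (u v : WW) : dt (u * v) v = dt u v := by
  unfold dt
  refine Finset.sum_congr rfl fun p _ => ?_
  rw [Pi.mul_apply, mul_assoc, mul_self']

theorem th_symm {u v : WW} (hu : u ∈ VS) (hv : v ∈ VS) :
    th u v + th v u = om (u + v) + om u + om v := by
  have h1 := th_diag (VS.add_mem hu hv)
  rw [th_add_left hu hv (VS.add_mem hu hv), th_add_right, th_add_right, dt_add_right,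
    dt_mul_self, dt_mul_self', add_self, th_diag hu, th_diag hv] at h1
  rw [← h1]
  have : ∀ a b c d : ZMod 2, a + b = c + a + (b + d) + 0 + c + d := by decide
  exact this _ _ _ _

end Cfsg.Agent.H188.Park
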