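import Cfsg.Agent.H188.Park

/-!
# The extension `2 ^ 11 · M23` from the Parker cocycle (helper188)
-/

set_option autoImplicit false

namespace Cfsg.Agent.H188.ParkGrp

open Cfsg Cfsg.Agent.SporadicA.GolayBase Cfsg.Agent.SporadicA.GolayPerm
open Cfsg.Agent.H188.Lin Cfsg.Agent.H188.Tab Cfsg.Agent.H188.Words
open Cfsg.Agent.H188.ModV Cfsg.Agent.H188.ModW Cfsg.Agent.H188.Park

theorem mv_mem (s : Spor.M23) {v : WW} (hv : v ∈ VS) : v ∘ ⇑((s : Equiv.Perm GolayPt)⁻¹) ∈ VS := by
  obtain ⟨h1, h2⟩ := mem_VS.1 hv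
  refine mem_VS.2 ⟨(mem_M24_iff_comp_mem (s : Equiv.Perm GolayPt)).1 s.2.1 v h1, ?_⟩
  have h3 : (s : Equiv.Perm GolayPt) none = none := s.2.2
  have h4 : ((s : Equiv.Perm GolayPt)⁻¹) none = none := by
    conv_lhs => rw [← h3]
    exact Equiv.symm_apply_apply _ _
  show v (((s : Equiv.Perm GolayPt)⁻¹) none) = 0
  rw [h4]
  exact h2

/-- The action on words. -/
def mv (s : Spor.M23) (v : VS) : VS := ⟨(v : WW) ∘ ⇑((s : Equiv.Perm GolayPt)⁻¹), mv_mem s v.2⟩

theorem mv_one (v : VS) : mv 1 v = v := rfl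

theorem mv_mul (s t : Spor.M23) (v : VS) : mv (s * t) v = mv s (mv t v) := by
  apply Subtype.ext
  show (v : WW) ∘ ⇑(((s * t : Spor.M23) : Equiv.Perm GolayPt)⁻¹) = _
  rw [Subgroup.coe_mul, mul_inv_rev]
  rfl

theorem mv_add (s : Spor.M23) (u v : VS) : mv s (u + v) = mv s u + mv s v := rfl

theorem mv_inv_mv (s : Spor.M23) (v : VS) : mv s⁻¹ (mv s v) = v := by
  rw [← mv_mul, inv_mul_cancel, mv_one]

theorem mv_mv_inv (s : Spor.M23) (v : VS) : mv s (mv s⁻¹ v) = v := by
  rw [← mv_mul, mul_inv_cancel, mv_one]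

open scoped Pointwise in
theorem om_mv (s : Spor.M23) (v : VS) : om (mv s v : WW) = om (v : WW) := by
  have h1 : support₂ (mv s v : WW) = (s : Equiv.Perm GolayPt) • support₂ (v : WW) :=
    (smul_support₂ (s : Equiv.Perm GolayPt) (v : WW)).symm
  unfold om
  rw [h1, Finset.card_smul_finset]

theorem dt_mv (s : Spor.M23) (u v w : VS) :
    dt ((mv s u : WW) * (mv s v : WW)) (mv s w : WW) = dt ((u : WW) * (v : WW)) (w : WW) :=
  dt_perm (s : Equiv.Perm GolayPt) ((u : WW) * (v : WW)) (w : WW)

/-- The cocycle on `VS`. -/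
def tv (u v : VS) : ZMod 2 := th u v

theorem tv_add_right (u v w : VS) : tv u (v + w) = tv u v + tv u w := th_add_right _ _ _

theorem tv_add_left (u v w : VS) :
    tv (u + v) w = tv u w + tv v w + dt ((u : WW) * (v : WW)) (w : WW) := th_add_left u.2 v.2 w.2

theorem tv_symm (u v : VS) : tv u v + tv v u = om ((u + v : VS) : WW) + om (u : WW) + om (v : WW) :=
  th_symm u.2 v.2

theorem tv_diag (u : VS) : tv u u = om (u : WW) := th_diag u.2

/-- The coboundary condition. -/
def dl (s : Spor.M23) (u v : VS) : ZMod 2 := tv (mv s u) (mv s v) + tv u v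

theorem dl_symm (s : Spor.M23) (u v : VS) : dl s u v = dl s v u := by
  unfold dl
  have h1 := tv_symm (mv s u) (mv s v)
  have h2 := tv_symm u v
  rw [← mv_add, om_mv, om_mv, om_mv, ← h2] at h1
  have : ∀ a b c d : ZMod 2, a + b = c + d → a + c = b + d := by decide
  exact this _ _ _ _ h1

theorem dl_diag (s : Spor.M23) (u : VS) : dl s u u = 0 := by
  unfold dl
  rw [tv_diag, tv_diag, om_mv, add_self]

theorem dl_cocycle (s : Spor.M23) (u v w : VS) :
    dl s u v + dl s (u + v) w = dl s v w + dl s u (v + w) := by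
  unfold dl
  rw [mv_add, mv_add, tv_add_left, tv_add_left, tv_add_right, tv_add_right, dt_mv]
  have : ∀ a b c d e f g : ZMod 2, a + b + (c + d + e + (f + g + e)) = d + g + (a + c + (b + f)) := by
    decide
  exact this _ _ _ _ _ _ _

/-- The elements of the extension. -/
@[ext] structure PE : Type where
  s : Spor.M23
  q : VS → ZMod 2
  h : ∀ u v : VS, q (u + v) = q u + q v + dl s u v

namespace PE

theorem dl_one (u v : VS) : dl 1 u v = 0 := by
  unfold dl
  rw [mv_one, mv_one, add_self]

theorem dl_mul (s t : Spor.M23) (u v : VS) : dl (s * t) u v = dl s (mv t u) (mv t v) + dl t u v := by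
  unfold dl
  rw [mv_mul, mv_mul]
  have : ∀ a b c : ZMod 2, a + c = a + b + (b + c) := by decide
  exact this _ _ _

instance instMulPE : Mul PE where
  mul x y := ⟨x.s * y.s, fun v => y.q v + x.q (mv y.s v), fun u v => by
    rw [mv_add, x.h, y.h, dl_mul]
    ring⟩

instance instOnePE : One PE where
  one := ⟨1, fun _ => 0, fun u v => by rw [dl_one]; decide⟩

instance instInvPE : Inv PE where
  inv x := ⟨x.s⁻¹, fun v => x.q (mv x.s⁻¹ v), fun u v => by
    have h1 := dl_mul x.s x.s⁻¹ u v
    rw [mul_inv_cancel, dl_one] at h1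
    have h2 : dl x.s (mv x.s⁻¹ u) (mv x.s⁻¹ v) = dl x.s⁻¹ u v := two_eq h1.symm
    rw [mv_add, x.h, h2]⟩

theorem mul_s (x y : PE) : (x * y).s = x.s * y.s := rfl
theorem mul_q (x y : PE) (v : VS) : (x * y).q v = y.q v + x.q (mv y.s v) := rfl
theorem one_s : (1 : PE).s = 1 := rfl
theorem one_q (v : VS) : (1 : PE).q v = 0 := rfl
theorem inv_s (x : PE) : (x⁻¹).s = x.s⁻¹ := rfl
theorem inv_q (x : PE) (v : VS) : (x⁻¹).q v = x.q (mv x.s⁻¹ v) := rfl

instance instGroupPE : Group PE where
  mul_assoc x y z := by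
    apply PE.ext
    · exact mul_assoc _ _ _
    · funext v
      simp only [mul_q, mul_s, mv_mul]
      ring
  one_mul x := by
    apply PE.ext
    · exact one_mul _
    · funext v
      rw [mul_q, one_q, add_zero]
  mul_one x := by
    apply PE.ext
    · exact mul_one _
    · funext v
      rw [mul_q, one_q, one_s, mv_one, zero_add]
  inv_mul_cancel x := by
    apply PE.ext
    · exact inv_mul_cancel _
    · funext v
      rw [mul_q, inv_q, mv_inv_mv, one_q, add_self]

/-- The projection. -/
def pr : PE →* Spor.M23 where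
  toFun := PE.s
  map_one' := rfl
  map_mul' _ _ := rfl

theorem pr_apply (x : PE) : pr x = x.s := rfl

instance instFinitePE : Finite PE := by
  have : Function.Injective (fun x : PE => (x.s, x.q)) := by
    intro x y h
    exact PE.ext (congrArg Prod.fst h) (congrArg Prod.snd h)
  exact Finite.of_injective _ this

end PE

/-! ### The projection is onto -/

/-- The elementary abelian extension given by a symmetric cocycle. -/
@[ext] structure Tw (s : Spor.M23) : Type where
  v : VS
  x : ZMod 2

namespace Tw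

variable {s : Spor.M23}

theorem dl_zero (u : VS) : dl s u 0 = 0 := by
  have h := dl_cocycle s u 0 0
  rw [add_zero, add_zero, dl_diag s 0] at h
  have h2 := dl_cocycle s 0 0 u
  rw [add_zero, dl_diag s 0, zero_add, zero_add] at h2
  have h3 := dl_cocycle s u 0 u
  rw [add_zero, zero_add, dl_diag, dl_symm s 0 u] at h3
  have : ∀ a : ZMod 2, a + 0 = a + 0 → True := by decide
  -- `dl s u 0 = dl s 0 0` from the cocycle identity
  have h4 : dl s u 0 + dl s (u + 0) 0 = dl s 0 0 + dl s u (0 + 0) := dl_cocycle s u 0 0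
  rw [add_zero, add_zero, dl_diag s 0, zero_add] at h4
  have : ∀ a : ZMod 2, a + a = a → a = 0 := by decide
  exact this _ h4

instance instAddTw : Add (Tw s) := ⟨fun a b => ⟨a.v + b.v, a.x + b.x + dl s a.v b.v⟩⟩
instance instZeroTw : Zero (Tw s) := ⟨⟨0, 0⟩⟩
instance instNegTw : Neg (Tw s) := ⟨fun a => a⟩

theorem add_v (a b : Tw s) : (a + b).v = a.v + b.v := rfl
theorem add_x (a b : Tw s) : (a + b).x = a.x + b.x + dl s a.v b.v := rfl
theorem zero_v : (0 : Tw s).v = 0 := rfl
theorem zero_x : (0 : Tw s).x = 0 := rfl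

theorem VS_add_self (v : VS) : v + v = 0 := by
  apply Subtype.ext
  funext p
  exact add_self _

theorem neg_add (a : Tw s) : -a + a = 0 := by
  show a + a = 0
  apply Tw.ext
  · rw [add_v, VS_add_self]; rfl
  · rw [add_x, dl_diag, add_self, add_zero]; rfl

theorem add_assoc' (a b c : Tw s) : a + b + c = a + (b + c) := by
  apply Tw.ext
  · simp only [add_v, add_assoc]
  · simp only [add_v, add_x]
    have h := dl_cocycle s a.v b.v c.v
    have : ∀ a b c d e f g : ZMod 2, d + e = f + g → a + b + d + c + e = a + (b + c + f) + g := by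
      decide
    exact this _ _ _ _ _ _ _ h

theorem add_comm' (a b : Tw s) : a + b = b + a := by
  apply Tw.ext
  · simp only [add_v, add_comm]
  · simp only [add_x]
    rw [dl_symm s, add_comm a.x]

instance instAddCommGroupTw : AddCommGroup (Tw s) where
  add_assoc := add_assoc'
  zero_add a := by
    apply Tw.ext
    · rw [add_v, zero_v, zero_add]
    · rw [add_x, zero_x, zero_v, dl_symm, dl_zero, zero_add, add_zero]
  add_zero a := by
    apply Tw.ext
    · rw [add_v, zero_v, add_zero]
    · rw [add_x, zero_x, zero_v, dl_zero, add_zero, add_zero]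
  nsmul := nsmulRec
  zsmul := zsmulRec
  neg_add_cancel := neg_add
  add_comm := add_comm'

instance instModuleTw : Module (ZMod 2) (Tw s) :=
  AddCommGroup.zmodModule (n := 2) fun a => by
    rw [two_nsmul]
    exact neg_add a

/-- The projection. -/
def proj : Tw s →ₗ[ZMod 2] VS :=
  AddMonoidHom.toZModLinearMap 2 { toFun := Tw.v, map_zero' := rfl, map_add' := fun _ _ => rfl }

theorem proj_apply (a : Tw s) : proj a = a.v := rfl

end Tw

theorem exists_q (s : Spor.M23) : ∃ q : VS → ZMod 2, ∀ u v, q (u + v) = q u + q v + dl s u v := by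
  have hs : LinearMap.range (Tw.proj (s := s)) = ⊤ := by
    rw [LinearMap.range_eq_top]
    intro v
    exact ⟨⟨v, 0⟩, rfl⟩
  obtain ⟨g, hg⟩ := LinearMap.exists_rightInverse_of_surjective (Tw.proj (s := s)) hs
  have h1 : ∀ v, (g v).v = v := fun v => LinearMap.congr_fun hg v
  refine ⟨fun v => (g v).x, fun u v => ?_⟩
  show (g (u + v)).x = _
  rw [map_add, Tw.add_x, h1, h1]

theorem pr_surj : Function.Surjective PE.pr := by
  intro s
  obtain ⟨q, hq⟩ := exists_q s
  exact ⟨⟨s, q, hq⟩, rfl⟩

/-! ### The kernel -/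

/-- The element of the kernel given by a word. -/
def kerE (w : WW) : PE := ⟨1, fun v => dt w v, fun u v => by
  rw [PE.dl_one, add_zero]
  exact dt_add_right _ _ _⟩

theorem kerE_mem (w : WW) : kerE w ∈ PE.pr.ker := rfl

theorem kerE_add (w w' : WW) : kerE (w + w') = kerE w * kerE w' := by
  apply PE.ext
  · exact (one_mul 1).symm
  · funext v
    rw [PE.mul_q]
    show dt (w + w') v = dt w' v + dt w (mv 1 v)
    rw [dt_add_left, mv_one, add_comm]

/-- The map from words to the kernel. -/
def thk : WW →+ Additive ↥PE.pr.ker where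
  toFun w := Additive.ofMul ⟨kerE w, kerE_mem w⟩
  map_zero' := by
    apply Additive.toMul.injective
    apply Subtype.ext
    apply PE.ext
    · rfl
    · funext v
      show dt 0 v = 0
      rw [dt_comm, dt_zero_right]
  map_add' w w' := by
    apply Additive.toMul.injective
    apply Subtype.ext
    exact kerE_add w w'

theorem thk_coe (w : WW) : ((thk w).toMul : PE) = kerE w := rfl

theorem thk_surj : Function.Surjective thk := by
  intro n
  obtain ⟨n, hn⟩ : ∃ m : ↥PE.pr.ker, n = Additive.ofMul m := ⟨n.toMul, rfl⟩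
  subst hn
  obtain ⟨⟨s, q, hq⟩, hs⟩ := n
  have hs' : s = 1 := hs
  subst hs'
  have hadd : ∀ u v, q (u + v) = q u + q v := by
    intro u v
    rw [hq, PE.dl_one, add_zero]
  have h0 : q 0 = 0 := by
    have := hadd 0 0
    rw [add_zero, add_self] at this
    exact this
  let f : VS →ₗ[ZMod 2] ZMod 2 :=
    AddMonoidHom.toZModLinearMap 2 { toFun := q, map_zero' := h0, map_add' := hadd }
  obtain ⟨g, hg⟩ := LinearMap.exists_extend f
  refine ⟨fun p => g (Pi.single p 1), ?_⟩
  apply Additive.toMul.injective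
  apply Subtype.ext
  apply PE.ext
  · rfl
  · funext v
    show dt (fun p => g (Pi.single p 1)) (v : WW) = q v
    have h1 : q v = g (v : WW) := (LinearMap.congr_fun hg v).symm
    have h2 : (v : WW) = ∑ p, (v : WW) p • (Pi.single p (1 : ZMod 2) : WW) := by
      funext r
      rw [Finset.sum_apply]
      simp [Pi.single_apply]
    rw [h1]
    conv_rhs => rw [h2]
    rw [map_sum]
    unfold dt
    refine Finset.sum_congr rfl fun p _ => ?_
    rw [map_smul, smul_eq_mul, mul_comm]

theorem perp_check : ∀ a, a < 2 ^ 11 → (Nat.beq a 0 ||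
    Vb.any (fun b => Nat.beq (popcount (encW a &&& b) % 2) 1)) = true := by
  apply allR_zero_spec
  decide +kernel

theorem Vb_mem {b : ℕ} (hb : b ∈ Vb) : word b ∈ VS := by
  have h : (Vb.all fun m => isCode m && Nat.blt m (2 ^ 23)) = true := by decide +kernel
  rw [List.all_eq_true] at h
  have h1 := h b hb
  rw [Bool.and_eq_true] at h1
  have h2 : b < 2 ^ 23 := Nat.blt_eq.mp h1.2
  refine mem_VS.2 ⟨?_, word_none h2⟩
  rw [mem_golayCode_iff, maskW_word (by omega)]
  exact h1.1

theorem dt_of_inD {w : WW} (h : w ∈ golayCode ∨ w + Pi.single none 1 ∈ golayCode) {v : WW} (hv : v ∈ VS) :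
    dt w v = 0 := by
  obtain ⟨h1, h2⟩ := mem_VS.1 hv
  rcases h with h | h
  · exact dt_code h h1
  · have h3 := dt_code h h1
    rw [dt_add_left] at h3
    have h4 : dt (Pi.single none 1) v = 0 := by
      unfold dt
      rw [Finset.sum_eq_single none]
      · rw [h2, mul_zero]
      · intro p _ hp
        rw [Pi.single_apply, if_neg hp, zero_mul]
      · intro hn
        exact absurd (Finset.mem_univ _) hn
    rw [h4, add_zero] at h3
    exact h3

theorem thk_ker (w : WW) : thk w = 0 ↔ (w ∈ golayCode ∨ w + Pi.single none 1 ∈ golayCode) := by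
  have key : thk w = 0 ↔ ∀ v ∈ VS, dt w v = 0 := by
    constructor
    · intro h v hv
      have h1 : kerE w = 1 := by
        have := congrArg (fun x : Additive ↥PE.pr.ker => (x.toMul : PE)) h
        exact this
      have h2 := congrArg (fun x : PE => x.q ⟨v, hv⟩) h1
      exact h2
    · intro h
      apply Additive.toMul.injective
      apply Subtype.ext
      apply PE.ext
      · rfl
      · funext v
        exact h v v.2
  rw [key]
  constructor
  · intro h
    have h1 := inD_red (maskW_lt w)
    have h2 : word (maskW w ^^^ encW (redW (maskW w))) = w + word (encW (redW (maskW w))) := by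
      rw [word_xor, word_maskW]
    have h3 := (inD_iff (Nat.xor_lt_two_pow (maskW_lt w) (encW_lt _))).1 h1
    rw [h2] at h3
    have h4 : ∀ v ∈ VS, dt (word (encW (redW (maskW w)))) v = 0 := by
      intro v hv
      have h5 := dt_of_inD h3 hv
      rw [dt_add_left, h v hv, zero_add] at h5
      exact h5
    have h5 := perp_check (redW (maskW w)) (redW_lt _)
    rw [Bool.or_eq_true] at h5
    rcases h5 with h5 | h5
    · rw [Nat.eq_of_beq_eq_true h5] at h1
      have h6 : encW 0 = 0 := by decide +kernel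
      rw [h6, Nat.xor_zero] at h1
      have h7 := (inD_iff (maskW_lt w)).1 h1
      rwa [word_maskW] at h7
    · exfalso
      rw [List.any_eq_true] at h5
      obtain ⟨b, hb, h6⟩ := h5
      have h7 := h4 _ (Vb_mem hb)
      rw [dt_word, ZMod.natCast_eq_zero_iff] at h7
      have h8 := Nat.eq_of_beq_eq_true h6
      omega
  · intro h v hv
    exact dt_of_inD h hv

theorem thk_conj (g : PE) (w : WW) :
    ((thk (w ∘ ⇑((PE.pr g : Equiv.Perm GolayPt)⁻¹))).toMul : PE) = g * ((thk w).toMul : PE) * g⁻¹ := by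
  rw [thk_coe, thk_coe, eq_mul_inv_iff_mul_eq]
  apply PE.ext
  · show 1 * g.s = g.s * 1
    rw [one_mul, mul_one]
  · funext v
    rw [PE.mul_q, PE.mul_q]
    show g.q v + dt (w ∘ ⇑((g.s : Equiv.Perm GolayPt)⁻¹)) ((v : WW) ∘ ⇑((g.s : Equiv.Perm GolayPt)⁻¹)) =
      dt w v + g.q (mv 1 v)
    rw [dt_perm, mv_one, add_comm]

end Cfsg.Agent.H188.ParkGrp
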