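import Cfsg.Agent.H188.ParkGrp

/-!
# The Parker extension `2 ^ 11 · M23` does not split (helper188)
-/

set_option autoImplicit false

namespace Cfsg.Agent.H188.ParkNS

open Cfsg Cfsg.Agent.SporadicA.GolayBase Cfsg.Agent.SporadicA.GolayPerm
open Cfsg.Agent.H188.Coll Cfsg.Agent.H188.Lin Cfsg.Agent.H188.Tab Cfsg.Agent.H188.Words
open Cfsg.Agent.H188.ModV Cfsg.Agent.H188.ModW Cfsg.Agent.H188.Park Cfsg.Agent.H188.ParkGrp

/-- The cocycle on masks. -/
def tvn (m n : ℕ) : ℕ := popcount (thr fl Vb (crdV m) &&& n)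

theorem tv_eq {u v : VS} {m n : ℕ} (hm : m < 2 ^ 24) (hu : (u : WW) = word m) (hv : (v : WW) = word n) :
    tv u v = (tvn m n : ℕ) := by
  show dt (word (thr fl Vb (crdV (maskW (u : WW))))) (v : WW) = _
  rw [hu, hv, maskW_word hm, dt_word]
  rfl

theorem mv_eq {s : Spor.M23} {P : ℕ} (hs : IsT s P) (hP : isPerm P = true) {u : VS} {m : ℕ}
    (hu : (u : WW) = word m) : (mv s u : WW) = word (pimg P m) := by
  show (u : WW) ∘ ⇑((s : Equiv.Perm GolayPt)⁻¹) = _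
  rw [hu, word_pimg' hP hs]

/-- The coboundary condition on masks. -/
def dln (P m n : ℕ) : ℕ := tvn (pimg P m) (pimg P n) + tvn m n

theorem dl_eq {s : Spor.M23} {P : ℕ} (hs : IsT s P) (hP : isPerm P = true) {u v : VS} {m n : ℕ}
    (hm : m < 2 ^ 24) (hu : (u : WW) = word m) (hv : (v : WW) = word n) :
    dl s u v = (dln P m n : ℕ) := by
  unfold dl dln
  rw [tv_eq (pimg_lt hP m) (mv_eq hs hP hu) (mv_eq hs hP hv), tv_eq hm hu hv, Nat.cast_add]

/-- Two elements of order four generating a quaternion group. -/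
def ta : ℕ := 978086364944178362583403112838924512
@[inherit_doc ta] def tb' : ℕ := 967973658722934229780207008553011296

theorem ok_a : okT ta = true := by decide +kernel
theorem ok_b : okT tb' = true := by decide +kernel

theorem rel1 : mkT ta ok_a * mkT ta ok_a = mkT tb' ok_b * mkT tb' ok_b := by
  have h1 := (isT_mkT ta ok_a).mul (isT_mkT ta ok_a)
  have h2 := (isT_mkT tb' ok_b).mul (isT_mkT tb' ok_b)
  have h : pcomp ta ta = pcomp tb' tb' := by decide +kernel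
  rw [h] at h1
  exact h1.eq h2

theorem rel2 : mkT ta ok_a * mkT tb' ok_b * mkT ta ok_a = mkT tb' ok_b := by
  have h1 := ((isT_mkT ta ok_a).mul (isT_mkT tb' ok_b)).mul (isT_mkT ta ok_a)
  have h2 := isT_mkT tb' ok_b
  have h : pcomp (pcomp ta tb') ta = tb' := by decide +kernel
  rw [h] at h1
  exact h1.eq h2

/-- Two code words. -/
def m1 : ℕ := 262637
@[inherit_doc m1] def m2 : ℕ := 10558

theorem mem1 : word m1 ∈ VS := Vb_mem (by decide +kernel)
theorem mem2 : word m2 ∈ VS := Vb_mem (by decide +kernel)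

theorem num_eq : (dln ta m1 (pimg ta m1) + dln ta m2 (pimg tb' (pimg ta m2)) + dln tb' m1 (pimg tb' m1) +
    dln tb' m2 (pimg ta m2)) % 2 = 1 := by decide +kernel

theorem lift_exists {H : Subgroup PE} (h : H ⊔ PE.pr.ker = ⊤) (s : Spor.M23) : ∃ x ∈ H, x.s = s := by
  obtain ⟨x, hx⟩ := pr_surj s
  have h1 : x ∈ (↑(H ⊔ PE.pr.ker) : Set PE) := by rw [h]; trivial
  rw [Subgroup.mul_normal] at h1
  obtain ⟨y, hy, z, hz, hyz⟩ := h1
  refine ⟨y, hy, ?_⟩
  have hz' : PE.pr z = 1 := hz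
  have h2 : PE.pr x = PE.pr y * PE.pr z := by rw [← hyz]; exact map_mul _ _ _
  rw [hz', mul_one, hx] at h2
  exact h2.symm

theorem eq_of {H : Subgroup PE} (h : H ⊓ PE.pr.ker = ⊥) {x y : PE} (hx : x ∈ H) (hy : y ∈ H)
    (hs : x.s = y.s) : x = y := by
  have h1 : x * y⁻¹ ∈ H ⊓ PE.pr.ker := by
    refine ⟨H.mul_mem hx (H.inv_mem hy), ?_⟩
    show PE.pr (x * y⁻¹) = 1
    rw [map_mul, map_inv, PE.pr_apply, PE.pr_apply, hs, mul_inv_cancel]
  rw [h, Subgroup.mem_bot, mul_inv_eq_one] at h1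
  exact h1

theorem nonsplit (H : Subgroup PE) (h1 : H ⊓ PE.pr.ker = ⊥) : H ⊔ PE.pr.ker ≠ ⊤ := by
  intro h2
  obtain ⟨x, hx, hxs⟩ := lift_exists h2 (mkT ta ok_a)
  obtain ⟨y, hy, hys⟩ := lift_exists h2 (mkT tb' ok_b)
  have r1 : x * x = y * y := by
    refine eq_of h1 (H.mul_mem hx hx) (H.mul_mem hy hy) ?_
    rw [PE.mul_s, PE.mul_s, hxs, hys]
    exact rel1
  have r2 : x * y * x = y := by
    refine eq_of h1 (H.mul_mem (H.mul_mem hx hy) hx) hy ?_
    rw [PE.mul_s, PE.mul_s, hxs, hys]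
    exact rel2
  have hPa : isPerm ta = true := (okT_iff.1 ok_a).1.1
  have hPb : isPerm tb' = true := (okT_iff.1 ok_b).1.1
  have Ta := isT_mkT ta ok_a
  have Tb := isT_mkT tb' ok_b
  rw [← hxs] at Ta
  rw [← hys] at Tb
  obtain ⟨v1, e1⟩ : ∃ v : VS, (v : WW) = word m1 := ⟨⟨_, mem1⟩, rfl⟩
  obtain ⟨v2, e2⟩ : ∃ v : VS, (v : WW) = word m2 := ⟨⟨_, mem2⟩, rfl⟩
  have q1 : (x * x).q v1 = (y * y).q v1 := by rw [r1]
  have q2 : (x * y * x).q v2 = y.q v2 := by rw [r2]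
  rw [PE.mul_q, PE.mul_q] at q1
  rw [PE.mul_q, PE.mul_q] at q2
  have ea1 := mv_eq Ta hPa e1
  have eb1 := mv_eq Tb hPb e1
  have ea2 := mv_eq Ta hPa e2
  have eba2 := mv_eq Tb hPb ea2
  have s1 : v1 + mv x.s v1 = v2 + mv y.s (mv x.s v2) := by
    apply Subtype.ext
    show (v1 : WW) + (mv x.s v1 : WW) = (v2 : WW) + (mv y.s (mv x.s v2) : WW)
    rw [e1, ea1, e2, eba2, ← word_xor, ← word_xor]
    congr 1
  have s2 : v1 + mv y.s v1 = v2 + mv x.s v2 := by
    apply Subtype.ext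
    show (v1 : WW) + (mv y.s v1 : WW) = (v2 : WW) + (mv x.s v2 : WW)
    rw [e1, eb1, e2, ea2, ← word_xor, ← word_xor]
    congr 1
  have t1 := x.h v1 (mv x.s v1)
  have t2 := x.h v2 (mv y.s (mv x.s v2))
  have t3 := y.h v1 (mv y.s v1)
  have t4 := y.h v2 (mv x.s v2)
  rw [s1] at t1
  rw [s2] at t3
  have l1 : m1 < 2 ^ 24 := by decide
  have l2 : m2 < 2 ^ 24 := by decide
  rw [dl_eq Ta hPa l1 e1 ea1] at t1
  rw [dl_eq Ta hPa l2 e2 eba2] at t2
  rw [dl_eq Tb hPb l1 e1 eb1] at t3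
  rw [dl_eq Tb hPb l2 e2 ea2] at t4
  have hnum : ((dln ta m1 (pimg ta m1) : ℕ) : ZMod 2) + ((dln ta m2 (pimg tb' (pimg ta m2)) : ℕ) : ZMod 2) +
      ((dln tb' m1 (pimg tb' m1) : ℕ) : ZMod 2) + ((dln tb' m2 (pimg ta m2) : ℕ) : ZMod 2) = 1 := by
    rw [← Nat.cast_add, ← Nat.cast_add, ← Nat.cast_add]
    have := num_eq
    rw [← Nat.cast_one, ZMod.natCast_eq_natCast_iff']
    exact this
  generalize ((dln ta m1 (pimg ta m1) : ℕ) : ZMod 2) = d1 at *
  generalize ((dln ta m2 (pimg tb' (pimg ta m2)) : ℕ) : ZMod 2) = d2 at *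
  generalize ((dln tb' m1 (pimg tb' m1) : ℕ) : ZMod 2) = d3 at *
  generalize ((dln tb' m2 (pimg ta m2) : ℕ) : ZMod 2) = d4 at *
  -- `z1 = A + A' + d1`, `z1 = B + B' + d2`, and so on
  generalize x.q (v2 + mv y.s (mv x.s v2)) = z1 at *
  generalize y.q (v2 + mv x.s v2) = z2 at *
  generalize x.q v1 = a1 at *
  generalize x.q (mv x.s v1) = a2 at *
  generalize x.q v2 = a3 at *
  generalize x.q (mv y.s (mv x.s v2)) = a4 at *
  generalize y.q v1 = b1 at *
  generalize y.q (mv y.s v1) = b2 at *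
  generalize y.q v2 = b3 at *
  generalize y.q (mv x.s v2) = b4 at *
  have c1 : d1 = z1 + (a1 + a2) := by
    have : ∀ z a b d : ZMod 2, z = a + b + d → d = z + (a + b) := by decide
    exact this _ _ _ _ t1
  have c2 : d2 = z1 + (a3 + a4) := by
    have : ∀ z a b d : ZMod 2, z = a + b + d → d = z + (a + b) := by decide
    exact this _ _ _ _ t2
  have c3 : d3 = z2 + (b1 + b2) := by
    have : ∀ z a b d : ZMod 2, z = a + b + d → d = z + (a + b) := by decide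
    exact this _ _ _ _ t3
  have c4 : d4 = z2 + (b3 + b4) := by
    have : ∀ z a b d : ZMod 2, z = a + b + d → d = z + (a + b) := by decide
    exact this _ _ _ _ t4
  rw [c1, c2, c3, c4] at hnum
  have c5 : b3 = a3 + (b4 + a4) := q2.symm
  have two : ∀ z : ZMod 2, z + z = 0 := Park.add_self
  have c6 : z1 + (a1 + a2) + (z1 + (a3 + a4)) + (z2 + (b1 + b2)) + (z2 + (b3 + b4)) =
      (z1 + z1) + (z2 + z2) + (a1 + a2 + (b1 + b2)) + (a3 + (b4 + a4) + b3) := by ring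
  rw [c6, two z1, two z2, q1, two (b1 + b2), c5, two (a3 + (b4 + a4))] at hnum
  exact absurd hnum (by decide)

end Cfsg.Agent.H188.ParkNS
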