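import Cfsg.Agent.H188.Tab
import Cfsg.Agent.H188.Lin

/-!
# Extensions of `M23` by modules of order `2 ^ 11`, and their restriction to a Sylow 2-subgroup
(helper188)

`MExt f c cols` : `f : N → M23` is onto, `c a` (`a < 2048`) are the elements of the kernel, elementary
abelian of order `2 ^ 11`, and the lifts of `el k` act on them by the matrix with columns `cols k`.
`Lifts f c X t` : lifts `X k` of the nine elements, with the tails `t r` of their relations.
-/

set_option autoImplicit false

namespace Cfsg.Agent.H188.Setup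

open Cfsg Cfsg.Agent.H188.Coll Cfsg.Agent.H188.Lin Cfsg.Agent.H188.Tab

/-- An extension of `M23` by a module of order `2 ^ 11`. -/
structure MExt {N : Type*} [Group N] (f : N →* Spor.M23) (c : ℕ → N) (cols : ℕ → List ℕ) : Prop where
  surj : Function.Surjective f
  ker : ∀ n, f n = 1 ↔ ∃ a, a < 2048 ∧ n = c a
  xor : ∀ a b, a < 2048 → b < 2048 → c (a ^^^ b) = c a * c b
  inj : ∀ a, a < 2048 → c a = 1 → a = 0
  act : ∀ k, k < 9 → ∀ n, f n = el k → ∀ a, a < 2048 → n * c a * n⁻¹ = c (linc (cols k) a)
  len : ∀ k, k < 9 → (cols k).length = 11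
  lt : ∀ k, k < 9 → ∀ m ∈ cols k, m < 2048

/-- The index of the tail of a relation. -/
def ridx (j k : ℕ) : ℕ :=
  (10601082390066735138000933620813265751623022656835021073052496727944503520 >>> (5 * (7 * k + j))) % 32

/-- The first index of the relation with a given number. -/
def jR (r : ℕ) : ℕ := (16541035800383827320948360 >>> (3 * r)) % 8
/-- The second index of the relation with a given number. -/
def kR (r : ℕ) : ℕ := (13465480170440982196307592 >>> (3 * r)) % 8

theorem ridx_spec : ∀ j, j < 7 → ∀ k, k ≤ j → ridx j k < 28 ∧ jR (ridx j k) = j ∧ kR (ridx j k) = k := by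
  decide +kernel

/-- `dg 11 0` -/
def S1 : ℕ := 0x1000000000000000000000000000000000000000000000000000000000000000000000000000000000000000000000000000001000000000000000000000000000000000000000000000000000000000000000000000000000000000000000000000000000001000000000000000000000000000000000000000000000000000000000000000000000000000000000000000000000000000001000000000000000000000000000000000000000000000000000000000000000000000000000000000000000000000000000001000000000000000000000000000000000000000000000000000000000000000000000000000000000000000000000000000001000000000000000000000000000000000000000000000000000000000000000000000000000000000000000000000000000001000000000000000000000000000000000000000000000000000000000000000000000000000000000000000000000000000001000000000000000000000000000000000000000000000000000000000000000000000000000000000000000000000000000001000000000000000000000000000000000000000000000000000000000000000000000000000000000000000000000000000001000000000000000000000000000000000000000000000000000000000000000000000000000000000000000000000000000001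

theorem S1_eq : S1 = dg 11 0 := by decide +kernel

/-- The symbolic tails. -/
def tau (j k : ℕ) : ℕ := S1 <<< (11 * ridx j k)

theorem dg_shift : ∀ n i : ℕ, dg n i = 2 ^ i * dg n 0
  | 0, i => rfl
  | n + 1, i => by
    unfold dg
    rw [dg_shift n (i + 1), dg_shift n (0 + 1)]
    ring

/-- Lifts of the nine elements, with the tails of their relations. -/
structure Lifts {N : Type*} [Group N] (f : N →* Spor.M23) (c X : ℕ → N) (t : ℕ → ℕ) : Prop where
  fX : ∀ k, k < 9 → f (X k) = el k
  lt : ∀ r, t r < 2048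
  sq : ∀ k, k < 7 → X k * X k = c (t (ridx k k))
  conj : ∀ j k, k < j → j < 7 → X j * X k = X k * (pw X 7 0 (cj j k) * c (t (ridx j k)))
  cA : ∀ i, i < 5 → X 7 * pw X 7 0 (yA i) = pw X 7 0 (zA i) * c (t (28 + i)) * X 7
  cB : ∀ i, i < 4 → X 8 * pw X 7 0 (yB i) = pw X 7 0 (zB i) * c (t (33 + i)) * X 8

section

variable {N : Type*} [Group N] {f : N →* Spor.M23} {c : ℕ → N} {cols : ℕ → List ℕ}

namespace MExt

variable (h : MExt f c cols)

include h

theorem c_zero : c 0 = 1 := by
  have h1 := h.xor 0 0 (by norm_num) (by norm_num)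
  rw [Nat.xor_self] at h1
  exact (mul_eq_left.1 h1.symm)

theorem map_c {a : ℕ} (ha : a < 2048) : f (c a) = 1 := (h.ker _).2 ⟨a, ha, rfl⟩

theorem xor_lt {a b : ℕ} (ha : a < 2048) (hb : b < 2048) : a ^^^ b < 2048 :=
  Nat.xor_lt_two_pow (n := 11) ha hb

theorem sq {a : ℕ} (ha : a < 2048) : c a * c a = 1 := by
  rw [← h.xor a a ha ha, Nat.xor_self, h.c_zero]

theorem comm {a b : ℕ} (ha : a < 2048) (hb : b < 2048) : c a * c b = c b * c a := by
  rw [← h.xor a b ha hb, Nat.xor_comm, h.xor b a hb ha]

theorem exists_mul {x y : N} (hxy : f x = f y) : ∃ a, a < 2048 ∧ x = y * c a := by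
  have h1 : f (y⁻¹ * x) = 1 := by rw [map_mul, map_inv, hxy, inv_mul_cancel]
  obtain ⟨a, ha, h2⟩ := (h.ker _).1 h1
  exact ⟨a, ha, by rw [← h2, mul_inv_cancel_left]⟩

theorem f_pw {X : ℕ → N} (hX : ∀ k, k < 9 → f (X k) = el k) (e : ℕ) :
    f (pw X 7 0 e) = pw el 7 0 e := by
  rw [map_pw]
  apply pw_congr_X
  intro i _ hi
  exact hX i (by omega)

theorem exists_lifts : ∃ (X : ℕ → N) (t : ℕ → ℕ), Lifts f c X t := by
  have h0 : ∀ k, ∃ x, f x = el k := fun k => h.surj _
  choose X hX using h0
  have hX' : ∀ k, k < 9 → f (X k) = el k := fun k _ => hX k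
  have key : ∀ r : ℕ, ∃ a, a < 2048 ∧
      (r < 28 → jR r < 7 → kR r = jR r → X (kR r) * X (kR r) = c a) ∧
      (r < 28 → jR r < 7 → kR r < jR r →
        X (jR r) * X (kR r) = X (kR r) * (pw X 7 0 (cj (jR r) (kR r)) * c a)) ∧
      (28 ≤ r → r < 33 → X 7 * pw X 7 0 (yA (r - 28)) = pw X 7 0 (zA (r - 28)) * c a * X 7) ∧
      (33 ≤ r → r < 37 → X 8 * pw X 7 0 (yB (r - 33)) = pw X 7 0 (zB (r - 33)) * c a * X 8) := by
    intro r
    by_cases h28 : r < 28
    · by_cases hj : jR r < 7
      · rcases lt_trichotomy (kR r) (jR r) with hk | hk | hk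
        · have h1 : f (X (jR r) * X (kR r)) = f (X (kR r) * pw X 7 0 (cj (jR r) (kR r))) := by
            rw [map_mul, map_mul, hX, hX, h.f_pw hX']
            exact el_conj hj hk
          obtain ⟨a, ha, h2⟩ := h.exists_mul h1
          refine ⟨a, ha, fun _ _ h3 => by omega, fun _ _ _ => by rw [h2, mul_assoc], fun h3 => by omega,
            fun h3 => by omega⟩
        · have h1 : f (X (kR r) * X (kR r)) = f 1 := by
            rw [map_mul, hX, map_one]
            exact el_sq (by omega)
          obtain ⟨a, ha, h2⟩ := h.exists_mul h1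
          rw [one_mul] at h2
          refine ⟨a, ha, fun _ _ _ => h2, fun _ _ h3 => by omega, fun h3 => by omega,
            fun h3 => by omega⟩
        · refine ⟨0, by norm_num, fun _ _ h3 => by omega, fun _ _ h3 => by omega, fun h3 => by omega,
            fun h3 => by omega⟩
      · refine ⟨0, by norm_num, fun _ h3 => absurd h3 hj, fun _ h3 => absurd h3 hj,
          fun h3 => by omega, fun h3 => by omega⟩
    · by_cases h33 : r < 33
      · have h1 : f (X 7 * pw X 7 0 (yA (r - 28)) * (X 7)⁻¹) = f (pw X 7 0 (zA (r - 28))) := by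
          rw [map_mul, map_mul, map_inv, hX, h.f_pw hX', h.f_pw hX', el_A (by omega),
            mul_inv_cancel_right]
        obtain ⟨a, ha, h2⟩ := h.exists_mul h1
        refine ⟨a, ha, fun h3 => absurd h3 h28, fun h3 => absurd h3 h28, fun _ _ => ?_,
          fun h3 => by omega⟩
        rw [← h2, inv_mul_cancel_right]
      · by_cases h37 : r < 37
        · have h1 : f (X 8 * pw X 7 0 (yB (r - 33)) * (X 8)⁻¹) = f (pw X 7 0 (zB (r - 33))) := by
            rw [map_mul, map_mul, map_inv, hX, h.f_pw hX', h.f_pw hX', el_B (by omega),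
              mul_inv_cancel_right]
          obtain ⟨a, ha, h2⟩ := h.exists_mul h1
          refine ⟨a, ha, fun h3 => absurd h3 h28, fun h3 => absurd h3 h28, fun _ h3 => by omega,
            fun _ _ => ?_⟩
          rw [← h2, inv_mul_cancel_right]
        · refine ⟨0, by norm_num, fun h3 => absurd h3 h28, fun h3 => absurd h3 h28, fun _ h3 => by omega,
            fun _ h3 => by omega⟩
  choose t ht1 ht2 ht3 ht4 ht5 using key
  refine ⟨X, t, hX', ht1, ?_, ?_, ?_, ?_⟩
  · intro k hk
    obtain ⟨h1, h2, h3⟩ := ridx_spec k hk k le_rfl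
    have h4 := ht2 (ridx k k) h1 (by rw [h2]; exact hk) (by rw [h2, h3])
    rwa [h3] at h4
  · intro j k hk hj
    obtain ⟨h1, h2, h3⟩ := ridx_spec j hj k hk.le
    have h4 := ht3 (ridx j k) h1 (by rw [h2]; exact hj) (by rw [h2, h3]; exact hk)
    rwa [h2, h3] at h4
  · intro i hi
    have h4 := ht4 (28 + i) (by omega) (by omega)
    rwa [Nat.add_sub_cancel_left] at h4
  · intro i hi
    have h4 := ht5 (33 + i) (by omega) (by omega)
    rwa [Nat.add_sub_cancel_left] at h4

end MExt

/-- The unknown bits. -/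
def bt (t : ℕ → ℕ) (i : ℕ) : ℕ := (t (i / 11) >>> (i % 11)) % 2

theorem bt_lt (t : ℕ → ℕ) (i : ℕ) : bt t i < 2 := Nat.mod_lt _ (by norm_num)

/-- The value of a linear form in the unknown bits. -/
def be (t : ℕ → ℕ) (x : ℕ) : ℕ := beta (bt t) B 0 x

theorem be_lt (t : ℕ → ℕ) (x : ℕ) : be t x < 2 := beta_lt (bt_lt t) _ _ _

theorem be_xor (t : ℕ → ℕ) (x y : ℕ) : be t (x ^^^ y) = be t x ^^^ be t y := beta_xor _ _ _ _ _

theorem be_zero (t : ℕ → ℕ) : be t 0 = 0 := beta_zero _ _ _

/-- The value of a packed symbolic mask. -/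
def ev (t : ℕ → ℕ) (s : ℕ) : ℕ := evP (be t) 11 s

theorem ev_lt (t : ℕ → ℕ) (s : ℕ) : ev t s < 2048 := evP_lt (be_lt t) 11 s

theorem ev_xor (t : ℕ → ℕ) (s u : ℕ) : ev t (s ^^^ u) = ev t s ^^^ ev t u :=
  evP_xor (be_lt t) (be_xor t) 11 s u

theorem ev_zero (t : ℕ → ℕ) : ev t 0 = 0 := evP_zero (be_zero t) 11

/-- The symbolic mask with value `t r`. -/
def tl (r : ℕ) : ℕ := S1 <<< (11 * r)

theorem ev_tl (t : ℕ → ℕ) {r : ℕ} (hr : r < 37) (ht : t r < 2048) : ev t (tl r) = t r := by
  unfold tl
  rw [S1_eq, Nat.shiftLeft_eq, mul_comm, ← dg_shift]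
  unfold ev
  have h1 := evP_dg (β := be t) 11 (11 * r) (by unfold B; omega) (t r) 0 (fun k hk => by
    unfold be
    rw [beta_two_pow _ _ _ _ (by unfold B; omega)]
    unfold bt
    rw [Nat.zero_add, Nat.zero_add, show (11 * r + k) / 11 = r by omega,
      show (11 * r + k) % 11 = k by omega])
  rw [h1, Nat.shiftRight_zero]
  exact Nat.mod_eq_of_lt ht

theorem tau_eq (j k : ℕ) : tau j k = tl (ridx j k) := rfl

namespace Lifts

variable {X : ℕ → N} {t : ℕ → ℕ} {sp : ℕ → List ℕ}

/-- Conjugation on symbolic masks. -/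
theorem conj_C (h : MExt f c cols) (hsp : ∀ k, k < 9 → sp k = (cols k).map (spread 11)) {k : ℕ}
    (hk : k < 9) {n : N} (hn : f n = el k) (s : ℕ) :
    n * c (ev t s) * n⁻¹ = c (ev t (actS (sp k) s)) := by
  rw [h.act k hk n hn _ (ev_lt t s), hsp k hk]
  unfold ev
  rw [evP_actS (be_lt t) (be_xor t) (be_zero t) 11 (cols k) s (h.lt k hk), h.len k hk]

theorem sys (h : MExt f c cols) (hsp : ∀ k, k < 9 → sp k = (cols k).map (spread 11))
    (H : Lifts f c X t) : Sys X (fun s => c (ev t s)) cj tau (fun k s => actS (sp k) s) where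
  xor a b := by
    show c (ev t (a ^^^ b)) = c (ev t a) * c (ev t b)
    rw [ev_xor, h.xor _ _ (ev_lt t a) (ev_lt t b)]
  act k hk s := by
    have h1 : f (X k)⁻¹ = el k := by
      rw [map_inv, H.fX k (by omega)]
      exact inv_eq_of_mul_eq_one_right (el_sq hk)
    have h2 := conj_C (t := t) h hsp (by omega) h1 s
    show c (ev t s) * X k = X k * c (ev t (actS (sp k) s))
    rw [← h2]
    group
  sq k hk := by
    show X k * X k = c (ev t (tau k k))
    rw [tau_eq, ev_tl t (by have := (ridx_spec k hk k le_rfl).1; omega) (H.lt _), H.sq k hk]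
  conj j k hk hj := by
    show X j * X k = X k * (pw X 7 0 (cj j k) * c (ev t (tau j k)))
    rw [tau_eq, ev_tl t (by have := (ridx_spec j hj k hk.le).1; omega) (H.lt _), H.conj j k hk hj]

end Lifts

end

end Cfsg.Agent.H188.Setup
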