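import Cfsg.Agent.H188.Setup
import Cfsg.Agent.Solvable.Gaschutz
import Cfsg.Agent.SporadicA.MathieuRecog

/-!
# The splitting criterion (helper188)

`Cert cols lam` : a certificate that every extension of `M23` by the module given by `cols` splits, if
the linear form `lam` vanishes at the tails of some lifts.
-/

set_option autoImplicit false

namespace Cfsg.Agent.H188.Split

open Cfsg Cfsg.Agent.H188.Coll Cfsg.Agent.H188.Lin Cfsg.Agent.H188.Tab Cfsg.Agent.H188.Setup

/-! ### The checks -/

/-- multiplication of symbolic normal forms -/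
def mulD (sp : ℕ → List ℕ) : ℕ × ℕ → ℕ × ℕ → Option (ℕ × ℕ) :=
  mulF cj tau (fun k s => actS (sp k) s) 8

section checks

variable (m : ℕ × ℕ → ℕ × ℕ → Option (ℕ × ℕ))

/-- The normal form of a word. -/
def wordN (L : List (ℕ × ℕ)) : List ℕ → ℕ × ℕ → Option (ℕ × ℕ)
  | [], cur => some cur
  | i :: w, cur => (m cur (L.getD i (0, 0))).bind (wordN L w)

/-- The quotient of two words with the same image. -/
def relw (L : List (ℕ × ℕ)) (w1 w2 : List ℕ) : Option ℕ :=
  (wordN m L w1 (0, 0)).bind fun a => (wordN m L w2 (0, 0)).bind fun b =>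
    cond (Nat.beq a.1 b.1) (some (a.2 ^^^ b.2)) none

/-- The consistency condition given by three generators. -/
def trip (i j k : ℕ) : Option ℕ :=
  (m (2 ^ i, 0) (2 ^ j, 0)).bind fun ij => (m ij (2 ^ k, 0)).bind fun l =>
    (m (2 ^ j, 0) (2 ^ k, 0)).bind fun jk => (m (2 ^ i, 0) jk).bind fun r =>
      cond (Nat.beq l.1 r.1) (some (l.2 ^^^ r.2)) none

/-- The stability condition given by a relation. -/
def stab (act : ℕ → ℕ) (LY LZ : List (ℕ × ℕ)) (w1 w2 : List ℕ) : Option ℕ :=
  (relw m LY w1 w2).bind fun u => (relw m LZ w1 w2).bind fun v => some (v ^^^ act u)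

/-- Whether `o` is `some d`. -/
def isS (o : Option ℕ) (d : ℕ) : Bool :=
  match o with
  | some x => Nat.beq x d
  | none => false

theorem isS_eq {o : Option ℕ} {d : ℕ} (h : isS o d = true) : o = some d := by
  cases o with
  | none => cases h
  | some x => rw [Nat.eq_of_beq_eq_true h]

/-- Check of the consistency conditions. -/
def chkT : List (ℕ × ℕ × ℕ) → List ℕ → Bool
  | [], [] => true
  | t :: ts, d :: ds => isS (trip m t.1 t.2.1 t.2.2) d && chkT ts ds
  | _, _ => false

/-- Check of the stability conditions. -/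
def chkS (act : ℕ → ℕ) (LY LZ : List (ℕ × ℕ)) : List (List ℕ × List ℕ) → List ℕ → Bool
  | [], [] => true
  | t :: ts, d :: ds => isS (stab m act LY LZ t.1 t.2) d && chkS act LY LZ ts ds
  | _, _ => false

/-- The digits of the members of a list with given numbers. -/
def kf : List ℕ → List (List ℕ) → List ℕ
  | d :: ds, js :: jss => js.map (digit d) ++ kf ds jss
  | _, _ => []

/-- Equality of lists. -/
def leq : List ℕ → List ℕ → Bool
  | [], [] => true
  | a :: as, b :: bs => Nat.beq a b && leq as bs
  | _, _ => false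

theorem leq_eq : ∀ {a b : List ℕ}, leq a b = true → a = b
  | [], [], _ => rfl
  | a :: as, b :: bs, h => by
    unfold leq at h
    rw [Bool.and_eq_true] at h
    rw [Nat.eq_of_beq_eq_true h.1, leq_eq h.2]
  | [], _ :: _, h => by cases h
  | _ :: _, [], h => by cases h

/-- The digits of `d` from number `j` on are the given combinations of `K`. -/
def chkD (K : List ℕ) (d : ℕ) : List ℕ → ℕ → Bool
  | [], j => Nat.beq j 11
  | a :: as, j => Nat.beq (xsel K a) (digit d j) && chkD K d as (j + 1)

/-- The list of the numbers of the bits of `e`. -/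
def bitsL : ℕ → ℕ → ℕ → List ℕ
  | 0, _, _ => []
  | n + 1, k, e => cond (tb e k) (k :: bitsL n (k + 1) e) (bitsL n (k + 1) e)

/-- Check of a relation of the corrected lifts. -/
def chkF (L : List (ℕ × ℕ)) (K : List ℕ) (masks : List (List ℕ)) (j k : ℕ) : Bool :=
  match relw m L [j, k] (cond (Nat.beq j k) [] (k :: bitsL 7 0 (cj j k))) with
  | some d => seqN d fun d => chkD K d (masks.getD (ridx j k) []) 0
  | none => false

end checks

/-- The triples for the consistency conditions. -/
def trips : List (ℕ × ℕ × ℕ) := [(0, 0, 0), (1, 1, 0), (1, 0, 0), (2, 1, 0), (3, 1, 0), (4, 1, 0), (5, 1, 0), (6, 1, 0), (2, 2, 0), (2, 0, 0), (3, 2, 0), (4, 2, 0), (5, 2, 0), (6, 2, 0), (3, 3, 0), (3, 0, 0), (4, 3, 0), (5, 3, 0), (6, 3, 0), (4, 4, 0), (4, 0, 0), (5, 4, 0), (6, 4, 0), (5, 5, 0), (5, 0, 0), (6, 5, 0), (6, 6, 0), (6, 0, 0), (1, 1, 1), (2, 2, 1), (2, 1, 1), (3, 2, 1), (4, 2, 1), (5, 2, 1), (6, 2, 1), (3, 3, 1), (3, 1, 1), (4, 3, 1), (5, 3, 1), (6, 3, 1), (4, 4, 1), (4, 1, 1), (5, 4, 1), (6, 4, 1), (5, 5, 1), (5, 1, 1),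 (6, 5, 1), (6, 6, 1), (6, 1, 1), (2, 2, 2), (3, 3, 2), (3, 2, 2), (4, 3, 2), (5, 3, 2), (6, 3, 2), (4, 4, 2), (4, 2, 2), (5, 4, 2), (6, 4, 2), (5, 5, 2), (5, 2, 2), (6, 5, 2), (6, 6, 2), (6, 2, 2), (3, 3, 3), (4, 4, 3), (4, 3, 3), (5, 4, 3), (6, 4, 3), (5, 5, 3), (5, 3, 3), (6, 5, 3), (6, 6, 3), (6, 3, 3), (4, 4, 4), (5, 5, 4), (5, 4, 4), (6, 5, 4), (6, 6, 4), (6, 4, 4), (5, 5, 5), (6, 6, 5), (6, 5, 5), (6, 6, 6)]

/-- The relations for the first stability condition. -/
def relA : List (List ℕ × List ℕ) := [([0, 0], []), ([1, 1], []), ([2, 2], []), ([3, 3], []), ([4, 4], []), ([1, 0], [0, 1]), ([2, 0], [0, 2, 3]), ([3, 0], [0, 3]), ([4, 0], [0, 4]), ([2, 1], [1, 2, 3, 4]), ([3, 1], [1, 3]), ([4, 1], [1, 4]), ([3, 2], [2, 3]), ([4, 2], [2, 4]), ([4, 3], [3, 4])]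
/-- The relations for the second stability condition. -/
def relB : List (List ℕ × List ℕ) := [([0, 0], []), ([1, 1], []), ([2, 2], []), ([3, 3], []), ([1, 0], [0, 1]), ([2, 0], [0, 2]), ([3, 0], [0, 3]), ([2, 1], [1, 2]), ([3, 1], [1, 3]), ([3, 2], [2, 3])]

def LYA : List (ℕ × ℕ) := [(yA 0, 0), (yA 1, 0), (yA 2, 0), (yA 3, 0), (yA 4, 0)]
def LZA : List (ℕ × ℕ) := [(zA 0, tl 28), (zA 1, tl 29), (zA 2, tl 30), (zA 3, tl 31), (zA 4, tl 32)]
def LYB : List (ℕ × ℕ) := [(yB 0, 0), (yB 1, 0), (yB 2, 0), (yB 3, 0)]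
def LZB : List (ℕ × ℕ) := [(zB 0, tl 33), (zB 1, tl 34), (zB 2, tl 35), (zB 3, tl 36)]

/-- The corrected lifts. -/
def nfs (ms : ℕ → ℕ) : List (ℕ × ℕ) :=
  [(1, ms 0), (2, ms 1), (4, ms 2), (8, ms 3), (16, ms 4), (32, ms 5), (64, ms 6)]

/-- A certificate. -/
structure Cert (cols : ℕ → List ℕ) (lam : ℕ) where
  sp : ℕ → List ℕ
  hsp : ∀ k, k < 9 → sp k = (cols k).map (spread 11)
  DT : List ℕ
  DA : List ℕ
  DB : List ℕ
  J : List (List ℕ)
  K : List ℕ
  ms : ℕ → ℕ
  masks : List (List ℕ)
  hT : chkT (mulD sp) trips DT = true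
  hA : chkS (mulD sp) (fun s => actS (sp 7) s) LYA LZA relA DA = true
  hB : chkS (mulD sp) (fun s => actS (sp 8) s) LYB LZB relB DB = true
  hJ : (J.all fun js => js.all fun j => Nat.blt j 11) = true
  hK : leq (kf (DT ++ (DA ++ DB)) J) K = true
  hF : ∀ j, j < 7 → ∀ k, k ≤ j → chkF (mulD sp) (nfs ms) (K ++ [lam]) masks j k = true

/-! ### Soundness -/

section sound

variable {N : Type*} [Group N] {f : N →* Spor.M23} {c X : ℕ → N} {t : ℕ → ℕ} {cols : ℕ → List ℕ}
  {C : ℕ → N} {tau' sa : ℕ → ℕ → ℕ}

theorem pw_two_pow (X : ℕ → N) {k : ℕ} (hk : k < 7) : pw X 7 0 (2 ^ k) = X k := by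
  have h5 := pw_add X k (7 - k) 0 (2 ^ k)
  rw [show k + (7 - k) = 7 by omega, Nat.zero_add, show 7 - k = (6 - k) + 1 by omega] at h5
  rw [h5, pw_one_of X k 0 (fun i _ hi => by
    rw [tb_eq, Nat.testBit_two_pow]; exact decide_eq_false (by omega)), one_mul]
  show cond (tb (2 ^ k) k) (X k) 1 * pw X (6 - k) (k + 1) (2 ^ k) = X k
  rw [pw_one_of X (6 - k) (k + 1) (fun i hi _ => by
    rw [tb_eq, Nat.testBit_two_pow]; exact decide_eq_false (by omega)), mul_one, tb_eq,
    Nat.testBit_two_pow, decide_eq_true rfl]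
  rfl

theorem val_gen (H : Sys X C cj tau' sa) {k : ℕ} (hk : k < 7) : val X C (2 ^ k, 0) = X k := by
  unfold val
  rw [pw_two_pow X hk, H.C_zero, mul_one]

theorem C_of_eq (H : Sys X C cj tau' sa) {x : N} {a b : ℕ} (h : x * C a = x * C b) : C (a ^^^ b) = 1 := by
  rw [H.xor, mul_left_cancel h, ← H.xor, Nat.xor_self, H.C_zero]

/-- The product of a word. -/
def pr (X C : ℕ → N) (L : List (ℕ × ℕ)) (w : List ℕ) : N :=
  (w.map fun i => val X C (L.getD i (0, 0))).prod

theorem wordN_sound {m : ℕ × ℕ → ℕ × ℕ → Option (ℕ × ℕ)}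
    (hm : ∀ a b r, m a b = some r → val X C a * val X C b = val X C r) (L : List (ℕ × ℕ)) :
    ∀ (w : List ℕ) (cur r : ℕ × ℕ), wordN m L w cur = some r →
      val X C cur * pr X C L w = val X C r
  | [], cur, r, h => by
    unfold wordN at h
    rw [Option.some.inj h]
    exact mul_one _
  | i :: w, cur, r, h => by
    unfold wordN at h
    obtain ⟨r1, h1, h2⟩ := Option.bind_eq_some_iff.1 h
    have h3 := hm _ _ _ h1
    have h4 := wordN_sound hm L w r1 r h2
    unfold pr at *
    rw [List.map_cons, List.prod_cons, ← h4, ← h3, mul_assoc]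

theorem relw_sound (H : Sys X C cj tau' sa) {m : ℕ × ℕ → ℕ × ℕ → Option (ℕ × ℕ)}
    (hm : ∀ a b r, m a b = some r → val X C a * val X C b = val X C r) {L : List (ℕ × ℕ)}
    {w1 w2 : List ℕ} {d : ℕ} (h : relw m L w1 w2 = some d) :
    pr X C L w1 = pr X C L w2 * C d := by
  unfold relw at h
  obtain ⟨a, h1, h'⟩ := Option.bind_eq_some_iff.1 h
  obtain ⟨b, h2, h3⟩ := Option.bind_eq_some_iff.1 h'
  cases hc : Nat.beq a.1 b.1 with
  | false => rw [hc] at h3; cases h3
  | true =>
    rw [hc, cond_true] at h3
    have hd := Option.some.inj h3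
    have hab := Nat.eq_of_beq_eq_true hc
    have e1 := wordN_sound hm L w1 _ _ h1
    have e2 := wordN_sound hm L w2 _ _ h2
    have e0 : val X C (0, 0) = 1 := by
      unfold val
      rw [pw_zero, H.C_zero, one_mul]
    rw [e0, one_mul] at e1 e2
    rw [e1, e2, ← hd]
    unfold val
    rw [hab, mul_assoc, ← H.xor, Nat.xor_comm a.2 b.2, ← Nat.xor_assoc, Nat.xor_self, Nat.zero_xor]

theorem trip_sound (H : Sys X C cj tau' sa) {m : ℕ × ℕ → ℕ × ℕ → Option (ℕ × ℕ)}
    (hm : ∀ a b r, m a b = some r → val X C a * val X C b = val X C r) {i j k d : ℕ}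
    (h : trip m i j k = some d) : C d = 1 := by
  unfold trip at h
  obtain ⟨ij, h1, h⟩ := Option.bind_eq_some_iff.1 h
  obtain ⟨l, h2, h⟩ := Option.bind_eq_some_iff.1 h
  obtain ⟨jk, h3, h⟩ := Option.bind_eq_some_iff.1 h
  obtain ⟨r, h4, h⟩ := Option.bind_eq_some_iff.1 h
  cases hc : Nat.beq l.1 r.1 with
  | false => rw [hc] at h; cases h
  | true =>
    rw [hc, cond_true] at h
    have hd := Option.some.inj h
    have hab := Nat.eq_of_beq_eq_true hc
    have e1 := hm _ _ _ h1
    have e2 := hm _ _ _ h2
    have e3 := hm _ _ _ h3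
    have e4 := hm _ _ _ h4
    have e5 : val X C l = val X C r := by
      rw [← e2, ← e4, ← e1, ← e3, mul_assoc]
    unfold val at e5
    rw [hab] at e5
    rw [← hd]
    exact C_of_eq H e5

theorem conj_pr {LY LZ : List (ℕ × ℕ)} {G : N}
    (hG : ∀ i, G * val X C (LY.getD i (0, 0)) * G⁻¹ = val X C (LZ.getD i (0, 0))) :
    ∀ w : List ℕ, G * pr X C LY w * G⁻¹ = pr X C LZ w
  | [] => by
    show G * 1 * G⁻¹ = 1
    rw [mul_one, mul_inv_cancel]
  | i :: w => by
    have h := conj_pr hG w
    unfold pr at *
    rw [List.map_cons, List.prod_cons, List.map_cons, List.prod_cons, ← h, ← hG i]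
    group

theorem stab_sound (H : Sys X C cj tau' sa) {m : ℕ × ℕ → ℕ × ℕ → Option (ℕ × ℕ)}
    (hm : ∀ a b r, m a b = some r → val X C a * val X C b = val X C r) {LY LZ : List (ℕ × ℕ)} {G : N}
    (hG : ∀ i, G * val X C (LY.getD i (0, 0)) * G⁻¹ = val X C (LZ.getD i (0, 0))) {act : ℕ → ℕ}
    (hact : ∀ s, G * C s * G⁻¹ = C (act s)) {w1 w2 : List ℕ} {d : ℕ}
    (h : stab m act LY LZ w1 w2 = some d) : C d = 1 := by
  unfold stab at h
  obtain ⟨u, h1, h⟩ := Option.bind_eq_some_iff.1 h
  obtain ⟨v, h2, h⟩ := Option.bind_eq_some_iff.1 h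
  have hd := Option.some.inj h
  have e1 := relw_sound H hm h1
  have e2 := relw_sound H hm h2
  rw [← conj_pr hG w1, ← conj_pr hG w2, e1] at e2
  have e3 : G * (pr X C LY w2 * C u) * G⁻¹ = G * pr X C LY w2 * G⁻¹ * (G * C u * G⁻¹) := by group
  rw [e3, hact] at e2
  rw [← hd]
  exact C_of_eq H e2.symm

theorem chkT_sound (H : Sys X C cj tau' sa) {m : ℕ × ℕ → ℕ × ℕ → Option (ℕ × ℕ)}
    (hm : ∀ a b r, m a b = some r → val X C a * val X C b = val X C r) :
    ∀ (ts : List (ℕ × ℕ × ℕ)) (ds : List ℕ), chkT m ts ds = true → ∀ d ∈ ds, C d = 1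
  | [], [], _, d, hd => absurd hd List.not_mem_nil
  | t :: ts, d :: ds, h, d', hd => by
    unfold chkT at h
    rw [Bool.and_eq_true] at h
    rcases List.mem_cons.1 hd with rfl | hd
    · exact trip_sound H hm (isS_eq h.1)
    · exact chkT_sound H hm ts ds h.2 d' hd
  | [], _ :: _, h, _, _ => by cases h
  | _ :: _, [], h, _, _ => by cases h

theorem chkS_sound (H : Sys X C cj tau' sa) {m : ℕ × ℕ → ℕ × ℕ → Option (ℕ × ℕ)}
    (hm : ∀ a b r, m a b = some r → val X C a * val X C b = val X C r) {LY LZ : List (ℕ × ℕ)} {G : N}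
    (hG : ∀ i, G * val X C (LY.getD i (0, 0)) * G⁻¹ = val X C (LZ.getD i (0, 0))) {act : ℕ → ℕ}
    (hact : ∀ s, G * C s * G⁻¹ = C (act s)) :
    ∀ (ts : List (List ℕ × List ℕ)) (ds : List ℕ), chkS m act LY LZ ts ds = true → ∀ d ∈ ds, C d = 1
  | [], [], _, d, hd => absurd hd List.not_mem_nil
  | t :: ts, d :: ds, h, d', hd => by
    unfold chkS at h
    rw [Bool.and_eq_true] at h
    rcases List.mem_cons.1 hd with rfl | hd
    · exact stab_sound H hm hG hact (isS_eq h.1)
    · exact chkS_sound H hm hG hact ts ds h.2 d' hd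
  | [], _ :: _, h, _, _ => by cases h
  | _ :: _, [], h, _, _ => by cases h

theorem kf_mem : ∀ (D : List ℕ) (J : List (List ℕ)) (x : ℕ), x ∈ kf D J →
    ∃ d ∈ D, ∃ js ∈ J, ∃ j ∈ js, x = digit d j
  | [], _, x, hx => absurd hx List.not_mem_nil
  | _ :: _, [], x, hx => absurd hx List.not_mem_nil
  | d :: ds, js :: jss, x, hx => by
    unfold kf at hx
    rcases List.mem_append.1 hx with h | h
    · obtain ⟨j, hj, rfl⟩ := List.mem_map.1 h
      exact ⟨d, List.mem_cons_self, js, List.mem_cons_self, j, hj, rfl⟩
    · obtain ⟨d', h1, js', h2, j, h3, h4⟩ := kf_mem ds jss x h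
      exact ⟨d', List.mem_cons_of_mem _ h1, js', List.mem_cons_of_mem _ h2, j, h3, h4⟩

theorem chkD_sound {K : List ℕ} (hK : ∀ x ∈ K, be t x = 0) {d : ℕ} : ∀ (as : List ℕ) (j : ℕ),
    chkD K d as j = true → ∀ i, j ≤ i → i < 11 → be t (digit d i) = 0
  | [], j, h, i, h1, h2 => by
    unfold chkD at h
    have := Nat.eq_of_beq_eq_true h
    omega
  | a :: as, j, h, i, h1, h2 => by
    unfold chkD at h
    rw [Bool.and_eq_true] at h
    rcases Nat.eq_or_lt_of_le h1 with rfl | h3
    · rw [← Nat.eq_of_beq_eq_true h.1]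
      exact xsel_zero (be_xor t) (be_zero t) K a hK
    · exact chkD_sound hK as (j + 1) h.2 i h3 h2

theorem pr_bitsL (Y : ℕ → N) {L : List (ℕ × ℕ)} (hL : ∀ k, k < 7 → val X C (L.getD k (0, 0)) = Y k) :
    ∀ (n k e : ℕ), k + n ≤ 7 → pr X C L (bitsL n k e) = pw Y n k e
  | 0, _, _, _ => rfl
  | n + 1, k, e, h => by
    have h1 := pr_bitsL Y hL n (k + 1) e (by omega)
    show pr X C L (cond (tb e k) (k :: bitsL n (k + 1) e) (bitsL n (k + 1) e)) =
      cond (tb e k) (Y k) 1 * pw Y n (k + 1) e
    cases tb e k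
    · rw [cond_false, cond_false, one_mul]
      exact h1
    · rw [cond_true, cond_true, ← h1, ← hL k (by omega)]
      rfl

/-- The relations of the corrected lifts. -/
structure Exact (f : N →* Spor.M23) (Y : ℕ → N) : Prop where
  fY : ∀ k, k < 7 → f (Y k) = el k
  sq : ∀ k, k < 7 → Y k * Y k = 1
  conj : ∀ j k, k < j → j < 7 → Y j * Y k = Y k * pw Y 7 0 (cj j k)

theorem exact_of_cert {lam : ℕ} (h : MExt f c cols) (D : Cert cols lam) (H : Lifts f c X t)
    (hlam : be t lam = 0) : ∃ Y : ℕ → N, Exact f Y := by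
  obtain ⟨sp, hsp, DT, DA, DB, J, K, ms, masks, hT, hA, hB, hJ, hK, hF⟩ := D
  have S := H.sys h hsp
  have hm : ∀ a b r, mulD sp a b = some r → val X (fun s => c (ev t s)) a * val X (fun s => c (ev t s)) b =
      val X (fun s => c (ev t s)) r := fun a b r => S.mulF_sound 8 a b r
  have hev : ∀ d, c (ev t d) = 1 → ev t d = 0 := fun d => h.inj _ (ev_lt t d)
  have h1 : ∀ d ∈ DT, c (ev t d) = 1 := chkT_sound S hm _ _ hT
  have h2 : ∀ d ∈ DA, c (ev t d) = 1 := by
    refine chkS_sound (G := X 7) S hm (fun i => ?_) (fun s => ?_) _ _ hA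
    · have key : ∀ i, i < 5 → X 7 * val X (fun s => c (ev t s)) (yA i, 0) * (X 7)⁻¹ =
          val X (fun s => c (ev t s)) (zA i, tl (28 + i)) := by
        intro i hi
        unfold val
        dsimp only
        rw [ev_zero, h.c_zero, mul_one, H.cA i hi, mul_inv_cancel_right,
          ev_tl t (by omega) (H.lt _)]
      rcases Nat.lt_or_ge i 5 with hi | hi
      · interval_cases i
        · exact key 0 (by norm_num)
        · exact key 1 (by norm_num)
        · exact key 2 (by norm_num)
        · exact key 3 (by norm_num)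
        · exact key 4 (by norm_num)
      · rw [List.getD_eq_default _ _ (by exact hi), List.getD_eq_default _ _ (by exact hi)]
        unfold val
        dsimp only
        rw [pw_zero, ev_zero, h.c_zero, mul_one, mul_one, mul_inv_cancel]
    · exact Lifts.conj_C h hsp (by norm_num) (H.fX 7 (by norm_num)) s
  have h3 : ∀ d ∈ DB, c (ev t d) = 1 := by
    refine chkS_sound (G := X 8) S hm (fun i => ?_) (fun s => ?_) _ _ hB
    · have key : ∀ i, i < 4 → X 8 * val X (fun s => c (ev t s)) (yB i, 0) * (X 8)⁻¹ =
          val X (fun s => c (ev t s)) (zB i, tl (33 + i)) := by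
        intro i hi
        unfold val
        dsimp only
        rw [ev_zero, h.c_zero, mul_one, H.cB i hi, mul_inv_cancel_right,
          ev_tl t (by omega) (H.lt _)]
      rcases Nat.lt_or_ge i 4 with hi | hi
      · interval_cases i
        · exact key 0 (by norm_num)
        · exact key 1 (by norm_num)
        · exact key 2 (by norm_num)
        · exact key 3 (by norm_num)
      · rw [List.getD_eq_default _ _ (by exact hi), List.getD_eq_default _ _ (by exact hi)]
        unfold val
        dsimp only
        rw [pw_zero, ev_zero, h.c_zero, mul_one, mul_one, mul_inv_cancel]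
    · exact Lifts.conj_C h hsp (by norm_num) (H.fX 8 (by norm_num)) s
  have h4 : ∀ x ∈ K ++ [lam], be t x = 0 := by
    intro x hx
    rcases List.mem_append.1 hx with hx | hx
    · rw [← leq_eq hK] at hx
      obtain ⟨d, hd, js, hjs, j, hj, rfl⟩ := kf_mem _ _ _ hx
      have h5 : ev t d = 0 := by
        apply hev
        rcases List.mem_append.1 hd with hd | hd
        · exact h1 d hd
        · rcases List.mem_append.1 hd with hd | hd
          · exact h2 d hd
          · exact h3 d hd
      rw [List.all_eq_true] at hJ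
      have h6 := hJ js hjs
      rw [List.all_eq_true] at h6
      exact digit_of_evP_eq_zero (be_lt t) 11 d h5 j (Nat.blt_eq.mp (h6 j hj))
    · rw [List.mem_singleton.1 hx]
      exact hlam
  -- the corrected lifts
  obtain ⟨Y, hY⟩ : ∃ Y : ℕ → N, ∀ k, Y k = val X (fun s => c (ev t s)) ((nfs ms).getD k (0, 0)) :=
    ⟨_, fun _ => rfl⟩
  have hYX : ∀ k, k < 7 → Y k = X k * c (ev t (ms k)) := by
    have key : ∀ k, k < 7 → val X (fun s => c (ev t s)) (2 ^ k, ms k) = X k * c (ev t (ms k)) := by
      intro k hk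
      unfold val
      rw [pw_two_pow X hk]
    intro k hk
    rw [hY]
    interval_cases k
    · exact key 0 (by norm_num)
    · exact key 1 (by norm_num)
    · exact key 2 (by norm_num)
    · exact key 3 (by norm_num)
    · exact key 4 (by norm_num)
    · exact key 5 (by norm_num)
    · exact key 6 (by norm_num)
  have hrel : ∀ j, j < 7 → ∀ k, k ≤ j →
      Y j * Y k = pr X (fun s => c (ev t s)) (nfs ms) (cond (Nat.beq j k) [] (k :: bitsL 7 0 (cj j k))) := by
    intro j hj k hk
    have h5 := hF j hj k hk
    unfold chkF at h5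
    split at h5
    · rename_i d hd
      rw [seqN_eq] at h5
      have h6 := chkD_sound h4 _ _ h5
      have h7 : ev t d = 0 := evP_eq_zero_of_digit 11 d (fun i hi => h6 i (Nat.zero_le _) hi)
      have h8 := relw_sound S hm hd
      rw [h7, h.c_zero, mul_one] at h8
      rw [← h8, hY j, hY k]
      unfold pr
      rw [List.map_cons, List.map_cons, List.map_nil, List.prod_cons, List.prod_cons, List.prod_nil,
        mul_one]
    · cases h5
  refine ⟨Y, fun k hk => ?_, fun k hk => ?_, fun j k hk hj => ?_⟩
  · rw [hYX k hk, map_mul, H.fX k (by omega), h.map_c (ev_lt t _), mul_one]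
  · rw [hrel k hk k le_rfl, Nat.beq_refl]
    rfl
  · have hne : Nat.beq j k = false := by
      rw [Bool.eq_false_iff]
      intro h5
      have := Nat.eq_of_beq_eq_true h5
      omega
    rw [hrel j hj k hk.le, hne, cond_false, ← pr_bitsL Y (fun i _ => (hY i).symm) 7 0 (cj j k) (by norm_num),
      hY k]
    rfl

end sound

/-! ### The complement -/

/-- The collector without tails. -/
def mul0 : ℕ × ℕ → ℕ × ℕ → Option (ℕ × ℕ) := mulF cj (fun _ _ => 0) (fun _ s => s) 8

/-- Whether `o` is not `none`. -/
def isSm (o : Option (ℕ × ℕ)) : Bool :=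
  match o with
  | some _ => true
  | none => false

theorem check_closed : ((List.range 128).all fun e => (List.range 7).all fun k =>
    isSm (mul0 (e, 0) (2 ^ k, 0))) = true := by decide +kernel

/-- The tables of the elements of the Sylow 2-subgroup. -/
def tabs : List ℕ := [984818244535754528103549039458486304, 984681183215464407567502097537796132, 967739223789245171407146504132003936, 977996582025554627777334876693367012, 974394222122509349096603230276913536, 973903537658020515042258106877839748, 978241746458226444833005867658250464, 967690975370059035139910993210378340, 984286808134369956147200099073951776, 984763439340446149511934497773881380, 967610672575137207262829193175173216, 978116802134836200857752700952709348, 974297280740529867154553532710422912, 974429121233824864089019473742563716, 978086364944178362583403112838924512, 967864188830015466482832227103606884, 984314827592033236074561707266279456, 984634424208374560522616205749127204, 967973658722934229780207008553011296, 978358371432905748051317506307524836,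 974249592311182540968361459414796672, 973930273564967735286401752613161348, 978019403413903928750478786090731744, 967635285167250633617834623984306276, 984085346507332711729061765015308320, 984251393722308248905921044175980580, 967125566930467827837797122833909856, 977514909381736567701820746389424356, 973850653560145317888418355119524224, 973703602526602136305114520674896260, 977953517304246796417823828485966048, 967573039723448353676298843756922980, 976539006901119804582877792120867232, 972959156190082894908441714460592644, 983553042649537266979977019204733184, 979658502947749858837011740137884292, 980747918883362939279568022996060640, 975241249511671250685286424571972196, 981940260449521198767676458684353088, 966363686660985927696895635396070052, 976299474053297666856891851934960032, 972552460739532041589272975786969604, 982707562834134058903519238287788288, 978808393391049429168063045884611204, 980357131697782997423365752068114912, 974998906617514187596917361420274276, 981851500381476965459344383260854848, 966271285927086841998007332548086436,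 977026988744423368276210202915735968, 973014859584682763856501331483396612, 983310533639237425467367205107697920, 979299523741402972802781492656769668, 980867535382047475368238681751259616, 975203668941153671988875640252238436, 982131455994695655147211085043862080, 966396263827212395439862179835546276, 976485975948453075350529809943136672, 973073292289001333393821161686075908, 983185545139264439268217173276559616, 979412541748528089469057865500789380, 980780647039668842065266249828960736, 975715006766774231784118279559481956, 981954705855957462947217120535448128, 966539955821786543100892946469685924, 957028651706772161000819827381930688, 957519375938838088807530404237576900, 959823939071994704882402347086186784, 965143114895084889872592439402498596, 971700361611140356443901154824849856, 971837383163853382362891515622361540, 965094429999691373696704173595626016, 960068667028459141164729455499217188, 957542007297248920010115103129176768, 957415232453384610500559878230346436, 959941784889615577885410423824484640, 965012070546962663138253135000144420,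 971775494860883810216535440629139904, 971293798005376929453911897773541828, 965241524974608084420756305753803296, 959887285871724901700582544513567012, 956824702826004317775029190041176768, 956976657029496787623430072113367748, 959335964424224695726197401107040544, 964527785773652819680156495880030756, 971255513506036015478465574124259776, 971103281432417027728661028003908036, 964984641391227614888686401624836640, 959792225578481268660952098836810020, 957071630895726985955750286280886976, 957380941050149166490830848809110212, 960193652417878267864209627409713440, 965380725183655606820930650812975652, 971675785019895014893949707195320768, 971347478684040478738292127939856836, 965057467160009071884247896762583584, 959861529523761435778006662521653540, 972388651884523380316328689283009024, 976440053415394083422529019848493476, 965823287528192349793434105431984800, 981400019806751603756219711164418628, 975141542956546445243913353447475808, 980176661508404339541739571299748324, 979236149903553240597937305795791488, 983130531115316664984206674751883524,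 972646265543253330246274377735997952, 976868636226416673252854667567303076, 966679472740082648268107204197255840, 982260953602292687227708668834744900, 975554138274362414526437119767415392, 980437005985233506640945668709583332, 979333196510728844688726087510231680, 983231099545993558952939437966330116, 972608035865708950995068739041659392, 976973827937225363550132373058783652, 966319336252573141206482852107717280, 982012538727179440555580018874059332, 975611404374293057366214537275542112, 980921607903411053474913943822830052, 979377086011165058226242023995148928, 983430085601876472113770602521102596, 973131601676657100828621894395726336, 976894141698320726613488144459467172, 966434728551358957953124459725490848, 981890043361220716949407467741153860, 975676959953849915076739856792259168, 980392743864532641502708653243861476, 979546896490778926506423367340788352, 983279335105824437128602269155461380]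

theorem tabs_eq : leq ((List.range 128).map (pwT 7 0)) tabs = true := by decide +kernel

/-- Whether the members of a list are distinct. -/
def dist : List ℕ → Bool
  | [] => true
  | a :: l => (l.all fun b => !(Nat.beq a b)) && dist l

theorem dist_tabs : dist tabs = true := by decide +kernel

theorem nodup_of_dist : ∀ l : List ℕ, dist l = true → l.Nodup
  | [], _ => List.nodup_nil
  | a :: l, h => by
    unfold dist at h
    rw [Bool.and_eq_true, List.all_eq_true] at h
    refine List.nodup_cons.2 ⟨fun ha => ?_, nodup_of_dist l h.2⟩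
    have := h.1 a ha
    rw [Nat.beq_refl] at this
    cases this

theorem papp_of_isT {g : Spor.M23} {P Q : ℕ} (hP : IsT g P) (hQ : IsT g Q) : ∀ i, i < 24 →
    SporadicA.GolayPerm.papp P i = SporadicA.GolayPerm.papp Q i := by
  intro i hi
  have h1 := hP (SporadicA.GolayBase.pt i)
  have h2 := hQ (SporadicA.GolayBase.pt i)
  rw [SporadicA.GolayBase.idx_pt hi] at h1 h2
  rw [← h1, ← h2]

theorem pcomp_congr {P Q : ℕ} : SporadicA.GolayPerm.pcomp P Q = SporadicA.GolayPerm.pack
    [SporadicA.GolayPerm.papp (SporadicA.GolayPerm.pcomp P Q) 0,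
    SporadicA.GolayPerm.papp (SporadicA.GolayPerm.pcomp P Q) 1,
    SporadicA.GolayPerm.papp (SporadicA.GolayPerm.pcomp P Q) 2,
    SporadicA.GolayPerm.papp (SporadicA.GolayPerm.pcomp P Q) 3,
    SporadicA.GolayPerm.papp (SporadicA.GolayPerm.pcomp P Q) 4,
    SporadicA.GolayPerm.papp (SporadicA.GolayPerm.pcomp P Q) 5,
    SporadicA.GolayPerm.papp (SporadicA.GolayPerm.pcomp P Q) 6,
    SporadicA.GolayPerm.papp (SporadicA.GolayPerm.pcomp P Q) 7,
    SporadicA.GolayPerm.papp (SporadicA.GolayPerm.pcomp P Q) 8,
    SporadicA.GolayPerm.papp (SporadicA.GolayPerm.pcomp P Q) 9,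
    SporadicA.GolayPerm.papp (SporadicA.GolayPerm.pcomp P Q) 10,
    SporadicA.GolayPerm.papp (SporadicA.GolayPerm.pcomp P Q) 11,
    SporadicA.GolayPerm.papp (SporadicA.GolayPerm.pcomp P Q) 12,
    SporadicA.GolayPerm.papp (SporadicA.GolayPerm.pcomp P Q) 13,
    SporadicA.GolayPerm.papp (SporadicA.GolayPerm.pcomp P Q) 14,
    SporadicA.GolayPerm.papp (SporadicA.GolayPerm.pcomp P Q) 15,
    SporadicA.GolayPerm.papp (SporadicA.GolayPerm.pcomp P Q) 16,
    SporadicA.GolayPerm.papp (SporadicA.GolayPerm.pcomp P Q) 17,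
    SporadicA.GolayPerm.papp (SporadicA.GolayPerm.pcomp P Q) 18,
    SporadicA.GolayPerm.papp (SporadicA.GolayPerm.pcomp P Q) 19,
    SporadicA.GolayPerm.papp (SporadicA.GolayPerm.pcomp P Q) 20,
    SporadicA.GolayPerm.papp (SporadicA.GolayPerm.pcomp P Q) 21,
    SporadicA.GolayPerm.papp (SporadicA.GolayPerm.pcomp P Q) 22,
    SporadicA.GolayPerm.papp (SporadicA.GolayPerm.pcomp P Q) 23] := by
  have h5 : ∀ i, i < 24 → SporadicA.GolayPerm.papp (SporadicA.GolayPerm.pcomp P Q) i =
      SporadicA.GolayPerm.papp P (SporadicA.GolayPerm.papp Q i) :=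
    fun i hi => SporadicA.GolayPerm.papp_pcomp P Q hi
  rw [h5 0 (by norm_num), h5 1 (by norm_num), h5 2 (by norm_num), h5 3 (by norm_num),
    h5 4 (by norm_num), h5 5 (by norm_num), h5 6 (by norm_num), h5 7 (by norm_num),
    h5 8 (by norm_num), h5 9 (by norm_num), h5 10 (by norm_num), h5 11 (by norm_num),
    h5 12 (by norm_num), h5 13 (by norm_num), h5 14 (by norm_num), h5 15 (by norm_num),
    h5 16 (by norm_num), h5 17 (by norm_num), h5 18 (by norm_num), h5 19 (by norm_num),
    h5 20 (by norm_num), h5 21 (by norm_num), h5 22 (by norm_num), h5 23 (by norm_num)]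
  rfl

theorem pwT_inj {e e' : ℕ} (h : pw el 7 0 e = pw el 7 0 e') : pwT 7 0 e = pwT 7 0 e' := by
  have h1 := isT_pw 7 0 e (by norm_num)
  have h2 := isT_pw 7 0 e' (by norm_num)
  rw [← h] at h2
  have h3 := papp_of_isT h1 h2
  have h6 : pwT 7 0 e = _ := pcomp_congr
  have h7 : pwT 7 0 e' = _ := pcomp_congr
  rw [h6, h7]
  have h8 : pwT 7 0 e = SporadicA.GolayPerm.pcomp (cond (tb e 0) (tab 0) pone) (pwT 6 1 e) := rfl
  have h9 : pwT 7 0 e' = SporadicA.GolayPerm.pcomp (cond (tb e' 0) (tab 0) pone) (pwT 6 1 e') := rfl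
  rw [h8, h9] at h3
  rw [h3 0 (by norm_num), h3 1 (by norm_num), h3 2 (by norm_num), h3 3 (by norm_num),
    h3 4 (by norm_num), h3 5 (by norm_num), h3 6 (by norm_num), h3 7 (by norm_num),
    h3 8 (by norm_num), h3 9 (by norm_num), h3 10 (by norm_num), h3 11 (by norm_num),
    h3 12 (by norm_num), h3 13 (by norm_num), h3 14 (by norm_num), h3 15 (by norm_num),
    h3 16 (by norm_num), h3 17 (by norm_num), h3 18 (by norm_num), h3 19 (by norm_num),
    h3 20 (by norm_num), h3 21 (by norm_num), h3 22 (by norm_num), h3 23 (by norm_num)]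

theorem pw_el_inj {e e' : ℕ} (he : e < 128) (he' : e' < 128) (h : pw el 7 0 e = pw el 7 0 e') :
    e = e' := by
  have h1 := pwT_inj h
  have h2 := nodup_of_dist _ dist_tabs
  rw [← leq_eq tabs_eq] at h2
  exact List.inj_on_of_nodup_map h2 (List.mem_range.2 he) (List.mem_range.2 he') h1

section group

variable {N : Type*} [Group N] {f : N →* Spor.M23} {Y : ℕ → N}

theorem pw_mod (Y : ℕ → N) (e : ℕ) : pw Y 7 0 (e % 128) = pw Y 7 0 e := by
  apply pw_congr
  intro i _ hi
  rw [tb_eq, tb_eq, show (128 : ℕ) = 2 ^ 7 by norm_num, Nat.testBit_mod_two_pow,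
    decide_eq_true (show i < 7 by omega), Bool.true_and]

theorem Exact.sys0 (H : Exact f Y) : Sys Y (fun _ => (1 : N)) cj (fun _ _ => 0) (fun _ s => s) where
  xor _ _ := (one_mul 1).symm
  act k _ s := by rw [one_mul, mul_one]
  sq k hk := H.sq k hk
  conj j k hk hj := by rw [H.conj j k hk hj, mul_one]

theorem Exact.mul_gen (H : Exact f Y) {e k : ℕ} (he : e < 128) (hk : k < 7) :
    ∃ e', e' < 128 ∧ pw Y 7 0 e * Y k = pw Y 7 0 e' := by
  have h1 := all_spec check_closed he
  have h2 := all_spec h1 hk
  unfold isSm at h2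
  split at h2
  · rename_i r hr
    have h3 := H.sys0.mulF_sound 8 _ _ _ hr
    unfold val at h3
    rw [mul_one, mul_one, mul_one, pw_two_pow Y hk] at h3
    exact ⟨r.1 % 128, Nat.mod_lt _ (by norm_num), by rw [h3, pw_mod]⟩
  · cases h2

/-- The subgroup generated by the corrected lifts. -/
def PP (Y : ℕ → N) : Subgroup N := Subgroup.closure {y | ∃ k, k < 7 ∧ y = Y k}

theorem Exact.mem_PP (H : Exact f Y) {n : N} (hn : n ∈ PP Y) : ∃ e, e < 128 ∧ n = pw Y 7 0 e := by
  unfold PP at hn
  induction hn using Subgroup.closure_induction_right with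
  | one => exact ⟨0, by norm_num, (pw_zero Y 7 0).symm⟩
  | mul_right x _ y hy ih =>
    obtain ⟨e, he, rfl⟩ := ih
    obtain ⟨k, hk, rfl⟩ := hy
    obtain ⟨e', he', h1⟩ := H.mul_gen he hk
    exact ⟨e', he', h1⟩
  | mul_inv_cancel x _ y hy ih =>
    obtain ⟨e, he, rfl⟩ := ih
    obtain ⟨k, hk, rfl⟩ := hy
    rw [inv_eq_of_mul_eq_one_right (H.sq k hk)]
    obtain ⟨e', he', h1⟩ := H.mul_gen he hk
    exact ⟨e', he', h1⟩

theorem pw_mem_PP (Y : ℕ → N) : ∀ (n k e : ℕ), k + n ≤ 7 → pw Y n k e ∈ PP Y
  | 0, _, _, _ => (PP Y).one_mem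
  | n + 1, k, e, h => by
    refine (PP Y).mul_mem ?_ (pw_mem_PP Y n (k + 1) e (by omega))
    cases tb e k
    · exact (PP Y).one_mem
    · exact Subgroup.subset_closure ⟨k, by omega, rfl⟩

theorem Exact.f_pw (H : Exact f Y) (e : ℕ) : f (pw Y 7 0 e) = pw el 7 0 e := by
  rw [map_pw]
  exact pw_congr_X _ _ _ fun i _ hi => H.fY i (by omega)

theorem Exact.inf_ker (H : Exact f Y) : PP Y ⊓ f.ker = ⊥ := by
  rw [eq_bot_iff]
  rintro n ⟨h1, h2⟩
  obtain ⟨e, he, rfl⟩ := H.mem_PP h1
  have h3 : f (pw Y 7 0 e) = 1 := h2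
  rw [H.f_pw] at h3
  rw [pw_el_ne he h3, pw_zero]
  exact Subgroup.mem_bot.2 rfl

theorem Exact.card_map (H : Exact f Y) : Nat.card ((PP Y).map f) = 128 := by
  have h1 : ∀ e : Fin 128, pw el 7 0 (e : ℕ) ∈ (PP Y).map f := fun e =>
    ⟨pw Y 7 0 e, pw_mem_PP Y 7 0 e (by norm_num), H.f_pw e⟩
  have h2 : Function.Bijective (fun e : Fin 128 => (⟨pw el 7 0 (e : ℕ), h1 e⟩ : (PP Y).map f)) := by
    constructor
    · intro e e' h
      exact Fin.ext (pw_el_inj e.2 e'.2 (congrArg Subtype.val h))
    · rintro ⟨x, n, hn, rfl⟩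
      obtain ⟨e, he, rfl⟩ := H.mem_PP hn
      exact ⟨⟨e, he⟩, Subtype.ext (H.f_pw e).symm⟩
  rw [← Nat.card_congr (Equiv.ofBijective _ h2), Nat.card_eq_fintype_card, Fintype.card_fin]

theorem exists_complement [Finite N] (hf : Function.Surjective f) (H : Exact f Y)
    (hcomm : ∀ a ∈ f.ker, ∀ b ∈ f.ker, a * b = b * a) (hsq : ∀ a ∈ f.ker, a * a = 1) :
    ∃ A : Subgroup N, Subgroup.IsComplement' f.ker A := by
  have : IsMulCommutative f.ker := ⟨⟨fun a b => Subtype.ext (hcomm a a.2 b b.2)⟩⟩
  have hidx : (f.ker ⊔ PP Y).index = 79695 := by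
    have h1 : (((PP Y).map f).comap f) = f.ker ⊔ PP Y := by
      rw [Subgroup.comap_map_eq, sup_comm]
    rw [← h1, Subgroup.index_comap_of_surjective _ hf]
    have h2 := Subgroup.card_mul_index ((PP Y).map f)
    rw [H.card_map, SporadicA.MathieuRecog.card_M23] at h2
    omega
  refine Solvable.Gaschutz.exists_complement f.ker (f.ker ⊔ PP Y) ?_ (PP Y) H.inf_ker rfl
  rw [hidx]
  have h1 : (fun k : f.ker => k ^ 79695) = fun k => k := by
    funext k
    have h2 : k ^ 2 = 1 := Subtype.ext (by
      rw [sq]
      exact hsq k k.2)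
    rw [show 79695 = 2 * 39847 + 1 by norm_num, pow_succ, pow_mul, h2, one_pow, one_mul]
  rw [h1]
  exact Function.bijective_id

end group

/-- **The criterion.** -/
theorem split_of_cert {N : Type*} [Group N] [Finite N] {f : N →* Spor.M23} {c X : ℕ → N} {t : ℕ → ℕ}
    {cols : ℕ → List ℕ} {lam : ℕ} (h : MExt f c cols) (D : Cert cols lam) (H : Lifts f c X t)
    (hlam : be t lam = 0) : ∃ A : Subgroup N, Subgroup.IsComplement' f.ker A := by
  obtain ⟨Y, hY⟩ := exact_of_cert h D H hlam
  refine exists_complement h.surj hY (fun a ha b hb => ?_) (fun a ha => ?_)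
  · obtain ⟨x, hx, rfl⟩ := (h.ker a).1 ha
    obtain ⟨y, hy, rfl⟩ := (h.ker b).1 hb
    exact h.comm hx hy
  · obtain ⟨x, hx, rfl⟩ := (h.ker a).1 ha
    exact h.sq hx

end Cfsg.Agent.H188.Split
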