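import Cfsg.Agent.H188.Setup

/-!
# Words of length 24 and linear maps (helper188)
-/

set_option autoImplicit false

namespace Cfsg.Agent.H188.Words

open Cfsg Cfsg.Agent.SporadicA.GolayBase Cfsg.Agent.SporadicA.GolayPerm
open Cfsg.Agent.H188.Lin Cfsg.Agent.H188.Tab

theorem pimg_xor' {P : ℕ} (hP : isPerm P = true) (m n : ℕ) :
    pimg P (m ^^^ n) = pimg P m ^^^ pimg P n := by
  apply eq_of_testBit_idx (pimg_lt hP _) (Nat.xor_lt_two_pow (pimg_lt hP _) (pimg_lt hP _))
  intro p
  obtain ⟨q, rfl⟩ := (permOf P hP).surjective p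
  rw [idx_permOf, Nat.testBit_xor, testBit_pimg_papp hP _ (idx_lt q),
    testBit_pimg_papp hP _ (idx_lt q), testBit_pimg_papp hP _ (idx_lt q), Nat.testBit_xor]

theorem pimg_zero' {P : ℕ} (hP : isPerm P = true) : pimg P 0 = 0 := by
  have h := pimg_xor' hP 0 0
  rw [Nat.xor_self] at h
  rw [h, Nat.xor_self]

theorem word_pimg' {g : Spor.M23} {P : ℕ} (hP : isPerm P = true) (hg : IsT g P) (m : ℕ) :
    word (pimg P m) = word m ∘ ⇑((g : Equiv.Perm GolayPt)⁻¹) := by
  funext p
  obtain ⟨q, rfl⟩ := (g : Equiv.Perm GolayPt).surjective p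
  have h1 : (g : Equiv.Perm GolayPt)⁻¹ ((g : Equiv.Perm GolayPt) q) = q :=
    Equiv.symm_apply_apply _ _
  rw [Function.comp_apply, h1, word_apply, word_apply, hg q,
    testBit_pimg_papp hP _ (idx_lt q)]

theorem isPerm_tab {k : ℕ} (hk : k < 9) : isPerm (tab k) = true := (okT_iff.1 (okT_tab k hk)).1.1

theorem map_linc {F : ℕ → ℕ} (hF : ∀ a b, F (a ^^^ b) = F a ^^^ F b) :
    ∀ (l : List ℕ) (a : ℕ), F (linc l a) = linc (l.map F) a
  | [], a => by
    have h := hF 0 0
    rw [Nat.xor_self] at h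
    show F 0 = 0
    rw [h, Nat.xor_self]
  | m :: ms, a => by
    have h0 : F 0 = 0 := by
      have h := hF 0 0
      rw [Nat.xor_self] at h
      rw [h, Nat.xor_self]
    rw [List.map_cons]
    unfold linc
    rw [hF, map_linc hF ms]
    congr 1
    rcases Nat.mod_two_eq_zero_or_one a with h | h
    · rw [h, zero_mul, zero_mul, h0]
    · rw [h, one_mul, one_mul]

theorem linc_mem {p : ℕ → Prop} (h0 : p 0) (hx : ∀ a b, p a → p b → p (a ^^^ b)) :
    ∀ (l : List ℕ) (a : ℕ), (∀ m ∈ l, p m) → p (linc l a)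
  | [], _, _ => h0
  | m :: ms, a, h => by
    unfold linc
    refine hx _ _ ?_ (linc_mem h0 hx ms _ fun x hx => h x (List.mem_cons_of_mem _ hx))
    rcases Nat.mod_two_eq_zero_or_one a with h1 | h1
    · rw [h1, zero_mul]; exact h0
    · rw [h1, one_mul]; exact h m List.mem_cons_self

/-- Two lists whose members differ by elements passing a test. -/
def all2 (p : ℕ → Bool) : List ℕ → List ℕ → Bool
  | [], [] => true
  | a :: as, b :: bs => p (a ^^^ b) && all2 p as bs
  | _, _ => false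

theorem linc_rel {p : ℕ → Bool} (h0 : p 0 = true) (hx : ∀ a b, p a = true → p b = true → p (a ^^^ b) = true) :
    ∀ (l l' : List ℕ) (a : ℕ), all2 p l l' = true → p (linc l a ^^^ linc l' a) = true
  | [], [], a, _ => by
    show p (0 ^^^ 0) = true
    rw [Nat.xor_self]; exact h0
  | m :: ms, m' :: ms', a, h => by
    unfold all2 at h
    rw [Bool.and_eq_true] at h
    unfold linc
    have h1 := linc_rel h0 hx ms ms' (a / 2) h.2
    have h2 : (a % 2 * m) ^^^ linc ms (a / 2) ^^^ ((a % 2 * m') ^^^ linc ms' (a / 2)) =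
        ((a % 2 * m) ^^^ (a % 2 * m')) ^^^ (linc ms (a / 2) ^^^ linc ms' (a / 2)) := by ac_rfl
    rw [h2]
    refine hx _ _ ?_ h1
    rcases Nat.mod_two_eq_zero_or_one a with h3 | h3
    · rw [h3, zero_mul, zero_mul, Nat.xor_self]; exact h0
    · rw [h3, one_mul, one_mul]; exact h.1
  | [], _ :: _, _, h => by cases h
  | _ :: _, [], _, h => by cases h

end Cfsg.Agent.H188.Words
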